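import Mathlib
import Cfsg.Agent.H01.FT3a
import Cfsg.Agent.H08.GWChar3

/-!
# A computable model of `GL(2,3)` (namespace `H01.G23`)

`K` with `equiv : K ≃* GL (Fin 2) (ZMod 3)`, four generalized characters vanishing off the 2-section of `-1`,
and the arithmetic `alg` of Brauer's order formula.
-/

set_option autoImplicit false
set_option linter.unusedSectionVars false
open Cfsg BG Subgroup H05

namespace H01.G23

/-- invertible 2 by 2 matrices over the field with three elements -/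
def K := {x : ZMod 3 × ZMod 3 × ZMod 3 × ZMod 3 // x.1 * x.2.2.2 - x.2.1 * x.2.2.1 ≠ 0}

instance : DecidableEq K := fun a b => decidable_of_iff (a.1 = b.1) Subtype.ext_iff.symm
instance : Fintype K := Subtype.fintype _

/-- determinant -/
def det (x : K) : ZMod 3 := x.1.1 * x.1.2.2.2 - x.1.2.1 * x.1.2.2.1

theorem mul_ne {a b : ZMod 3} (ha : a ≠ 0) (hb : b ≠ 0) : a * b ≠ 0 := by revert a b; decide
theorem det_sq (x : K) : det x * det x = 1 := (by decide : ∀ a : ZMod 3, a ≠ 0 → a * a = 1) _ x.2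

instance : Mul K := ⟨fun x y => ⟨(x.1.1 * y.1.1 + x.1.2.1 * y.1.2.2.1, x.1.1 * y.1.2.1 + x.1.2.1 * y.1.2.2.2,
  x.1.2.2.1 * y.1.1 + x.1.2.2.2 * y.1.2.2.1, x.1.2.2.1 * y.1.2.1 + x.1.2.2.2 * y.1.2.2.2),
  fun e => mul_ne x.2 y.2 (Eq.trans (by ring) e)⟩⟩
instance : One K := ⟨⟨(1, 0, 0, 1), by decide⟩⟩
instance : Inv K := ⟨fun x => ⟨(det x * x.1.2.2.2, -(det x * x.1.2.1), -(det x * x.1.2.2.1), det x * x.1.1),
  fun e => x.2 (by have := det_sq x; simp only [det] at this e ⊢; linear_combination e - (x.1.1 * x.1.2.2.2 - x.1.2.1 * x.1.2.2.1) * this)⟩⟩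

theorem mul_val (x y : K) : (x * y).1 = (x.1.1 * y.1.1 + x.1.2.1 * y.1.2.2.1, x.1.1 * y.1.2.1 + x.1.2.1 * y.1.2.2.2,
  x.1.2.2.1 * y.1.1 + x.1.2.2.2 * y.1.2.2.1, x.1.2.2.1 * y.1.2.1 + x.1.2.2.2 * y.1.2.2.2) := rfl

instance : Group K := Group.ofLeftAxioms
  (fun x y z => Subtype.ext (by simp only [mul_val, Prod.mk.injEq]; refine ⟨?_, ?_, ?_, ?_⟩ <;> ring))
  (by decide +kernel) (by decide +kernel)

theorem card_K : Nat.card K = 48 := by rw [Nat.card_eq_fintype_card]; decide +kernel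

/-- the matrix of an element -/
def mat : K →* Matrix (Fin 2) (Fin 2) (ZMod 3) where
  toFun x := !![x.1.1, x.1.2.1; x.1.2.2.1, x.1.2.2.2]
  map_one' := Matrix.one_fin_two.symm
  map_mul' x y := by rw [Matrix.mul_fin_two]; rfl

/-- the model is `GL(2,3)` -/
noncomputable def equiv : K ≃* GL (Fin 2) (ZMod 3) := MulEquiv.ofBijective mat.toHomUnits ⟨fun x y e => by
    have e : mat x = mat y := congrArg Units.val e
    exact Subtype.ext (Prod.ext (congrFun₂ e 0 0) (Prod.ext (congrFun₂ e 0 1) (Prod.ext (congrFun₂ e 1 0) (congrFun₂ e 1 1)))),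
  fun g => ⟨⟨(g 0 0, g 0 1, g 1 0, g 1 1), by
    have := (Matrix.GeneralLinearGroup.det g).ne_zero
    rwa [Matrix.GeneralLinearGroup.val_det_apply, Matrix.det_fin_two] at this⟩, Units.ext (Matrix.eta_fin_two g.1).symm⟩⟩

/-- the central involution -/
def z : K := ⟨(2, 0, 0, 2), by decide⟩
/-- a reflection -/
def s : K := ⟨(1, 0, 0, 2), by decide⟩
/-- a transvection -/
def b : K := ⟨(1, 1, 0, 1), by decide⟩
/-- an element of order eight -/
def a : K := ⟨(1, 1, 2, 1), by decide⟩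

theorem sd0 : a ^ 4 = z ∧ s * a * s⁻¹ = z * a⁻¹ ∧ s * b * s⁻¹ = b⁻¹ ∧ z * z = 1 ∧ z ≠ 1 := by decide +kernel

/-- integer valued generalized characters -/
def GC (φ : K → ℤ) : Prop := IsGeneralizedCharacter K fun g => (φ g : ℂ)

theorem GC.add {φ ψ : K → ℤ} (h : GC φ) (k : GC ψ) : GC fun g => φ g + ψ g := by
  have := H05.Cfsg.IsGeneralizedCharacter.add h k
  unfold GC; push_cast; exact this
theorem GC.sub {φ ψ : K → ℤ} (h : GC φ) (k : GC ψ) : GC fun g => φ g - ψ g := by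
  have := H05.Cfsg.IsGeneralizedCharacter.sub h k
  unfold GC; push_cast; exact this
theorem GC.mul {φ ψ : K → ℤ} (h : GC φ) (k : GC ψ) : GC fun g => φ g * ψ g := by
  have := H05.Cfsg.IsGeneralizedCharacter.mul h k
  unfold GC; push_cast; exact this
theorem GC.one : GC fun _ => 1 := by
  have := isGeneralizedCharacter_one (G := K)
  unfold GC; push_cast; exact this

theorem GC.act {X : Type} [Fintype X] [DecidableEq X] (m : K → X → X) (p : X → Prop) [DecidablePred p]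
    (h1 : ∀ x, m 1 x = x) (h2 : ∀ g h x, m (g * h) x = m g (m h x)) (hp : ∀ g x, p x → p (m g x)) :
    GC fun g => (Finset.univ.filter fun x => p x ∧ m g x = x).card := by
  let _ : MulAction K (Subtype p) :=
    { smul := fun g x => ⟨m g x.1, hp g _ x.2⟩
      one_smul := fun x => Subtype.ext (h1 _)
      mul_smul := fun g h x => Subtype.ext (h2 g h _) }
  have := (isCharacter_perm (G := K) (Subtype p)).isGeneralizedCharacter
  unfold GC
  convert this using 2 with g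
  rw [Int.cast_natCast, ← Fintype.card_subtype, ← Nat.card_eq_fintype_card]
  exact congrArg _ (Nat.card_congr ⟨fun x => ⟨⟨x.1, x.2.1⟩, Subtype.ext x.2.2⟩, fun x => ⟨x.1.1, x.1.2, congrArg Subtype.val x.2⟩,
    fun _ => rfl, fun _ => rfl⟩)

/-- a function of the conjugacy class: values at `1, -1`, orders `4, 8, 3, 6` and reflections -/
def tb (v1 v2 v4 v8 v3 v6 vr : ℤ) (x : K) : ℤ :=
  if det x = 1 then
    if x.1.1 + x.1.2.2.2 = 0 then v4 else if x.1.2.1 = 0 ∧ x.1.2.2.1 = 0 then (if x.1.1 = 1 then v1 else v2)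
    else if x.1.1 + x.1.2.2.2 = 1 then v6 else v3
  else if x.1.1 + x.1.2.2.2 = 0 then vr else v8

theorem GC.tb_of {φ : K → ℤ} (h : GC φ) (v1 v2 v4 v8 v3 v6 vr : ℤ) (e : ∀ x, φ x = tb v1 v2 v4 v8 v3 v6 vr x) :
    GC (tb v1 v2 v4 v8 v3 v6 vr) := funext e ▸ h

theorem gc3 : GC (tb 3 3 3 1 3 3 1) := (GC.act (fun g (r : ZMod 3) => det g * r) (fun _ => True) (by decide +kernel)
  (fun g h x => by simp only [det, mul_val]; ring) fun _ _ _ => trivial).tb_of _ _ _ _ _ _ _ (by decide +kernel)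

theorem gc9 : GC (tb 9 1 1 1 3 1 3) :=
  (GC.act (fun g (r : ZMod 3 × ZMod 3) => (g.1.1 * r.1 + g.1.2.1 * r.2, g.1.2.2.1 * r.1 + g.1.2.2.2 * r.2)) (fun _ => True)
  (by decide +kernel) (fun g h x => by simp only [mul_val, Prod.mk.injEq]; constructor <;> ring)
  fun _ _ _ => trivial).tb_of _ _ _ _ _ _ _ (by decide +kernel)

theorem gc4 : GC (tb 4 4 0 0 1 1 2) :=
  (GC.act (fun g (r : ZMod 3 × ZMod 3 × ZMod 3) =>
    (g.1.1 * g.1.1 * r.1 + (g.1.1 * g.1.2.1 + g.1.1 * g.1.2.1) * r.2.1 + g.1.2.1 * g.1.2.1 * r.2.2,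
     g.1.1 * g.1.2.2.1 * r.1 + (g.1.1 * g.1.2.2.2 + g.1.2.1 * g.1.2.2.1) * r.2.1 + g.1.2.1 * g.1.2.2.2 * r.2.2,
     g.1.2.2.1 * g.1.2.2.1 * r.1 + (g.1.2.2.1 * g.1.2.2.2 + g.1.2.2.1 * g.1.2.2.2) * r.2.1 + g.1.2.2.2 * g.1.2.2.2 * r.2.2))
  (fun r => r = (1, 0, 0) ∨ r = (0, 0, 1) ∨ r = (1, 1, 1) ∨ r = (1, 2, 1))
  (by decide +kernel) (fun g h x => by simp only [mul_val, Prod.mk.injEq]; refine ⟨?_, ?_, ?_⟩ <;> ring)
  (by decide +kernel)).tb_of _ _ _ _ _ _ _ (by decide +kernel)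

/-- class functions vanishing off the 2-section of `-1` -/
def ph (v4 v8 v6 : ℤ) : K → ℤ := tb 0 8 v4 v8 0 v6 0

theorem gc_ph : GC (ph 0 2 2) ∧ GC (ph 0 (-2) 2) ∧ GC (ph 4 0 2) ∧ GC (ph 4 0 (-4)) := by
  have o := GC.one
  have c2 := ((gc3.sub o).sub o).tb_of 1 1 1 (-1) 1 1 (-1) (by decide +kernel)
  have c4 := (gc4.sub o).tb_of 3 3 (-1) (-1) 0 0 1 (by decide +kernel)
  have c8 := ((gc9.sub gc4).sub o).tb_of 4 (-4) 0 0 1 (-1) 0 (by decide +kernel)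
  have c5 := (c4.mul c2).tb_of 3 3 (-1) 1 0 0 (-1) (by decide +kernel)
  have c3 := ((((c4.mul c4).sub o).sub c4).sub c5).tb_of 2 2 2 0 (-1) (-1) 0 (by decide +kernel)
  exact ⟨((o.add c5).sub c8).tb_of _ _ _ _ _ _ _ (by decide +kernel), ((c2.add c4).sub c8).tb_of _ _ _ _ _ _ _ (by decide +kernel),
    (((o.add c2).add c3).sub c8).tb_of _ _ _ _ _ _ _ (by decide +kernel),
    ((((c3.add c3).sub (c4.mul c8)).add c8).add c8).tb_of _ _ _ _ _ _ _ (by decide +kernel)⟩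

theorem ph_supp (v4 v8 v6 : ℤ) (x : K) (h : ph v4 v8 v6 x ≠ 0) : z ∈ zpowers x := by
  have : ∀ x : K, tb 0 1 1 1 0 1 0 x = 1 → ∃ k : Fin 5, x ^ k.1 = z := by decide +kernel
  obtain ⟨k, e⟩ := this x (by unfold ph tb at *; split_ifs at h ⊢ <;> simp_all)
  exact e ▸ npow_mem_zpowers x k

theorem gram : (∑ x, ph 0 2 2 x * ph 0 2 2 x = 48 * 3 ∧ ∑ x, ph 0 (-2) 2 x * ph 0 (-2) 2 x = 48 * 3 ∧
    ∑ x, ph 4 0 2 x * ph 4 0 2 x = 48 * 4 ∧ ∑ x, ph 4 0 (-4) x * ph 4 0 (-4) x = 48 * 6 ∧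
    ∑ x, ph 0 2 2 x * ph 0 (-2) 2 x = 48 * 1 ∧ ∑ x, ph 0 2 2 x * ph 4 0 2 x = 48 * 2 ∧
    ∑ x, ph 0 (-2) 2 x * ph 4 0 2 x = 48 * 2 ∧ ∑ x, ph 0 2 2 x * ph 4 0 (-4) x = 48 * 0 ∧
    ∑ x, ph 0 (-2) 2 x * ph 4 0 (-4) x = 48 * 0 ∧ ∑ x, ph 4 0 2 x * ph 4 0 (-4) x = 48 * 2) ∧
    (∑ x, ph 0 2 2 x = 48 * 1 ∧ ∑ x, ph 0 (-2) 2 x = 48 * 0 ∧ ∑ x, ph 4 0 2 x = 48 * 1 ∧ ∑ x, ph 4 0 (-4) x = 48 * 0) ∧
    ∀ x, 3 * ph 0 2 2 x + 3 * ph 0 (-2) 2 x - 2 * ph 4 0 2 x + 2 * ph 4 0 (-4) x = if x = z then 48 else 0 := by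
  decide +kernel

theorem pairs : (∑ v with v * v = 1 ∧ v ≠ 1, ∑ u with u * u = 1 ∧ u ≠ 1, ph 0 2 2 (u * v) = 192) ∧
    ∑ v with v * v = 1 ∧ v ≠ 1, ∑ u with u * u = 1 ∧ u ≠ 1, ph 0 (-2) 2 (u * v) = 192 := by
  decide +kernel

theorem ord_a : orderOf a = 8 := (orderOf_eq_iff (by norm_num)).2 (by decide +kernel)
theorem ord_z : orderOf z = 2 := orderOf_eq_prime (by decide +kernel) (by decide +kernel)
theorem ord_s : orderOf s = 2 := orderOf_eq_prime (by decide +kernel) (by decide +kernel)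
theorem ord_b : orderOf b = 3 := F3.ord3 (by decide +kernel) (by decide +kernel)

/-- a Sylow 2-subgroup -/
def P0 : Subgroup K where
  carrier := {x | x.1.2.2.2 = x.1.1 ∧ x.1.2.2.1 = -x.1.2.1 ∨ x.1.2.2.2 = -x.1.1 ∧ x.1.2.2.1 = x.1.2.1}
  one_mem' := by decide +kernel
  mul_mem' := fun {x y} => by simp only [Set.mem_setOf_eq]; revert x y; decide +kernel
  inv_mem' := fun {x} => by simp only [Set.mem_setOf_eq]; revert x; decide +kernel

theorem mem_P0 {x : K} : x ∈ P0 ↔ x.1.2.2.2 = x.1.1 ∧ x.1.2.2.1 = -x.1.2.1 ∨ x.1.2.2.2 = -x.1.1 ∧ x.1.2.2.1 = x.1.2.1 :=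
  Iff.rfl

theorem sd : H08.SD P0 a s z 0 where
  ord := ord_a
  sq := by decide +kernel
  rel := by decide +kernel
  nm := by rw [mem_zpowers_iff_mem_range_orderOf, ord_a]; decide +kernel
  mem := by simp only [mem_zpowers_iff_mem_range_orderOf, ord_a, mem_P0]; decide +kernel
  z_eq := by decide +kernel

theorem pow4 {x : K} (h : x ∈ P0) : x ^ 4 = 1 ∨ x ^ 4 = z := by rw [mem_P0] at h; revert x; decide +kernel

theorem eq_z {x : K} (h : ∀ y, x * y = y * x) (h1 : x ≠ 1) : x = z :=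
  (by decide +kernel : ∀ x : K, x * a = a * x → x * b = b * x → x ≠ 1 → x = z) x (h a) (h b) h1

theorem num0 {n a c e : ℤ} (hn : n % 32 = 16) (a0 : a ≠ 0) (a1 : a + 1 ≠ 0) (c0 : c ≠ 0) (c1 : c ≠ 1) (e0 : e ≠ 0)
    (s : c + e = a + 1) (e3 : (n : ℚ) * (1 + 9 / a - 16 / (a + 1)) = 9216)
    (e4 : (n : ℚ) * (1 / c + 9 / e - 16 / (a + 1)) = 9216) : n = 5616 ∨ n = 7920 := by
  have n0 : (n : ℚ) ≠ 0 := by rintro h; rw [h] at e3; norm_num at e3
  have a0' : (a : ℚ) ≠ 0 := by exact_mod_cast a0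
  have a1' : (a : ℚ) + 1 ≠ 0 := by exact_mod_cast a1
  have c0' : (c : ℚ) ≠ 0 := by exact_mod_cast c0
  have e0' : (e : ℚ) ≠ 0 := by exact_mod_cast e0
  have k : (1 : ℚ) + 9 / a = 1 / c + 9 / e := mul_left_cancel₀ n0 (by linear_combination e3 - e4)
  field_simp at k e3
  have k : (a + 9) * c * e = a * (e + 9 * c) := by exact_mod_cast k
  have e3 : n * ((a + 9) * (a + 1) - a * 16) = a * (a + 1) * 9216 := by exact_mod_cast e3
  obtain rfl : e = a + 1 - c := by omega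
  have k2 : (a + 9) * c = a * (a + 1) := mul_left_cancel₀ (sub_ne_zero.2 c1) (by linear_combination -k)
  have d : (a + 9) ∣ 72 := ⟨c - a + 8, by linear_combination -k2⟩
  have l1 := Int.le_of_dvd (by norm_num) d
  have l2 := Int.le_of_dvd (by norm_num) ((neg_dvd).2 d)
  generalize hu : a + 9 = u at d l1 l2
  obtain rfl : a = u - 9 := by omega
  have l3 : -72 ≤ u := by omega
  clear k k2 a0' a1' c0' e0' e4 n0 hu
  interval_cases u <;> omega

theorem num {n a b c e a5 b5 c5 e5 aw bw cw ew r55 r5w rww r5d rdd : ℤ} (hn : n % 32 = 16)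
    (a0 : a ≠ 0) (b0 : b ≠ 0) (c0 : c ≠ 0) (e0 : e ≠ 0) (c1 : c ≠ 1) (e1 : e ≠ 1)
    (g55 : 1 + a5 * a5 + b5 * b5 + c5 * c5 + e5 * e5 + r55 = 4) (gww : aw * aw + bw * bw + cw * cw + ew * ew + rww = 6)
    (g35 : 1 + a5 + b5 = 2) (g45 : b5 + c5 + e5 = 2) (g3w : aw + bw = 0) (g4w : bw + cw + ew = 0)
    (g5w : a5 * aw + b5 * bw + c5 * cw + e5 * ew + r5w = 2) (p5 : 0 ≤ r55)
    (cs1 : r5w ^ 2 ≤ r55 * rww) (cs2 : r5d ^ 2 ≤ r55 * rdd) (z3 : 1 + a + b = 0) (z4 : b + c + e = 0)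
    (z5 : 1 + a5 * a + b5 * b + c5 * c + e5 * e + r5d = 0)
    (e3 : (n : ℚ) * (1 + ((3 - 2 * a5 + 2 * aw : ℤ) : ℚ) ^ 2 / a + ((6 - 2 * b5 + 2 * bw : ℤ) : ℚ) ^ 2 / b) = 9216)
    (e4 : (n : ℚ) * (((6 - 2 * b5 + 2 * bw : ℤ) : ℚ) ^ 2 / b + ((3 - 2 * c5 + 2 * cw : ℤ) : ℚ) ^ 2 / c +
      ((3 - 2 * e5 + 2 * ew : ℤ) : ℚ) ^ 2 / e) = 9216) : n = 5616 ∨ n = 7920 := by
  obtain rfl : a5 = 1 - b5 := by omega
  obtain rfl : e5 = 2 - b5 - c5 := by omega
  obtain rfl : aw = -bw := by omega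
  obtain rfl : ew = -bw - cw := by omega
  obtain rfl : b = -(a + 1) := by omega
  have hb : ((-(a + 1) : ℤ) : ℚ) = -((a : ℚ) + 1) := by push_cast; ring
  rw [hb, div_neg] at e3 e4
  have one : (n : ℚ) * (1 + 1 / a - 36 / (a + 1)) = 9216 → (n : ℚ) * (1 / c + 1 / e - 36 / (a + 1)) = 9216 →
      n = 5616 ∨ n = 7920 := fun e3 e4 => by
    have n0 : (n : ℚ) ≠ 0 := by rintro h; rw [h] at e3; norm_num at e3
    have a0' : (a : ℚ) ≠ 0 := by exact_mod_cast a0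
    have c0' : (c : ℚ) ≠ 0 := by exact_mod_cast c0
    have e0' : (e : ℚ) ≠ 0 := by exact_mod_cast e0
    have k : (1 : ℚ) + 1 / a = 1 / c + 1 / e := mul_left_cancel₀ n0 (by linear_combination e3 - e4)
    field_simp at k
    have k : (a + 1) * c * e = a * (e + c) := by exact_mod_cast k
    have k2 : c * e = a := mul_left_cancel₀ (by omega : a + 1 ≠ 0) (by rw [show e + c = a + 1 by omega] at k; linear_combination k)
    exact absurd (by linear_combination k2 - z4 : (c - 1) * (e - 1) = 0) (mul_ne_zero (by omega) (by omega))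
  have A := fun (c e : ℤ) => num0 (n := n) (a := a) (c := c) (e := e) hn a0 (by omega)
  have bd : ∀ x : ℤ, x * x ≤ 3 → -1 ≤ x ∧ x ≤ 1 := fun x h => ⟨by nlinarith only [h], by nlinarith only [h]⟩
  have bd2 : ∀ x : ℤ, x * x ≤ 6 → -2 ≤ x ∧ x ≤ 2 := fun x h => ⟨by nlinarith only [h], by nlinarith only [h]⟩
  have q := fun x : ℤ => mul_self_nonneg x
  obtain ⟨l1, l2⟩ := bd b5 (by linarith only [g55, p5, q c5, q (1 - b5), q (2 - b5 - c5)])
  obtain ⟨l3, l4⟩ := bd c5 (by linarith only [g55, p5, q b5, q (1 - b5), q (2 - b5 - c5)])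
  have : b5 = 0 ∧ c5 = 1 ∧ r55 = 0 ∨ b5 = 1 ∧ r55 = 1 ∧ 0 ≤ c5 := by
    clear e3 e4 one A
    interval_cases b5 <;> interval_cases c5 <;> omega
  rcases this with ⟨rfl, rfl, rfl⟩ | ⟨rfl, rfl, l5⟩
  · have : r5d = 0 := by nlinarith only [cs2]
    omega
  have pw : 0 ≤ rww := by nlinarith only [cs1, sq_nonneg r5w]
  obtain ⟨m1, m2⟩ := bd bw (by linarith only [gww, pw, q cw, q (-bw - cw)])
  obtain ⟨m3, m4⟩ := bd2 cw (by linarith only [gww, pw, q bw, q (-bw - cw)])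
  obtain rfl : rww = 6 - (-bw * -bw + bw * bw + cw * cw + (-bw - cw) * (-bw - cw)) := by omega
  obtain rfl : r5w = 2 - ((1 - 1) * -bw + 1 * bw + c5 * cw + (2 - 1 - c5) * (-bw - cw)) := by omega
  interval_cases c5 <;> interval_cases bw <;> interval_cases cw <;> norm_num at cs1 <;> push_cast at e3 e4 <;>
    first
    | exact one (by linear_combination e3) (by linear_combination e4)
    | exact A c e c0 c1 e0 (by omega) (by linear_combination e3) (by linear_combination e4)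
    | exact A e c e0 e1 c0 (by omega) (by linear_combination e3) (by linear_combination e4)

theorem sgn_div {s x d : ℤ} (h : s ^ 2 = 1) : (s : ℚ) * (x : ℚ) ^ 2 / d = ((s * x : ℤ) : ℚ) ^ 2 / (s * d : ℤ) := by
  rcases sq_eq_one_iff.1 h with rfl | rfl
  all_goals simp [div_neg, neg_div]

theorem alg {I : Type*} [Fintype I] [DecidableEq I] (m3 m4 m5 mw d : I → ℤ) (o : I) {n : ℤ} (hn : n % 32 = 16)
    (g33 : ∑ i, m3 i * m3 i = 3) (g44 : ∑ i, m4 i * m4 i = 3) (g55 : ∑ i, m5 i * m5 i = 4) (gww : ∑ i, mw i * mw i = 6)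
    (g34 : ∑ i, m3 i * m4 i = 1) (g35 : ∑ i, m3 i * m5 i = 2) (g45 : ∑ i, m4 i * m5 i = 2) (g3w : ∑ i, m3 i * mw i = 0)
    (g4w : ∑ i, m4 i * mw i = 0) (g5w : ∑ i, m5 i * mw i = 2) (o3 : m3 o = 1) (o4 : m4 o = 0) (o5 : m5 o = 1)
    (ow : mw o = 0) (d0 : d o = 1) (dn : ∀ i, i ≠ o → 1 < d i) (z3 : ∑ i, m3 i * d i = 0) (z4 : ∑ i, m4 i * d i = 0)
    (z5 : ∑ i, m5 i * d i = 0)
    (e3 : (n : ℚ) * ∑ i, m3 i * ((3 * m3 i + 3 * m4 i - 2 * m5 i + 2 * mw i : ℤ) : ℚ) ^ 2 / d i = 9216)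
    (e4 : (n : ℚ) * ∑ i, m4 i * ((3 * m3 i + 3 * m4 i - 2 * m5 i + 2 * mw i : ℤ) : ℚ) ^ 2 / d i = 9216) :
    n = 5616 ∨ n = 7920 := by
  have er : ∀ (m : I → ℤ) (j : I), ∑ i, m i * m i = 3 → m j ^ 2 = 1 → ∑ i ∈ Finset.univ.erase j, m i ^ 2 = 2 :=
    fun m j h e => by
      have := Finset.add_sum_erase Finset.univ (fun i => m i ^ 2) (Finset.mem_univ j)
      simp only [← sq] at h
      omega
  have bd : ∀ i, m4 i ^ 2 ≤ 3 := fun i => by
    rw [← g44, sq]; exact Finset.single_le_sum (f := fun i => m4 i * m4 i) (fun j _ => mul_self_nonneg _) (Finset.mem_univ i)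
  obtain ⟨A, B, Ao, Bo, AB, sA, sB, z, a4, b4⟩ : ∃ A B, A ≠ o ∧ B ≠ o ∧ A ≠ B ∧ m3 A ^ 2 = 1 ∧ m3 B ^ 2 = 1 ∧
      (∀ k, k ≠ o → k ≠ A → k ≠ B → m3 k = 0) ∧ m4 A = 0 ∧ m4 B = m3 B := by
    obtain ⟨A, hA, B, hB, AB, sA, sB, z⟩ := F3.two_sq _ m3 (er m3 o g33 (by rw [o3]; rfl))
    have Ao := Finset.ne_of_mem_erase hA
    have Bo := Finset.ne_of_mem_erase hB
    have z : ∀ k, k ≠ o → k ≠ A → k ≠ B → m3 k = 0 := fun k h => z k (Finset.mem_erase.2 ⟨h, Finset.mem_univ _⟩)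
    rw [← Finset.sum_subset (Finset.subset_univ {o, A, B}) fun k _ hk => by
      simp only [Finset.mem_insert, Finset.mem_singleton, not_or] at hk
      rw [z k hk.1 hk.2.1 hk.2.2, zero_mul], Finset.sum_insert (by simp [Ao.symm, Bo.symm]), Finset.sum_pair AB, o4] at g34
    have b1 := bd A
    have b2 := bd B
    have : (m4 A = 0 ∧ m4 B = m3 B) ∨ m4 B = 0 ∧ m4 A = m3 A := by
      generalize m4 A = x at *
      generalize m4 B = y at *
      have : x ≤ 1 := by nlinarith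
      have : -1 ≤ x := by nlinarith
      have : y ≤ 1 := by nlinarith
      have : -1 ≤ y := by nlinarith
      rcases sq_eq_one_iff.1 sA with e | e <;> rcases sq_eq_one_iff.1 sB with e' | e' <;> rw [e, e'] at g34 ⊢ <;> omega
    rcases this with h | h
    exacts [⟨A, B, Ao, Bo, AB, sA, sB, z, h⟩, ⟨B, A, Bo, Ao, AB.symm, sB, sA, fun k h1 h2 h3 => z k h1 h3 h2, h⟩]
  obtain ⟨C, hC, E, hE, CE, sC, sE, y⟩ := F3.two_sq _ m4 (er m4 B g44 (by rw [b4, sB]))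
  have CB := Finset.ne_of_mem_erase hC
  have EB := Finset.ne_of_mem_erase hE
  have nz : ∀ {k j}, m4 k ^ 2 = 1 → m4 j = 0 → k ≠ j := fun h h' e => by rw [e, h'] at h; norm_num at h
  have Co := nz sC o4
  have Eo := nz sE o4
  have CA := nz sC a4
  have EA := nz sE a4
  set T := Finset.univ \ {o, A, B, C, E} with hT
  have sp : ∀ {R : Type} [AddCommMonoid R] (f : I → R), ∑ i, f i = f o + f A + f B + f C + f E + ∑ i ∈ T, f i :=
    fun f => by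
      rw [← Finset.sum_sdiff (Finset.subset_univ {o, A, B, C, E}), Finset.sum_insert (by simp [Ao.symm, Bo.symm, Co.symm, Eo.symm]),
        Finset.sum_insert (by simp [AB, CA.symm, EA.symm]), Finset.sum_insert (by simp [CB.symm, EB.symm]), Finset.sum_pair CE]
      abel
  have t : ∀ k ∈ T, m3 k = 0 ∧ m4 k = 0 := fun k hk => by
    simp only [hT, Finset.mem_sdiff, Finset.mem_insert, Finset.mem_singleton, not_or] at hk
    exact ⟨z k hk.2.1 hk.2.2.1 hk.2.2.2.1, y k (Finset.mem_erase.2 ⟨hk.2.2.2.1, hk.1⟩) hk.2.2.2.2.1 hk.2.2.2.2.2⟩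
  have c3 := z C Co CA CB
  have f3 := z E Eo EA EB
  have t3 : ∀ f : I → ℤ, ∑ i ∈ T, m3 i * f i = 0 := fun f => Finset.sum_eq_zero fun k hk => by rw [(t k hk).1, zero_mul]
  have t4 : ∀ f : I → ℤ, ∑ i ∈ T, m4 i * f i = 0 := fun f => Finset.sum_eq_zero fun k hk => by rw [(t k hk).2, zero_mul]
  rw [sp, Finset.sum_eq_zero (s := T) fun k hk => by simp [(t k hk).1, (t k hk).2]] at e3 e4
  rw [sp] at g55 gww g35 g45 g3w g4w g5w z3 z4 z5
  simp only [t3, t4, o3, o4, o5, ow, d0, c3, f3, a4, b4] at g55 gww g35 g45 g3w g4w g5w z3 z4 z5 e3 e4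
  have nz : ∀ {s k}, s ^ 2 = 1 → k ≠ o → s * d k ≠ 0 ∧ s * d k ≠ 1 := fun h hk => by
    have := dn _ hk
    rcases sq_eq_one_iff.1 h with rfl | rfl <;> omega
  rw [sgn_div sA, sgn_div sB] at e3
  rw [sgn_div sB, sgn_div sC, sgn_div sE] at e4
  refine num (a := m3 A * d A) (b := m3 B * d B) (c := m4 C * d C) (e := m4 E * d E) (a5 := m3 A * m5 A) (b5 := m3 B * m5 B)
    (c5 := m4 C * m5 C) (e5 := m4 E * m5 E) (aw := m3 A * mw A) (bw := m3 B * mw B) (cw := m4 C * mw C) (ew := m4 E * mw E)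
    (r55 := ∑ i ∈ T, m5 i * m5 i) (r5w := ∑ i ∈ T, m5 i * mw i) (rww := ∑ i ∈ T, mw i * mw i) (r5d := ∑ i ∈ T, m5 i * d i)
    (rdd := ∑ i ∈ T, d i * d i) hn (nz sA Ao).1 (nz sB Bo).1 (nz sC Co).1 (nz sE Eo).1 (nz sC Co).2 (nz sE Eo).2
    (by linear_combination g55 + m5 A ^ 2 * sA + m5 B ^ 2 * sB + m5 C ^ 2 * sC + m5 E ^ 2 * sE)
    (by linear_combination gww + mw A ^ 2 * sA + mw B ^ 2 * sB + mw C ^ 2 * sC + mw E ^ 2 * sE)
    (by linear_combination g35) (by linear_combination g45) (by linear_combination g3w) (by linear_combination g4w)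
    (by linear_combination g5w + m5 A * mw A * sA + m5 B * mw B * sB + m5 C * mw C * sC + m5 E * mw E * sE)
    (Finset.sum_nonneg fun _ _ => mul_self_nonneg _) (by simpa only [sq] using Finset.sum_mul_sq_le_sq_mul_sq T m5 mw)
    (by simpa only [sq] using Finset.sum_mul_sq_le_sq_mul_sq T m5 d) (by linear_combination z3) (by linear_combination z4)
    (by linear_combination z5 + m5 A * d A * sA + m5 B * d B * sB + m5 C * d C * sC + m5 E * d E * sE) ?_ ?_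
  · rw [← e3, show 3 - 2 * (m3 A * m5 A) + 2 * (m3 A * mw A) = m3 A * (3 * m3 A + 3 * 0 - 2 * m5 A + 2 * mw A) by
      linear_combination -3 * sA, show 6 - 2 * (m3 B * m5 B) + 2 * (m3 B * mw B) =
      m3 B * (3 * m3 B + 3 * m3 B - 2 * m5 B + 2 * mw B) by linear_combination -6 * sB]
    norm_num
  · rw [← e4, show 3 - 2 * (m4 C * m5 C) + 2 * (m4 C * mw C) = m4 C * (3 * 0 + 3 * m4 C - 2 * m5 C + 2 * mw C) by
      linear_combination -3 * sC, show 3 - 2 * (m4 E * m5 E) + 2 * (m4 E * mw E) =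
      m4 E * (3 * 0 + 3 * m4 E - 2 * m5 E + 2 * mw E) by linear_combination -3 * sE,
      show 6 - 2 * (m3 B * m5 B) + 2 * (m3 B * mw B) =
      m3 B * (3 * m3 B + 3 * m3 B - 2 * m5 B + 2 * mw B) by linear_combination -6 * sB]
    norm_num
end H01.G23
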