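import Mathlib
import Cfsg.Agent.H01.GL23a
import Cfsg.Agent.H08.SD

/-!
# Groups with an involution centralizer `GL(2,3)`: the order (namespace `H01.G23`)

`St f`: `f` embeds the model `K` onto the centralizer of `f z`. `St.card`: Brauer's order formula.
-/

set_option autoImplicit false
set_option linter.unusedSectionVars false
open Cfsg BG Subgroup H05 H06 H08 ComplexConjugate

namespace H01.G23
universe u
variable {G : Type u} [Group G] [Finite G] {f : K →* G} {g t u v : G} {x y : K}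

/-- `f` identifies `GL(2,3)` with the centralizer of `f z` -/
structure St (f : K →* G) : Prop where
  inj : Function.Injective f
  rg : f.range = C_[f z]

theorem exists_st (ht : orderOf t = 2) (e : C_[t] ≃* GL (Fin 2) (ZMod 3)) : ∃ f : K →* G, St f := by
  let φ := equiv.trans e.symm
  let f : K →* G := (C_[t]).subtype.comp φ.toMonoidHom
  have inj : Function.Injective f := Subtype.val_injective.comp φ.injective
  have rg : f.range = C_[t] := by
    rw [MonoidHom.range_comp, MonoidHom.range_eq_top.2 φ.surjective, ← MonoidHom.range_eq_map, range_subtype]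
  obtain ⟨x, hx⟩ : t ∈ f.range := rg ▸ mem_cent1.2 rfl
  have : x = z := eq_z (fun y => inj (by rw [map_mul, map_mul, hx]; exact (mem_cent1.1 (rg ▸ ⟨y, rfl⟩)).symm))
    fun e => by rw [← hx, e, map_one, orderOf_one] at ht; omega
  exact ⟨f, inj, by rwa [← this, hx]⟩

namespace St
variable (h : St f)
include h

theorem ord (x : K) : orderOf (f x) = orderOf x := orderOf_injective f h.inj x
theorem oz : orderOf (f z) = 2 := (h.ord z).trans ord_z
theorem mem (c : g * f z = f z * g) : ∃ x, f x = g := (h.rg ▸ mem_cent1.2 c : g ∈ f.range)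
theorem comm (x : K) : f x * f z = f z * f x := mem_cent1.1 (h.rg ▸ ⟨x, rfl⟩)
theorem card_C : Nat.card C_[f z] = 48 := by
  rw [← h.rg, ← card_K]; exact (Nat.card_congr (MonoidHom.ofInjective h.inj).toEquiv).symm
theorem sdf : SD (P0.map f) (f a) (f s) (f z) 0 := sd.map h.inj

theorem norm_P : N_(P0.map f) ≤ C_[f z] := fun g hg => by
  obtain ⟨x, hx, e⟩ := conj_mem_of_norm hg h.sdf.a_mem
  have k : f (x ^ 4) = g * f z * g⁻¹ := by rw [map_pow, e, conj_pow, ← map_pow, sd0.1]
  rcases pow4 hx with e | e <;> rw [e] at k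
  · have := h.oz
    rw [← BG.orderOf_conj g, ← k, map_one, orderOf_one] at this
    omega
  · exact mem_cent1.2 (mul_inv_eq_iff_eq_mul.1 k.symm)

theorem sylC : IsSylowIn 2 (P0.map f) C_[f z] := by
  refine isSylowIn_mk Nat.prime_two h.sdf.le_C h.sdf.isPGroup ?_
  have := card_mul_relIndex h.sdf.le_C
  rw [h.sdf.card, h.card_C] at this
  omega

theorem syl : IsSylowIn 2 (P0.map f) ⊤ := h.sylC.of_norm_le Nat.prime_two le_top (inf_le_right.trans h.norm_P)

theorem card_mod : Nat.card G % 32 = 16 := by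
  have := card_mul_relIndex (le_top (a := P0.map f))
  have k := h.syl.not_dvd' Nat.prime_two
  rw [h.sdf.card, card_top] at this
  omega

theorem isConj (hG : ∀ H : Subgroup G, H.index ≠ 2) (hu : orderOf u = 2) : IsConj (f z) u := by
  obtain ⟨P, e⟩ := h.syl.exists_sylow_top Nat.prime_two
  exact (e ▸ h.sdf : SD (P : Subgroup G) _ _ _ 0).isConj_z hG hu

theorem ti (hu : f z ∈ zpowers u) (hg : f z ∈ zpowers (g * u * g⁻¹)) : g ∈ f.range := by
  obtain ⟨k, e⟩ := mem_zpowers_iff.1 hu
  refine h.mem (mul_inv_eq_iff_eq_mul.1 (invol_eq_of_isCyclic (by rw [BG.orderOf_conj, h.oz]) h.oz ?_ hg))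
  rw [← e, ← conj_zpow]
  exact zpow_mem (mem_zpowers _) k

theorem inv_mem (hu : u * u = 1) (hv : v * v = 1) (e : f z ∈ zpowers (u * v)) : u ∈ f.range ∧ v ∈ f.range := by
  have k : u * (u * v) * u⁻¹ = (u * v)⁻¹ := by
    rw [← mul_assoc, hu, one_mul, mul_inv_rev, inv_eq_of_mul_eq_one_right hv]
  have m := h.ti e (by rwa [k, zpowers_inv])
  exact ⟨m, (mul_mem_cancel_left m).1 (h.ti e (by rwa [mul_inv_cancel_right]))⟩

end St

/-- transport of an integer valued function to the range -/
noncomputable def th (f : K →* G) (φ : K → ℤ) : f.range → ℂ := fun x => φ (Function.invFun f x)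

namespace St
variable (h : St f) [Fintype G] [Fintype f.range] {φ ψ : K → ℤ}
include h

theorem th_eq (φ : K → ℤ) (x : K) : th f φ (f.rangeRestrict x) = φ x := by
  rw [th, MonoidHom.coe_rangeRestrict, Function.leftInverse_invFun h.inj]

theorem th_gen (c : GC φ) : IsGeneralizedCharacter f.range (th f φ) := by
  convert H05.Cfsg.IsGeneralizedCharacter.comp c (MonoidHom.ofInjective h.inj).symm.toMonoidHom using 1
  ext x
  obtain ⟨x, rfl⟩ := f.rangeRestrict_surjective x
  rw [h.th_eq]
  exact congrArg (fun y => (φ y : ℂ)) ((MonoidHom.ofInjective h.inj).symm_apply_apply x).symm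

theorem inner (φ : K → ℤ) (F : f.range → ℂ) :
    classInner (th f φ) F = 48⁻¹ * ∑ x, φ x * conj (F (f.rangeRestrict x)) := by
  rw [← classInner_comp_mulEquiv (MonoidHom.ofInjective h.inj), classInner, card_K]
  exact congrArg _ (Finset.sum_congr rfl fun x _ => congrArg (· * _) (h.th_eq φ x))

theorem supp (c : ∀ x, φ x ≠ 0 → z ∈ zpowers x) (x : f.range) (n : x.1 ∉ {u | f z ∈ zpowers u}) : th f φ x = 0 := by
  obtain ⟨x, rfl⟩ := f.rangeRestrict_surjective x
  rw [h.th_eq]
  exact Int.cast_eq_zero.2 (by_contra fun e => n ((mem_zpowers_map h.inj).2 (c x e)))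

theorem gram' (c : ∀ x, φ x ≠ 0 → z ∈ zpowers x) (c' : ∀ x, ψ x ≠ 0 → z ∈ zpowers x) (k : GC ψ) {n : ℤ}
    (e : ∑ x, φ x * ψ x = 48 * n) : classInner (indFun f.range (th f φ)) (indFun f.range (th f ψ)) = n := by
  rw [classInner_indFun_of_ti _ _ _ _ _ (h.th_gen k).isClassFunction (h.supp c') (h.supp c) fun _ a _ b => h.ti a b,
    h.inner]
  simp only [h.th_eq, map_intCast, ← Int.cast_mul, ← Int.cast_sum, e]
  push_cast; ring

theorem pair (hG : ∀ H : Subgroup G, H.index ≠ 2) (c : ∀ x, φ x ≠ 0 → z ∈ zpowers x)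
    (e : ∑ v with v * v = 1 ∧ v ≠ 1, ∑ u with u * u = 1 ∧ u ≠ 1, φ (u * v) = 192) :
    pairSum (f z) (f z) (indFun f.range (th f φ)) = Nat.card G * 9216 := by
  classical
  have o : ∀ u : G, orderOf u = 2 ↔ u * u = 1 ∧ u ≠ 1 := fun u => by rw [orderOf_eq_prime_iff, sq]
  have o' : ∀ u : K, (f u * f u = 1 ∧ f u ≠ 1) ↔ u * u = 1 ∧ u ≠ 1 := fun u => by
    rw [← map_mul, map_eq_one_iff f h.inj, Ne, map_eq_one_iff f h.inj]
  have k : ∀ u v : G, u * u = 1 → v * v = 1 → ¬ (u ∈ f.range ∧ v ∈ f.range) → extendByZero f.range (th f φ) (u * v) = 0 :=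
    fun u v hu hv n => by_contra fun e => by
      obtain ⟨m, e⟩ := extendByZero_ne_zero _ e
      exact n (h.inv_mem hu hv (by_contra fun q => e (h.supp c _ q)))
  have E : ∑ v with orderOf v = 2, ∑ u with orderOf u = 2, extendByZero f.range (th f φ) (u * v) = (192 : ℤ) := by
    rw [← e]
    simp only [Finset.sum_filter, o]
    push_cast
    refine (Fintype.sum_of_injective f h.inj _ _ (fun v n => ?_) fun v => ?_).symm
    · exact ite_eq_right_iff.2 fun hv => Finset.sum_eq_zero fun u _ => ite_eq_right_iff.2 fun hu =>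
        k u v hu.1 hv.1 fun q => n q.2
    · rw [if_congr (o' v) rfl rfl]
      split_ifs with hv
      · refine Fintype.sum_of_injective f h.inj _ _ (fun u n => ite_eq_right_iff.2 fun hu =>
          k u _ hu.1 ((o' v).2 hv).1 fun q => n q.1) fun u => ?_
        rw [if_congr (o' u) rfl rfl, ← map_mul, ← h.th_eq, ← extendByZero_coe _ (th f φ), MonoidHom.coe_rangeRestrict]
      · rfl
  rw [pairSum_indFun, pairSum_eq_invols h.oz fun u => h.isConj hG, E, h.card_C, ← f.range.card_mul_index, h.rg, h.card_C]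
  push_cast; ring

end St

theorem St.card [IsSimpleGroup G] (h : St f) : Nat.card G = 5616 ∨ Nat.card G = 7920 := by
  classical
  have := Fintype.ofFinite G
  have := Fintype.ofFinite f.range
  have nc : ∀ φ : G →* ℂˣ, φ = 1 := fun φ => by
    refine (φ.normal_ker.eq_bot_or_eq_top.resolve_left fun e => ?_) |> MonoidHom.ker_eq_top_iff.1
    have := (MonoidHom.ker_eq_bot_iff φ).1 e (a₁ := f (a * s)) (a₂ := f (s * a)) (by simp only [map_mul, mul_comm])
    exact absurd (h.inj this) (by decide +kernel)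
  have hG : ∀ H : Subgroup G, H.index ≠ 2 := fun H e => by
    have := normal_of_index_eq_two e
    rcases this.eq_bot_or_eq_top with r | r <;> rw [r] at e
    · have := h.card_mod; rw [index_bot] at e; omega
    · simp at e
  have ex : ∀ {φ}, GC φ → ∃ m : IrrCharacter G → ℤ, ∀ χ : IrrCharacter G, classInner (indFun f.range (th f φ)) χ = m χ :=
    fun c => (isGeneralizedCharacter_indFun _ (h.th_gen c)).exists_int_coeff.imp fun _ => And.left
  obtain ⟨c3, c4, c5, cw⟩ := gc_ph
  obtain ⟨m3, h3⟩ := ex c3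
  obtain ⟨m4, h4⟩ := ex c4
  obtain ⟨m5, h5⟩ := ex c5
  obtain ⟨mw, hw⟩ := ex cw
  choose d d0 hd using fun χ : IrrCharacter G => χ.2.exists_degree_pos
  let o : IrrCharacter G := ⟨1, isIrrCharacter_one⟩
  have gr : ∀ {p q r p' q' r' n : ℤ} {m m' : IrrCharacter G → ℤ}, GC (ph p q r) → GC (ph p' q' r') →
      (∀ χ : IrrCharacter G, classInner (indFun f.range (th f (ph p q r))) χ = m χ) →
      (∀ χ : IrrCharacter G, classInner (indFun f.range (th f (ph p' q' r'))) χ = m' χ) →
      ∑ x, ph p q r x * ph p' q' r' x = 48 * n → ∑ i, m i * m' i = n := fun c c' a b e => by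
    have := (isGeneralizedCharacter_indFun _ (h.th_gen c)).classInner_eq_sum_int
      (isGeneralizedCharacter_indFun _ (h.th_gen c')) a b
    rw [h.gram' (ph_supp _ _ _) (ph_supp _ _ _) c' e] at this
    exact_mod_cast this.symm
  have fr : ∀ (φ) (χ : IrrCharacter G), classInner (indFun f.range (th f φ)) χ = 48⁻¹ * ∑ x, φ x * conj (χ.1 (f x)) :=
    fun φ χ => by rw [frobenius_reciprocity _ _ _ χ.2.isClassFunction, h.inner]; rfl
  have tr : ∀ {φ : K → ℤ} {n : ℤ} {m : IrrCharacter G → ℤ},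
      (∀ χ : IrrCharacter G, classInner (indFun f.range (th f φ)) χ = m χ) → ∑ x, φ x = 48 * n → m o = n :=
    fun {φ n m} a e => by
      have := (a o).symm.trans (fr φ o)
      simp only [o, Pi.one_apply, map_one, mul_one, ← Int.cast_sum, e] at this
      exact_mod_cast this.trans (by push_cast; ring : _ = (n : ℂ))
  have dg : ∀ {p q r : ℤ} {m : IrrCharacter G → ℤ}, GC (ph p q r) →
      (∀ χ : IrrCharacter G, classInner (indFun f.range (th f (ph p q r))) χ = m χ) → ∑ i, m i * d i = 0 :=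
    fun {p q r m} c a => by
      have := congrFun (isGeneralizedCharacter_indFun _ (h.th_gen c)).isClassFunction.eq_sum 1
      rw [indFun_one, h.supp (ph_supp _ _ _) 1 fun e => absurd (h.oz.symm.trans (orderOf_eq_one_iff.2 (by simpa using e)))
        (by norm_num)] at this
      simp only [a, Finset.sum_apply, Pi.smul_apply, hd, smul_eq_mul, mul_zero] at this
      exact_mod_cast this.symm
  have vt : ∀ χ : IrrCharacter G, χ.1 (f z) = (3 * m3 χ + 3 * m4 χ - 2 * m5 χ + 2 * mw χ : ℤ) := fun χ => by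
    have : ((3 * m3 χ + 3 * m4 χ - 2 * m5 χ + 2 * mw χ : ℤ) : ℂ) = conj (χ.1 (f z)) := by
      push_cast
      rw [← h3, ← h4, ← h5, ← hw, fr, fr, fr, fr]
      calc _ = 48⁻¹ * ∑ x, ((3 * ph 0 2 2 x + 3 * ph 0 (-2) 2 x - 2 * ph 4 0 2 x + 2 * ph 4 0 (-4) x : ℤ) : ℂ) *
            conj (χ.1 (f x)) := by
            simp only [Finset.mul_sum, ← Finset.sum_add_distrib, ← Finset.sum_sub_distrib]
            exact Finset.sum_congr rfl fun x _ => by push_cast; ring
        _ = _ := by simp [gram.2.2]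
    rw [← map_intCast (starRingEnd ℂ), this, Complex.conj_conj]
  have pr : ∀ {p q r : ℤ} {m : IrrCharacter G → ℤ},
      (∀ χ : IrrCharacter G, classInner (indFun f.range (th f (ph p q r))) χ = m χ) →
      ∑ v with v * v = 1 ∧ v ≠ 1, ∑ u with u * u = 1 ∧ u ≠ 1, ph p q r (u * v) = 192 →
      ((Nat.card G : ℤ) : ℚ) * ∑ i, m i * ((3 * m3 i + 3 * m4 i - 2 * m5 i + 2 * mw i : ℤ) : ℚ) ^ 2 / (d i : ℤ) = 9216 :=
    fun {p q r m} a e => by
      have := h.pair hG (ph_supp _ _ _) e
      rw [pairSum_eq_sum (indFun_isClassFunction _ _), sq, mul_assoc] at this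
      have := mul_left_cancel₀ (natCard_ne_zero G) this
      simp only [a, vt, hd] at this
      apply Rat.cast_injective (α := ℂ)
      push_cast at this ⊢
      rw [← this]
      exact congrArg _ (Finset.sum_congr rfl fun i _ => by ring)
  obtain ⟨⟨g1, g2, g3, g4, g5, g6, g7, g8, g9, g10⟩, ⟨t1, t2, t3, t4⟩, -⟩ := gram
  have := alg m3 m4 m5 mw (fun i => d i) o (n := Nat.card G) (by have := h.card_mod; omega) (gr c3 c3 h3 h3 g1)
    (gr c4 c4 h4 h4 g2) (gr c5 c5 h5 h5 g3) (gr cw cw hw hw g4) (gr c3 c4 h3 h4 g5) (gr c3 c5 h3 h5 g6) (gr c4 c5 h4 h5 g7)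
    (gr c3 cw h3 hw g8) (gr c4 cw h4 hw g9) (gr c5 cw h5 hw g10) (tr h3 t1) (tr h4 t2) (tr h5 t3) (tr hw t4)
    (by have := hd o; simp only [o, Pi.one_apply] at this; exact_mod_cast this.symm)
    (fun i n => by
      have := d0 i
      have : d i ≠ 1 := fun e => n (Subtype.ext (by
        obtain ⟨φ, k⟩ := i.2.isCharacter.exists_monoidHom (by rw [hd, e]; simp)
        rw [k, nc φ]; rfl))
      omega) (dg c3 h3) (dg c4 h4) (dg c5 h5) (pr h3 pairs.1) (pr h4 pairs.2)
  omega

end H01.G23
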