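import Mathlib
import Cfsg.Agent.H01.GL23b
import Cfsg.Agent.H06.JR1
import Cfsg.Agent.H22.Two
import Cfsg.Agent.H05.ONan4
import Cfsg.Agent.H18.PrimeDegree
import Cfsg.Agent.H19.RecM11

/-!
# Groups with an involution centralizer `GL(2,3)`: identification (namespace `H01.G23`)

`St.simple`, `fin13` (a subgroup of index 13 with a large abelian normal subgroup), `St.psl`, `St.main`.
-/

set_option autoImplicit false
set_option linter.unusedSectionVars false
open Cfsg BG Subgroup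

namespace H01.G23
universe u
variable {G : Type u} [Group G] [Finite G] {f : K →* G} {g t u v w y : G} {A E M N W : Subgroup G}

theorem kf : (∀ x : K, x ^ 3 = 1 → x ≠ 1 → ∃ c, c * b * c⁻¹ = x) ∧ (∀ x : K, x * b = b * x → x ^ 3 = 1 → ∃ k : Fin 3, b ^ k.1 = x) ∧
    (∀ x : K, x * b = b * x → x ^ 16 = 1 → x = 1 ∨ x = z) ∧ (∃ c, (b * (c * b * c⁻¹)) ^ 2 = z) ∧ z ≠ s ∧ z * s = s * z ∧
    s * b * (s * b) = 1 ∧ s * b ≠ 1 ∧ s * s = 1 := by decide +kernel

theorem exists_fix {p : ℕ} (hp : p.Prime) (hP : IsPGroup p A) {Ω : Set G} (h : ∀ g ∈ A, ∀ x ∈ Ω, g * x * g⁻¹ ∈ Ω)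
    (hn : ¬ p ∣ Ω.ncard) : ∃ x ∈ Ω, A ≤ C_[x] := by
  let _ := H05.conjAct A (· ∈ Ω) h
  have := Fact.mk hp
  obtain ⟨x, hx⟩ := hP.nonempty_fixed_point_of_prime_not_dvd_card {x : G // x ∈ Ω} hn
  exact ⟨x.1, x.2, fun g hg => mem_cent1.2 (mul_inv_eq_iff_eq_mul.1 (congrArg Subtype.val (hx ⟨g, hg⟩)))⟩

theorem norm_top (N : Subgroup G) [h : N.Normal] (g : G) : g ∈ N_(N) := le_norm_iff.2 (fun a _ k hk => h.conj_mem k hk a) (mem_top g)

theorem fin13 [IsSimpleGroup G] (nc : ¬ IsMulCommutative G) (hM : M.index = 13) (l : E ≤ M) (n : M ≤ N_(E))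
    (ab : IsMulCommutative E) (d : 9 ∣ Nat.card E) :
    ∃ (F : Type) (_ : Field F) (_ : Fintype F), Fintype.card F = 3 ∧
      Nonempty (G ≃* Matrix.ProjectiveSpecialLinearGroup (Fin 3) F) := by
  classical
  have := Fintype.ofFinite (G ⧸ M)
  have cX : Fintype.card (G ⧸ M) = 13 := by rw [← Nat.card_eq_fintype_card]; exact hM
  have hk : (MulAction.toPermHom G (G ⧸ M)).ker = ⊥ := by
    rw [← normalCore_eq_ker]
    refine (normalCore_normal M).eq_bot_or_eq_top.resolve_right fun e => ?_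
    rw [top_le_iff.1 (e.ge.trans (normalCore_le M)), index_top] at hM
    omega
  have fa : ∀ g : G, (∀ x : G ⧸ M, g • x = x) → g = 1 := fun g e => (eq_bot_iff_forall _).1 hk g (Equiv.ext e)
  have : FaithfulSMul G (G ⧸ M) := ⟨fun {a b} e => by
    rw [← mul_inv_eq_one]
    exact fa _ fun x => by rw [mul_smul, e, smul_inv_smul]⟩
  have two := (H18.burnside_prime_degree (G := G) (α := G ⧸ M) (by rw [cX]; norm_num)).resolve_left
    fun e => nc ⟨⟨IsSimpleGroup.comm_iff_isSolvable.2 e⟩⟩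
  have st : ∀ g : G, g • ((1 : G) : G ⧸ M) = ((1 : G) : G ⧸ M) ↔ g ∈ M := fun g => by
    rw [← MulAction.mem_stabilizer_iff, MulAction.stabilizer_quotient]
  obtain ⟨p, N, hN, -⟩ := H05.ON.of_normal fa (fun a b c d h1 h2 => MulAction.is_two_pretransitive_iff.1 two h1 h2)
    ((1 : G) : G ⧸ M) E (fun a ha => (st a).2 (l ha)) (fun g hg a ha => conj_mem_of_norm (n ((st g).1 hg)) ha)
    (fun a ha b hb => mul_comm_of_abelian ab ha hb) (by
      by_contra! k
      let _ : MulAction E {y : G ⧸ M // y ≠ ((1 : G) : G ⧸ M)} :=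
        { smul := fun a y => ⟨a.1 • y.1, fun e => y.2 (MulAction.injective a.1 (e.trans ((st a).2 (l a.2)).symm))⟩
          one_smul := fun y => Subtype.ext (one_smul G y.1)
          mul_smul := fun a b y => Subtype.ext (mul_smul a.1 b.1 y.1) }
      have := d.trans (H02.card_dvd_of_free (A := E) (X := {y : G ⧸ M // y ≠ ((1 : G) : G ⧸ M)}) fun a y e =>
        Subtype.ext (by_contra fun q => k a a.2 q y y.2 (congrArg Subtype.val e)))
      rw [Nat.card_eq_fintype_card, Fintype.card_subtype_compl, cX, Fintype.card_unique] at this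
      omega)
  have : Nontrivial (G ⧸ M) := Fintype.one_lt_card_iff_nontrivial.1 (by omega)
  obtain ⟨m, F, _, _, hm, hX, L, hL, ⟨e⟩, c⟩ := hN.main
  have hq : 2 ≤ Fintype.card F := Fintype.one_lt_card
  have key : m = 2 ∧ Fintype.card F = 3 := by
    rw [Nat.card_eq_fintype_card, cX, ← Nat.geomSum_eq hq] at hX
    generalize Fintype.card F = q at hX hq
    obtain ⟨k, rfl⟩ := Nat.exists_eq_add_of_le hm
    rw [show 2 + k + 1 = 3 + k by ring, Finset.sum_range_add] at hX
    simp only [Finset.sum_range_succ, Finset.range_zero, Finset.sum_empty] at hX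
    have h3 : q ≤ 3 := by
      generalize ∑ x ∈ Finset.range k, q ^ (3 + x) = z at hX
      nlinarith
    rcases k with _ | k
    · rw [Finset.sum_range_zero] at hX
      interval_cases q <;> omega
    · rw [Finset.sum_range_succ'] at hX
      interval_cases q <;> omega
  obtain ⟨rfl, hF⟩ := key
  obtain rfl : L = ⊤ := hL.eq_bot_or_eq_top.resolve_left fun r => by
    rw [r, cent_bot] at c
    exact top_ne_bot c
  exact ⟨F, inferInstance, inferInstance, hF, ⟨topEquiv.symm.trans e⟩⟩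

/-- the odd part of a centralizer -/
def OW (x : G) (W : Subgroup G) : Prop := ∀ y, y ∈ W ↔ y ∈ C_[x] ∧ Odd (orderOf y)

theorem OW.cj (h : OW u W) (g : G) : OW (g * u * g⁻¹) (cj g W) := fun y => by
  rw [mem_cj, h, ← cj_cent1, mem_cj, ← BG.orderOf_conj g⁻¹ y, inv_inv]

theorem OW.norm (h : OW u W) : N_(zpowers u) ≤ N_(W) := fun g hg => mem_norm_of_cj_le fun y hy => by
  obtain ⟨w, hw, rfl⟩ := mem_cj'.1 hy
  have := norm_le_norm_cent _ hg
  rw [cent_zpowers] at this
  exact (h _).2 ⟨conj_mem_of_norm this ((h w).1 hw).1, by rw [BG.orderOf_conj]; exact ((h w).1 hw).2⟩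

theorem norm27 (hW : Nat.card W = 27) (hE : Nat.card E = 9) (l : E ≤ W) : W ≤ N_(E) := by
  have k := nil_lt_norm (pg_nil Nat.prime_three (pg_of_card (n := 3) hW)) (l.lt_of_ne fun e => by rw [e] at hE; omega)
  have c := card_lt k
  have d := card_dvd (inf_le_left (a := W) (b := N_(E)))
  refine inf_eq_left.1 (eq_of_le_of_card_eq inf_le_left ?_)
  rw [hW] at d ⊢
  obtain ⟨j, hj, e⟩ := (Nat.dvd_prime_pow Nat.prime_three (m := 3)).1 d
  interval_cases j <;> omega

namespace St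
variable (h : St f)
include h

theorem os : orderOf (f s) = 2 := (h.ord s).trans ord_s
theorem ob : orderOf (f b) = 3 := (h.ord b).trans ord_b
theorem zs : f z * f s = f s * f z := (h.comm s).symm
theorem z_ne : f z ≠ f s := fun e => kf.2.2.2.2.1 (h.inj e)
theorem ozs : orderOf (f z * f s) = 2 := H08.orderOf_mul_of_commute h.oz h.os h.z_ne.symm h.zs
theorem sb : f s * f b * (f s)⁻¹ = (f b)⁻¹ := by rw [← map_inv, ← map_mul, ← map_mul, sd0.2.2.1, map_inv]

theorem gen (h1 : f z ∈ N_(A)) (h2 : f s ∈ N_(A)) (o : ¬ 2 ∣ Nat.card A)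
    (k : ∀ v, orderOf v = 2 → (v = f z ∨ v = f s ∨ v = f z * f s) → A ⊓ C_[v] ≤ E) : A ≤ E :=
  H22.gen_four h.oz h.os h.z_ne h.zs h1 h2 o (k _ h.oz (.inl rfl)) (k _ h.os (.inr (.inl rfl))) (k _ h.ozs (.inr (.inr rfl)))

theorem pow3 {x : K} (o : Odd (orderOf (f x))) : x ^ 3 = 1 := by
  have d : orderOf x ∣ 2 ^ 4 * 3 := by have := orderOf_dvd_natCard x; rwa [card_K] at this
  rw [h.ord] at o
  exact orderOf_dvd_iff_pow_eq_one.1 (((Nat.coprime_two_right.2 o).pow_right 4).dvd_of_dvd_mul_left d)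

variable (hG : ∀ H : Subgroup G, H.index ≠ 2)
include hG

theorem card_C' (hv : orderOf v = 2) : Nat.card C_[v] = 48 := by
  obtain ⟨g, rfl⟩ := isConj_iff.1 (h.isConj hG hv)
  rw [← cj_cent1, card_cj, h.card_C]

theorem tr (hv : orderOf v = 2) (hw : w ∈ C_[v]) (o : Odd (orderOf w)) (n : w ≠ 1) :
    ∃ g, g * f z * g⁻¹ = v ∧ g * f b * g⁻¹ = w := by
  obtain ⟨g, rfl⟩ := isConj_iff.1 (h.isConj hG hv)
  rw [← cj_cent1, mem_cj'] at hw
  obtain ⟨w, hw, rfl⟩ := hw
  obtain ⟨x, rfl⟩ := h.mem (mem_cent1.1 hw)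
  rw [BG.orderOf_conj] at o
  obtain ⟨c, rfl⟩ := kf.1 x (h.pow3 o) fun e => n (by simp [e])
  refine ⟨g * f c, ?_, by simp [mul_assoc]⟩
  rw [mul_assoc g, h.comm c]; group

theorem odd_le (hv : orderOf v = 2) (l : A ≤ C_[v]) (o : Odd (Nat.card A)) : Nat.card A ∣ 3 := by
  have d : Nat.card A ∣ 2 ^ 4 * 3 := by have := card_dvd l; rwa [h.card_C' hG hv] at this
  exact ((Nat.coprime_two_right.2 o).pow_right 4).dvd_of_dvd_mul_left d

theorem simple : IsSimpleGroup G := by
  have : Nontrivial G := ⟨⟨_, _, h.z_ne⟩⟩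
  refine ⟨fun N hN => ?_⟩
  rcases Nat.even_or_odd (Nat.card N) with e | o
  · obtain ⟨P, eP⟩ := h.syl.exists_sylow_top Nat.prime_two
    have l : P0.map f ≤ N := eP ▸ (eP ▸ h.sdf : H08.SD (P : Subgroup G) _ _ _ 0).le_normal hG N hN e
    have i : ∀ u, orderOf u = 2 → u ∈ N := fun u hu => by
      obtain ⟨g, rfl⟩ := isConj_iff.1 (h.isConj hG hu)
      exact hN.conj_mem _ (l (h.sdf.le h.sdf.z_mem')) g
    have hb : f b ∈ N := (N.mul_mem_cancel_left (i _ h.os)).1 (map_mul f s b ▸ i _ ((h.ord _).trans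
      (H22.two_of_mul_self kf.2.2.2.2.2.2.1 kf.2.2.2.2.2.2.2.1)))
    have c : N ⊓ C_[f z] = C_[f z] := eq_of_le_of_card_le inf_le_right (by
      have d1 := card_dvd (le_inf l h.sdf.le_C)
      have d2 := BG.orderOf_dvd_card (A := N ⊓ C_[f z]) ⟨hb, mem_cent1.2 (h.comm b)⟩
      rw [h.sdf.card] at d1
      rw [h.ob] at d2
      rw [h.card_C]
      exact Nat.le_of_dvd (card_pos _) ((by norm_num : Nat.Coprime 16 3).mul_dvd_of_dvd_of_dvd d1 d2))
    right
    rw [← sylow_frattini Nat.prime_two (h.syl.sub l le_top) le_top fun g _ => norm_top N g]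
    exact (sup_eq_left.2 (inf_le_right.trans (h.norm_P.trans (c ▸ inf_le_left)))).symm
  · refine .inl (le_bot_iff.1 (h.gen (norm_top N _) (norm_top N _) (by rwa [← Nat.not_even_iff_odd, even_iff_two_dvd] at o)
      fun v hv _ w hw => by_contra fun n => ?_))
    obtain ⟨g, -, rfl⟩ := h.tr hG hv hw.2 (o.of_dvd_nat (BG.orderOf_dvd_card hw.1)) n
    have hb : f b ∈ N := by simpa [mul_assoc] using hN.conj_mem _ hw.1 g⁻¹
    obtain ⟨c, e⟩ := kf.2.2.2.1
    have : f z ∈ N := by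
      rw [← e, map_pow, map_mul, map_mul, map_mul, map_inv]
      exact pow_mem (mul_mem hb (hN.conj_mem _ hb _)) 2
    have := o.of_dvd_nat (BG.orderOf_dvd_card this)
    rw [h.oz] at this
    exact absurd this (by decide)

omit hG in
theorem ex_W : ∃ W, OW (f b) W ∧ 2 * Nat.card W = Nat.card C_[f b] ∧ Odd (Nat.card W) := by
  have m : f z ∈ C_[f b] := mem_cent1.2 (h.comm b).symm
  have c := H22.card_zpowers_two h.oz
  have syl : IsSylowIn 2 (zpowers (f z)) C_[f b] := IsSylowIn.of_norm Nat.prime_two (zpowers_le.2 m)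
    (sylow_of_max Nat.prime_two (pg_of_card_eq c) (le_inf (zpowers_le.2 m) (le_norm _)) fun Y hY l1 l2 => by
      refine le_antisymm (fun y hy => ?_) l1
      have l := pg_le_cent_of_card Nat.prime_two hY c (l2.trans inf_le_right)
      rw [cent_zpowers] at l
      obtain ⟨x, rfl⟩ := h.mem (mem_cent1.1 (l hy))
      obtain ⟨j, e⟩ := pg_card Nat.prime_two hY
      have d : Nat.card Y ∣ 16 * 3 := by have := card_dvd l; rwa [h.card_C] at this
      have d := (BG.orderOf_dvd_card hy).trans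
        ((e ▸ Nat.Coprime.pow_left j (by norm_num) : (Nat.card Y).Coprime 3).dvd_of_dvd_mul_right d)
      rw [h.ord, orderOf_dvd_iff_pow_eq_one] at d
      rcases kf.2.2.1 x (h.inj (by rw [map_mul, map_mul]; exact mem_cent1.1 (l2 hy).1)) d with rfl | rfl
      exacts [map_one f ▸ one_mem _, mem_zpowers _])
  exact H06.exists_odd_part (h.oz ▸ BG.orderOf_dvd_card m) fun e => by
    have := syl.pow_dvd Nat.prime_two (n := 2) e
    rw [c] at this
    omega

theorem psl [IsSimpleGroup G] (hc : Nat.card G = 5616) : ∃ (F : Type) (_ : Field F) (_ : Fintype F), Fintype.card F = 3 ∧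
    Nonempty (G ≃* Matrix.ProjectiveSpecialLinearGroup (Fin 3) F) := by
  obtain ⟨W, hW, cW, oW⟩ := h.ex_W
  have p3 := Nat.prime_three
  have nc : ¬ IsMulCommutative G := fun c => F3.ne_inv h.ob (by rw [← h.sb, mul_comm' (f s), mul_inv_cancel_right])
  set V := zpowers (f z) ⊔ zpowers (f s)
  have cV : Nat.card V = 4 := (H22.four_isElem h.oz h.os h.z_ne h.zs).card
  have aV : IsMulCommutative V := abelian_sup inferInstance inferInstance (H22.zpowers_le_cent_zpowers h.zs)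
  have tV : f z ∈ V := mem_sup_left (mem_zpowers _)
  have sV : f s ∈ V := mem_sup_right (mem_zpowers _)
  have VX : V ≤ N_(zpowers (f b)) := sup_le (le_norm_of_cent (H22.zpowers_le_cent_zpowers (h.comm b).symm))
    (zpowers_le.2 (cj_eq_self_iff.1 (by rw [cj_zpowers, h.sb, zpowers_inv])))
  have VW := VX.trans hW.norm
  have xW : f b ∈ W := (hW _).2 ⟨mem_cent1_self _, by rw [h.ob]; decide⟩
  have cop : (Nat.card V).Coprime (Nat.card W) := cV ▸ (Nat.coprime_two_left.2 oW).pow_left 2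
  have n2 : ∀ {A : Subgroup G}, A ≤ W → ¬ 2 ∣ Nat.card A := fun l => by
    rw [← even_iff_two_dvd, Nat.not_even_iff_odd]; exact odd_of_le oW l
  have n13 : ¬ 13 ∣ Nat.card W := by
    obtain ⟨R, hR, n⟩ := coprime_sylow_exists (p := 13) (by norm_num) (.inl (sol_of_abelian aV)) VW cop
    refine hR.not_dvd_of_bot (by norm_num) (le_bot_iff.1 (h.gen (n tV) (n sV) (n2 hR.le) fun v hv _ => ?_))
    refine (pg_eq_bot (p := 13) (by norm_num) (pg_le (hR.pg (by norm_num)) inf_le_left) fun d => ?_).le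
    exact absurd (d.trans (h.odd_le hG hv inf_le_right (odd_of_le oW (inf_le_left.trans hR.le)))) (by norm_num)
  have d27 : ∀ A : Subgroup G, ¬ 2 ∣ Nat.card A → ¬ 13 ∣ Nat.card A → Nat.card A ∣ 3 ^ 3 := fun A a2 a13 => by
    have d : Nat.card A ∣ 2 ^ 4 * (13 * 3 ^ 3) := by have := card_dvd_top A; rwa [hc] at this
    exact ((Nat.Prime.coprime_iff_not_dvd (by norm_num)).2 a13).symm.dvd_of_dvd_mul_left
      ((((Nat.Prime.coprime_iff_not_dvd Nat.prime_two).2 a2).symm.pow_right 4).dvd_of_dvd_mul_left d)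
  obtain ⟨j, hj, ej⟩ := (Nat.dvd_prime_pow p3).1 (d27 W (n2 le_rfl) n13)
  have pW := pg_of_card ej
  have syl : IsSylowIn 3 W ⊤ := IsSylowIn.of_norm p3 le_top (sylow_of_max p3 pW (le_inf le_top (le_norm W))
    fun Q hQ l1 l2 => by_contra fun ne => by
      have lt := card_lt (l1.lt_of_ne (Ne.symm ne))
      have le := Nat.le_of_dvd (by norm_num) (d27 Q (pg_not_dvd Nat.prime_two p3 hQ (by norm_num))
        (pg_not_dvd (by norm_num) p3 hQ (by norm_num)))
      have cj : ∀ g w, IsConj (f b) (g * w * g⁻¹) ↔ IsConj (f b) w := fun g w =>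
        ⟨fun e => e.trans (isConj_iff.2 ⟨g, rfl⟩).symm, fun e => e.trans (isConj_iff.2 ⟨g, rfl⟩)⟩
      have d3 : 3 ∣ {w | w ∈ W ∧ IsConj (f b) w}.ncard := by_contra fun n => by
        obtain ⟨w, ⟨-, hw⟩, l⟩ := exists_fix (Ω := {w | w ∈ W ∧ IsConj (f b) w}) p3 hQ (fun g hg w hw =>
          ⟨conj_mem_of_norm (l2 hg).2 hw.1, (cj g w).2 hw.2⟩) n
        obtain ⟨g, rfl⟩ := isConj_iff.1 hw
        have d := card_dvd l
        rw [← cj_cent1, card_cj, ← cW] at d
        exact absurd (Nat.le_of_dvd (card_pos _) (((Nat.Prime.coprime_iff_not_dvd Nat.prime_two).2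
          (pg_not_dvd Nat.prime_two p3 hQ (by norm_num))).symm.dvd_of_dvd_mul_left d)) (by omega)
      have d4 := H05.card_dvd_of_free_conj (Y := V) (p := fun w => w ∈ {w | w ∈ W ∧ w ≠ 1 ∧ ¬ IsConj (f b) w})
        (fun g hg w hw => ⟨conj_mem_of_norm (VW hg) hw.1, by simpa using hw.2.1, mt (cj g w).1 hw.2.2⟩)
        fun g hg w hw e => by_contra fun n => by
          obtain ⟨k, -, e⟩ := h.tr hG (v := g) (w := w) (by
            rcases H22.mem_four (H22.mul_self_of_two h.oz) (H22.mul_self_of_two h.os) h.zs hg with rfl | rfl | rfl | rfl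
            exacts [absurd rfl n, h.oz, h.os, h.ozs]) (mem_cent1.2 (mul_inv_eq_iff_eq_mul.1 e).symm) ((hW w).1 hw.1).2 hw.2.1
          exact hw.2.2 (isConj_iff.2 ⟨k, e⟩)
      rw [cV, Nat.card_coe_set_eq] at d4
      have pos : 0 < {w | w ∈ W ∧ IsConj (f b) w}.ncard := (Set.ncard_pos (Set.toFinite _)).2 ⟨_, xW, IsConj.refl _⟩
      have e : Nat.card W = {w | w ∈ W ∧ IsConj (f b) w}.ncard + {w | w ∈ W ∧ w ≠ 1 ∧ ¬ IsConj (f b) w}.ncard + 1 := by
        rw [← Set.ncard_union_eq (Set.disjoint_left.2 fun w a b => b.2.2 a.2), ← Set.ncard_insert_of_notMem (a := 1)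
          fun e => e.elim (fun e => F3.ne1 h.ob (isConj_one_left.1 e.2)) fun e => e.2.1 rfl]
        refine (Nat.card_coe_set_eq (W : Set G)).trans (congrArg _ (Set.ext fun w => ⟨fun hw => ?_, ?_⟩))
        · by_cases e : w = 1
          · exact .inl e
          · exact .inr ((em (IsConj (f b) w)).imp (fun k => ⟨hw, k⟩) fun k => ⟨hw, e, k⟩)
        · rintro (rfl | e | e)
          exacts [W.one_mem, e.1, e.1]
      interval_cases j <;> omega)
  have c27 : Nat.card W = 27 := Nat.dvd_antisymm (d27 W (n2 le_rfl) n13)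
    (syl.pow_dvd p3 (n := 3) (by rw [card_top, hc]; norm_num))
  have cX : Nat.card (zpowers (f b)) = 3 := (card_zpowers _).trans h.ob
  obtain ⟨v, hv, vV, y, hy, ny⟩ : ∃ v, orderOf v = 2 ∧ v ∈ V ∧ ∃ y ∈ W ⊓ C_[v], y ∉ zpowers (f b) := by
    by_contra! k
    have := card_le (h.gen (VW tV) (VW sV) (n2 le_rfl) fun v hv e => k v hv (by
      rcases e with rfl | rfl | rfl
      exacts [tV, sV, mul_mem tV sV]))
    omega
  have y1 : y ≠ 1 := fun e => ny (e ▸ one_mem _)
  obtain ⟨g, -, rfl⟩ := h.tr hG hv hy.2 ((hW y).1 hy.1).2 y1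
  set y := g * f b * g⁻¹ with ey
  have cY : Nat.card (zpowers y) = 3 := by rw [card_zpowers, BG.orderOf_conj, h.ob]
  have VY : V ≤ N_(zpowers y) := by
    rw [eq_of_le_of_card_le (zpowers_le.2 hy) (cY ▸ Nat.le_of_dvd (by norm_num)
      (h.odd_le hG hv inf_le_right (odd_of_le oW inf_le_left)))]
    exact norm_inf VW (norm_cent1 (le_cent1_iff.2 (abelian_iff.1 aV vV)))
  have hW' := hW.cj g
  have c : zpowers y ≤ C_(zpowers (f b)) := by rw [cent_zpowers, zpowers_le]; exact ((hW y).1 hy.1).1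
  have cE : Nat.card ↥(zpowers (f b) ⊔ zpowers y) = 9 := by
    rw [card_sup_of_disj (le_norm_of_cent c) (inf_comm (zpowers y) _ ▸ inf_eq_bot_of_prime (by rw [cY]; exact p3)
      (by rwa [zpowers_le])), cX, cY]
  have idx : ∀ A : Subgroup G, 1 < Nat.card A → Nat.card A ≤ 27 → 13 ≤ (N_(A)).index := fun A a1 a2 =>
    (Nat.Prime.dvd_factorial (by norm_num)).1 ((by rw [hc]; norm_num : 13 ∣ Nat.card G).trans
      (H08.card_dvd_factorial_index fun e => by
        rcases (normalizer_eq_top_iff.1 e).eq_bot_or_eq_top with r | r <;> rw [r] at a1 a2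
        · simp at a1
        · rw [card_top] at a2; omega))
  have cWV : Nat.card ↥(W ⊔ V) = 108 := by rw [card_sup_of_disj VW (BG.inf_eq_bot_of_coprime cop.symm), c27, cV]
  have WC : ∀ {u : G} {W : Subgroup G}, OW u W → u ∈ C_(W) := fun k => le_cent1_iff.1 fun w hw => ((k w).1 hw).1
  by_cases e : cj g W = W
  · refine fin13 nc (M := N_(W)) (E := W ⊓ C_(W)) ?_ (inf_le_left.trans (le_norm W)) (norm_inf le_rfl (norm_le_norm_cent W))
      (abelian_center W) (cE ▸ card_dvd (sup_le (zpowers_le.2 ⟨xW, WC hW⟩) (zpowers_le.2 ⟨hy.1, WC (e ▸ hW')⟩)))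
    have i1 := idx W (by omega) c27.le
    have i2 := H06.sylow_mod p3 syl
    have i3 := card_mul_relIndex (sup_le_norm_left VW)
    have i4 := (N_(W)).card_mul_index
    have i5 : (W ⊔ V).relIndex N_(W) ≠ 1 := fun r => ny (conj_mem_of_norm (sup_le
      (le_norm_of_cent (by rw [cent_zpowers]; exact le_cent1_iff.2 (WC hW))) VX (relIndex_eq_one.1 r (cj_eq_self_iff.1 e)))
      (mem_zpowers _))
    rw [relIndex_top_right, Nat.ModEq] at i2
    rw [← i3, cWV, hc] at i4
    generalize (W ⊔ V).relIndex N_(W) = r at i4 i5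
    generalize (N_(W)).index = i at i1 i2 i4
    have : r ≤ 4 := by nlinarith
    interval_cases r <;> omega
  · set E := zpowers (f b) ⊔ zpowers y
    have l1 : W ≤ N_(E) := norm27 c27 cE (sup_le (zpowers_le.2 xW) (zpowers_le.2 hy.1))
    have l2 : cj g W ≤ N_(E) := norm27 (by rw [card_cj, c27]) cE (sup_le (zpowers_le.2 ((hW' _).2
      ⟨mem_cent1_comm.1 ((hW y).1 hy.1).1, by rw [h.ob]; decide⟩)) (zpowers_le.2 (conj_mem_cj g xW)))
    refine fin13 nc (M := N_(E)) ?_ (le_norm E) le_rfl (abelian_sup inferInstance inferInstance (cent_symm c)) cE.symm.dvd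
    have i1 := idx E (by omega) (by omega)
    have sy : IsSylowIn 3 W N_(E) := syl.sub l1 le_top
    have i2 := H06.sylow_mod p3 sy
    have i3 := card_inf_mul_relIndex N_(W) N_(E)
    have i4 := (N_(E)).card_mul_index
    have i5 : (N_(W)).relIndex N_(E) ≠ 1 := fun r => e (eq_of_le_of_card_eq
      (sy.le_of_norm_pg' p3 (isPGroup_cj.2 pW) l2 (l2.trans (relIndex_eq_one.1 r))) (card_cj _ _))
    have i6 := card_le (le_inf (sup_le_norm_left VW) (sup_le l1 (norm_sup VX VY)))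
    rw [Nat.ModEq] at i2
    rw [← i3, hc] at i4
    rw [cWV] at i6
    have i7 : 4 ≤ (N_(W)).relIndex N_(E) := by omega
    have := Nat.mul_le_mul i6 i7
    nlinarith

theorem main : (∃ (F : Type) (_ : Field F) (_ : Fintype F), Fintype.card F = 3 ∧
    Nonempty (G ≃* Matrix.ProjectiveSpecialLinearGroup (Fin 3) F)) ∨ Spor.IsoM11 G := by
  have := h.simple hG
  exact h.card.imp (h.psl hG) H19.isoM11_of_simple

end St
end H01.G23
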