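import Mathlib
import Cfsg.Agent.H18.Gleason
import Cfsg.Agent.H18.PrimeDegree
import Cfsg.Agent.H27.SylowSmall

/-!
# No group has 22 Sylow 3-subgroups: the doubly transitive part (helper1)

* `H01.S22.card_orb` : `|H| = |H a| * |H ⊓ G_a|` with the orbit given as a set.
* `H01.S22.card_syl` : a `p`-subgroup of `H` containing every `p`-element of `H` has the full `p`-part.
* `H01.S22.prime_deg` : a transitive action of prime degree `p` is 2-transitive or the image has order
  dividing `p (p-1)`.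
* `H01.S22.core` : no faithful 2-transitive action of degree 22 in which the 3-elements of each point
  stabiliser form a subgroup fixing only that point.
-/

set_option autoImplicit false
set_option linter.style.haveILetI false
set_option linter.unusedSectionVars false

namespace H01.S22

open MulAction
open scoped Pointwise

theorem card_orb {G Ω : Type*} [Group G] [MulAction G Ω] (H : Subgroup G) (a : Ω) (S : Set Ω)
    (hS : ∀ b, b ∈ S ↔ ∃ g ∈ H, g • a = b) :
    Nat.card H = S.ncard * Nat.card ↥(H ⊓ stabilizer G a) := by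
  have h1 : S = orbit H a := by
    ext b
    rw [hS, mem_orbit_iff]
    exact ⟨fun ⟨g, hg, h⟩ => ⟨⟨g, hg⟩, h⟩, fun ⟨g, h⟩ => ⟨g, g.2, h⟩⟩
  have h2 : Nat.card ↥(H ⊓ stabilizer G a) = Nat.card (stabilizer H a) :=
    Nat.card_congr ⟨fun x => ⟨⟨x.1, x.2.1⟩, x.2.2⟩, fun x => ⟨x.1.1, x.1.2, x.2⟩,
      fun _ => rfl, fun _ => rfl⟩
  rw [h1, h2, ← index_stabilizer, mul_comm, Subgroup.card_mul_index]

theorem card_syl {G : Type*} [Group G] [Finite G] {p : ℕ} [Fact p.Prime] (H Q : Subgroup G)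
    (hQ : ∀ g, g ∈ Q ↔ g ∈ H ∧ ∃ k, g ^ p ^ k = 1) :
    Nat.card Q = p ^ (Nat.card H).factorization p := by
  have hle : Q ≤ H := fun g hg => ((hQ g).1 hg).1
  have hp : IsPGroup p (Q.subgroupOf H) := by
    intro g
    obtain ⟨k, hk⟩ := ((hQ _).1 (Subgroup.mem_subgroupOf.1 g.2)).2
    exact ⟨k, Subtype.ext (Subtype.ext (by simpa using hk))⟩
  obtain ⟨S, hS⟩ := hp.exists_le_sylow
  have hS' : (S : Subgroup H) ≤ Q.subgroupOf H := by
    intro g hg
    obtain ⟨k, hk⟩ := S.isPGroup' ⟨g, hg⟩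
    refine Subgroup.mem_subgroupOf.2 ((hQ _).2 ⟨g.2, k, ?_⟩)
    have := congrArg (fun x : S => ((x : H) : G)) hk
    simpa using this
  rw [← S.card_eq_multiplicity, ← le_antisymm hS hS',
    Nat.card_congr (Subgroup.subgroupOfEquivOfLe hle).toEquiv]

theorem prime_deg {G α : Type*} [Group G] [Finite G] [Fintype α] [MulAction G α]
    [FaithfulSMul G α] [IsPretransitive G α] {p : ℕ} [hp : Fact p.Prime]
    (hα : Fintype.card α = p) :
    p * (p - 1) ∣ Nat.card G ∨ Nat.card G ∣ p * (p - 1) := by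
  have h1 : p ∣ Nat.card G := H18.exists_orderOf_eq_prime_degree (G := G) hα
  have h2 : ¬ p ^ 2 ∣ Nat.card G := H18.not_sq_dvd_card_of_faithful (α := α) hp.out
    (by rw [hα]; have := hp.out.pos; omega)
  obtain ⟨P⟩ : Nonempty (Sylow p G) := inferInstance
  obtain ⟨x, hx, hPx⟩ := H18.sylow_eq_zpowers h1 h2 P
  obtain ⟨e, he⟩ := H18.exists_coords hα hx
  rcases H18.affine_or_two_trans (G := G) he with h | h
  · right
    obtain ⟨-, -, d, hd, hN⟩ := H18.card_normalizer_sylow_prime_degree hα P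
    have hn : (P : Subgroup G).Normal := by
      rw [hPx]
      refine ⟨fun y hy g => ?_⟩
      obtain ⟨k, rfl⟩ := Subgroup.mem_zpowers_iff.1 hy
      rw [← conj_zpow]
      refine Subgroup.zpow_mem _ ?_ _
      obtain ⟨u, v, huv⟩ := h g
      obtain ⟨τ, hτ, hτ'⟩ := H18.exists_translation he u
      have : g * x * g⁻¹ = τ := by
        refine FaithfulSMul.eq_of_smul_eq_smul (α := α) fun a => e.injective ?_
        rw [hτ', mul_smul, mul_smul, huv, he, mul_add, mul_one]
        have := huv (g⁻¹ • a)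
        rw [smul_inv_smul] at this
        rw [this]; ring
      rw [this]; exact hτ
    rw [Subgroup.normalizer_eq_top, Subgroup.card_top] at hN
    rw [hN]
    exact Nat.mul_dvd_mul_left _ hd
  · left
    rw [is_two_pretransitive_iff] at h
    obtain ⟨a, b, hab⟩ : ∃ a b : α, a ≠ b :=
      Fintype.exists_pair_of_one_lt_card (by rw [hα]; exact hp.out.one_lt)
    have e1 := card_orb (⊤ : Subgroup G) a Set.univ (fun c => by
      obtain ⟨g, hg⟩ := exists_smul_eq G a c
      exact ⟨fun _ => ⟨g, trivial, hg⟩, fun _ => trivial⟩)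
    have e2 := card_orb (⊤ ⊓ stabilizer G a) b {a}ᶜ (fun c => by
      constructor
      · intro hc
        obtain ⟨g, h1, h2⟩ := h hab (Ne.symm hc : a ≠ c)
        exact ⟨g, ⟨trivial, h1⟩, h2⟩
      · rintro ⟨g, ⟨-, hg⟩, rfl⟩ (hc : g • b = a)
        exact hab (smul_left_cancel g ((mem_stabilizer_iff.1 hg).trans hc.symm)))
    rw [Subgroup.card_top, Set.ncard_univ, Nat.card_eq_fintype_card (α := α), hα] at e1
    rw [Set.ncard_compl, Set.ncard_singleton, Nat.card_eq_fintype_card (α := α), hα] at e2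
    rw [e1, e2, ← mul_assoc]
    exact dvd_mul_right _ _

section core
variable {G Ω : Type*} [Group G] [Finite G] [Fintype Ω] [MulAction G Ω]

theorem card_conj (H K : Subgroup G) (g : G) (h : ∀ x, x ∈ H ↔ g * x * g⁻¹ ∈ K) :
    Nat.card H = Nat.card K :=
  Nat.card_congr ⟨fun x => ⟨g * x * g⁻¹, (h x).1 x.2⟩,
    fun y => ⟨g⁻¹ * y * g, (h _).2 (by simp [mul_assoc])⟩,
    fun x => Subtype.ext (by simp [mul_assoc]), fun x => Subtype.ext (by simp [mul_assoc])⟩

theorem card_two (h2 : ∀ a b c d : Ω, a ≠ b → c ≠ d → ∃ g : G, g • a = c ∧ g • b = d)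
    (hΩ : Fintype.card Ω = 22) {a b : Ω} (hab : a ≠ b) :
    Nat.card G = 22 * Nat.card (stabilizer G a) ∧
    Nat.card (stabilizer G a) = 21 * Nat.card ↥(stabilizer G a ⊓ stabilizer G b) := by
  constructor
  · have e1 := card_orb (⊤ : Subgroup G) a Set.univ (fun c => by
      refine ⟨fun _ => ?_, fun _ => trivial⟩
      by_cases hc : c = a
      · exact ⟨1, trivial, by rw [one_smul, hc]⟩
      · obtain ⟨g, hg, -⟩ := h2 a b c a hab hc
        exact ⟨g, trivial, hg⟩)
    rwa [Subgroup.card_top, Set.ncard_univ, Nat.card_eq_fintype_card (α := Ω), hΩ, top_inf_eq] at e1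
  · have e2 := card_orb (stabilizer G a) b {a}ᶜ (fun c => by
      constructor
      · intro hc
        obtain ⟨g, h1, h2⟩ := h2 a b a c hab (Ne.symm hc : a ≠ c)
        exact ⟨g, h1, h2⟩
      · rintro ⟨g, hg, rfl⟩ (hc : g • b = a)
        exact hab (smul_left_cancel g ((mem_stabilizer_iff.1 hg).trans hc.symm)))
    rwa [Set.ncard_compl, Set.ncard_singleton, Nat.card_eq_fintype_card (α := Ω), hΩ] at e2

theorem conj_mem {P : Ω → Subgroup G} (hP : ∀ a g, g ∈ P a ↔ g • a = a ∧ ∃ k, g ^ 3 ^ k = 1)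
    (g x : G) (a : Ω) : x ∈ P a ↔ g * x * g⁻¹ ∈ P (g • a) := by
  rw [hP, hP, mul_smul, mul_smul, inv_smul_smul, smul_left_cancel_iff]
  simp only [conj_pow, conj_eq_one_iff]

theorem arith1 {k : ℕ} (d1 : k - 1 ∣ 21) (d2 : k * (k - 1) ∣ 462) (hmod : 22 ≡ k [MOD 3]) :
    k = 22 := by
  have h1 := Nat.le_of_dvd (by norm_num) d1
  have : k ≤ 22 := by omega
  revert d1 d2 hmod
  interval_cases k <;> decide

/-- the Sylow 3-subgroups have order 3 -/
theorem step1 [FaithfulSMul G Ω]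
    (h2 : ∀ a b c d : Ω, a ≠ b → c ≠ d → ∃ g : G, g • a = c ∧ g • b = d)
    (hΩ : Fintype.card Ω = 22)
    {P : Ω → Subgroup G} (hP : ∀ a g, g ∈ P a ↔ g • a = a ∧ ∃ k, g ^ 3 ^ k = 1)
    {a b : Ω} (hab : a ≠ b) :
    Nat.card (P a) = 3 ∧ ¬ 3 ∣ Nat.card ↥(stabilizer G a ⊓ stabilizer G b) := by
  haveI : Fact (Nat.Prime 3) := ⟨Nat.prime_three⟩
  obtain ⟨e1, e2⟩ := card_two h2 hΩ hab
  set D : Subgroup G := P a ⊓ stabilizer G b with hD
  have hDmem : ∀ g, g ∈ D ↔ g ∈ stabilizer G a ⊓ stabilizer G b ∧ ∃ k, g ^ 3 ^ k = 1 := by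
    intro g
    rw [hD, Subgroup.mem_inf, Subgroup.mem_inf, hP, mem_stabilizer_iff, mem_stabilizer_iff]
    tauto
  have hc1 := card_syl (p := 3) (stabilizer G a) (P a) (hP a)
  have hc2 := card_syl (p := 3) _ D hDmem
  have hm : Nat.card ↥(stabilizer G a ⊓ stabilizer G b) ≠ 0 := Nat.card_pos.ne'
  have hc3 : Nat.card (P a) = 3 * Nat.card D := by
    rw [hc1, hc2, e2, Nat.factorization_mul (by norm_num) hm, Finsupp.add_apply, pow_add]
    congr 1
    have : Nat.factorization 21 3 = 1 := by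
      rw [show (21 : ℕ) = 3 * 7 by norm_num, Nat.factorization_mul (by norm_num) (by norm_num),
        Nat.Prime.factorization (by norm_num), Nat.Prime.factorization (by norm_num)]
      simp
    rw [this]; norm_num
  have hDp : IsPGroup 3 D := by
    intro g
    obtain ⟨k, hk⟩ := ((hDmem _).1 g.2).2
    exact ⟨k, Subtype.ext (by simpa using hk)⟩
  set F : Set Ω := fixedPoints D Ω with hF
  have hFmem : ∀ c, c ∈ F ↔ ∀ g ∈ D, g • c = c := fun c =>
    ⟨fun h g hg => h ⟨g, hg⟩, fun h g => h g g.2⟩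
  have haF : a ∈ F := (hFmem a).2 fun g hg => ((hDmem g).1 hg).1.1
  have hbF : b ∈ F := (hFmem b).2 fun g hg => ((hDmem g).1 hg).1.2
  have hmod : 22 ≡ F.ncard [MOD 3] := by
    have := H18.ncard_modEq_fixed D hDp (Set.univ : Set Ω) (Set.toFinite _) (fun _ _ _ _ => trivial)
    rwa [Set.ncard_univ, Nat.card_eq_fintype_card, hΩ, Set.univ_inter] at this
  set N := Subgroup.normalizer (D : Set G) with hN
  have hNF : ∀ g ∈ N, ∀ c ∈ F, g • c ∈ F := by
    intro g hg c hc
    refine (hFmem _).2 fun x hx => ?_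
    have h1 : g⁻¹ * x * g ∈ D := by
      have := (Subgroup.mem_normalizer_iff.1 hg (g⁻¹ * x * g)).2 (by simpa [mul_assoc] using hx)
      exact this
    have := (hFmem c).1 hc _ h1
    rw [mul_smul, mul_smul, inv_smul_eq_iff] at this
    exact this
  have hkey : ∀ g : G, g • a ∈ F → g • b ∈ F → g ∈ N := by
    intro g ha hb
    set D' : Subgroup G := P (g • a) ⊓ stabilizer G (g • b) with hD'
    have hconj : ∀ x, x ∈ D ↔ g * x * g⁻¹ ∈ D' := by
      intro x
      rw [hD, hD', Subgroup.mem_inf, Subgroup.mem_inf, ← conj_mem hP, mem_stabilizer_iff,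
        mem_stabilizer_iff, mul_smul, mul_smul, inv_smul_smul, smul_left_cancel_iff]
    have hle : D ≤ D' := fun x hx =>
      ⟨(hP _ _).2 ⟨(hFmem _).1 ha x hx, ((hDmem x).1 hx).2⟩, (hFmem _).1 hb x hx⟩
    have heq : D = D' := Subgroup.eq_of_le_of_card_ge hle (card_conj D D' g hconj).ge
    refine Subgroup.mem_normalizer_iff.2 fun x => ?_
    rw [hconj, ← heq]
  have f1 := card_orb N a F (fun c => by
    constructor
    · intro hc
      by_cases hca : c = a
      · exact ⟨1, N.one_mem, by rw [one_smul, hca]⟩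
      · obtain ⟨g, hg1, hg2⟩ := h2 a b c a hab hca
        exact ⟨g, hkey g (hg1 ▸ hc) (hg2 ▸ haF), hg1⟩
    · rintro ⟨g, hg, rfl⟩
      exact hNF g hg a haF)
  have f2 := card_orb (N ⊓ stabilizer G a) b (F \ {a}) (fun c => by
    constructor
    · rintro ⟨hc, hca⟩
      obtain ⟨g, hg1, hg2⟩ := h2 a b a c hab (Ne.symm hca)
      exact ⟨g, ⟨hkey g (hg1.symm ▸ haF) (hg2 ▸ hc), hg1⟩, hg2⟩
    · rintro ⟨g, hg, rfl⟩
      refine ⟨hNF g hg.1 b hbF, fun hc : g • b = a => ?_⟩
      exact hab (smul_left_cancel g ((mem_stabilizer_iff.1 hg.2).trans hc.symm)))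
  have f3 : N ⊓ stabilizer G a ⊓ stabilizer G b = stabilizer G a ⊓ stabilizer G b := by
    refine le_antisymm (fun x hx => ⟨hx.1.2, hx.2⟩) fun x hx => ⟨⟨hkey x ?_ ?_, hx.1⟩, hx.2⟩
    · rw [mem_stabilizer_iff.1 hx.1]; exact haF
    · rw [mem_stabilizer_iff.1 hx.2]; exact hbF
  rw [f3, Set.ncard_sdiff_singleton_of_mem haF] at f2
  have d1 : F.ncard - 1 ∣ 21 := by
    have := Subgroup.card_dvd_of_le (inf_le_right : N ⊓ stabilizer G a ≤ _)
    rw [f2, e2] at this
    exact Nat.dvd_of_mul_dvd_mul_right (Nat.pos_of_ne_zero hm) this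
  have d2 : F.ncard * (F.ncard - 1) ∣ 462 := by
    have := N.card_subgroup_dvd_card
    rw [f1, f2, e1, e2, ← mul_assoc, ← mul_assoc] at this
    exact Nat.dvd_of_mul_dvd_mul_right (Nat.pos_of_ne_zero hm) this
  have hk : F.ncard = 22 := arith1 d1 d2 hmod
  have hFu : F = Set.univ := by
    refine Set.eq_of_subset_of_ncard_le (Set.subset_univ _) ?_
    rw [hk, Set.ncard_univ, Nat.card_eq_fintype_card, hΩ]
  have hD1 : D = ⊥ := by
    refine (Subgroup.eq_bot_iff_forall D).2 fun x hx => ?_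
    refine FaithfulSMul.eq_of_smul_eq_smul (α := Ω) fun c => ?_
    rw [one_smul]
    exact (hFmem c).1 (hFu ▸ trivial) x hx
  rw [hD1, Subgroup.card_bot] at hc3 hc2
  refine ⟨hc3, fun h => ?_⟩
  have := (Nat.prime_three.dvd_iff_one_le_factorization hm).1 h
  have h3 := (Nat.pow_eq_one.1 hc2.symm).resolve_left (by norm_num)
  omega

/-- the two-point stabiliser has order dividing 4 -/
theorem step2 [FaithfulSMul G Ω]
    (h2 : ∀ a b c d : Ω, a ≠ b → c ≠ d → ∃ g : G, g • a = c ∧ g • b = d)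
    (hΩ : Fintype.card Ω = 22)
    {P : Ω → Subgroup G} (hP : ∀ a g, g ∈ P a ↔ g • a = a ∧ ∃ k, g ^ 3 ^ k = 1)
    (hfix : ∀ a b, (∀ g ∈ P a, g • b = b) → b = a)
    {a b : Ω} (hab : a ≠ b) :
    Nat.card ↥(stabilizer G a ⊓ stabilizer G b) ∣ 4 := by
  haveI : Fact (Nat.Prime 3) := ⟨Nat.prime_three⟩
  haveI : Fact (Nat.Prime 7) := ⟨by norm_num⟩
  obtain ⟨e1, e2⟩ := card_two h2 hΩ hab
  obtain ⟨hP3, hn3⟩ := step1 h2 hΩ hP hab
  set C := Subgroup.centralizer (P a : Set G) with hC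
  have hNa : Subgroup.normalizer (P a : Set G) = stabilizer G a := by
    ext g
    rw [Subgroup.mem_normalizer_iff, mem_stabilizer_iff]
    constructor
    · intro h
      refine hfix a _ fun x hx => ?_
      have h1 : g⁻¹ * x * g ∈ P a := (h _).2 (by simpa [mul_assoc] using hx)
      have := ((hP _ _).1 h1).1
      rw [mul_smul, mul_smul, inv_smul_eq_iff] at this
      exact this
    · intro h x
      have := conj_mem hP g x a
      rwa [h] at this
  have hCa : C ≤ stabilizer G a := hNa ▸ Subgroup.centralizer_le_normalizer _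
  have hPC : P a ≤ C := H27.le_centralizer_of_card_eq_prime hP3
  have hrel : C.relIndex (stabilizer G a) ∣ 2 := hNa ▸ H27.relIndex_centralizer_dvd_pred hP3
  have hcC : Nat.card (stabilizer G a) = C.relIndex (stabilizer G a) * Nat.card C := by
    rw [Subgroup.relIndex, mul_comm, ← Nat.card_congr (Subgroup.subgroupOfEquivOfLe hCa).toEquiv,
      Subgroup.card_mul_index]
  set H := C ⊓ stabilizer G b with hH
  set O : Set Ω := {c | ∃ g ∈ C, g • b = c} with hO
  have g1 := card_orb C b O (fun _ => Iff.rfl)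
  have hOsub : O ⊆ {a}ᶜ := by
    rintro c ⟨g, hg, rfl⟩ (hc : g • b = a)
    exact hab (smul_left_cancel g ((mem_stabilizer_iff.1 (hCa hg)).trans hc.symm))
  have hc21 : ({a}ᶜ : Set Ω).ncard = 21 := by
    rw [Set.ncard_compl, Set.ncard_singleton, Nat.card_eq_fintype_card (α := Ω), hΩ]
  have hOle : O.ncard ≤ 21 := hc21 ▸ Set.ncard_le_ncard hOsub
  obtain ⟨e', he'⟩ : Nat.card H ∣ Nat.card ↥(stabilizer G a ⊓ stabilizer G b) :=
    Subgroup.card_dvd_of_le (inf_le_inf_right _ hCa)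
  have hHpos : 0 < Nat.card H := Nat.card_pos
  have hmain : C.relIndex (stabilizer G a) * O.ncard = 21 * e' := by
    rw [← hH] at g1
    refine Nat.eq_of_mul_eq_mul_right hHpos ?_
    rw [mul_assoc, ← g1, ← hcC, e2, he']; ring
  have he'pos : e' ≠ 0 := by
    rintro rfl
    exact Nat.card_pos.ne' (he'.trans (mul_zero _))
  have hO21 : O.ncard = 21 ∧ e' ∣ 2 := by
    rcases (Nat.dvd_prime Nat.prime_two).1 hrel with h | h <;> rw [h] at hmain
    · have : e' = 1 := by omega
      subst this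
      exact ⟨by omega, by norm_num⟩
    · have : e' = 2 := by omega
      subst this
      exact ⟨by omega, by norm_num⟩
  have hOeq : O = {a}ᶜ := Set.eq_of_subset_of_ncard_le hOsub (by rw [hc21, hO21.1])
  rw [hO21.1, ← hH] at g1
  -- the action of `C` on the orbits of `P a`
  set B : Set Ω := {c | ∃ g ∈ P a, g • b = c} with hB
  have hB3 : B.ncard = 3 := by
    have h1 := card_orb (P a) b B (fun _ => Iff.rfl)
    have h3 : Nat.card ↥(P a ⊓ stabilizer G b) = 1 := by
      have d1 : Nat.card ↥(P a ⊓ stabilizer G b) ∣ 3 := hP3 ▸ Subgroup.card_dvd_of_le inf_le_left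
      have d2 : Nat.card ↥(P a ⊓ stabilizer G b) ∣ Nat.card ↥(stabilizer G a ⊓ stabilizer G b) :=
        Subgroup.card_dvd_of_le (inf_le_inf_right _ (hPC.trans hCa))
      rcases (Nat.dvd_prime Nat.prime_three).1 d1 with h | h
      · exact h
      · exact absurd (h ▸ d2) hn3
    rw [h3, hP3, mul_one] at h1
    exact h1.symm
  have hcomm : ∀ g ∈ C, ∀ y ∈ P a, ∀ c : Ω, g • y • c = y • g • c := by
    intro g hg y hy c
    rw [← mul_smul, ← mul_smul, hg y hy]
  have hsmulB : ∀ g ∈ C, ∀ c, c ∈ g • B ↔ ∃ y ∈ P a, y • g • b = c := by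
    intro g hg c
    rw [Set.mem_smul_set]
    constructor
    · rintro ⟨_, ⟨y, hy, rfl⟩, rfl⟩
      exact ⟨y, hy, (hcomm g hg y hy b).symm⟩
    · rintro ⟨y, hy, rfl⟩
      exact ⟨_, ⟨y, hy, rfl⟩, hcomm g hg y hy b⟩
  have hstab : ∀ g ∈ C, g • b ∈ B → g • B = B := by
    rintro g hg ⟨z, hz, hzb⟩
    ext c
    rw [hsmulB g hg, ← hzb]
    constructor
    · rintro ⟨y, hy, rfl⟩
      exact ⟨y * z, (P a).mul_mem hy hz, mul_smul _ _ _⟩
    · rintro ⟨y, hy, rfl⟩
      exact ⟨y * z⁻¹, (P a).mul_mem hy ((P a).inv_mem hz), by rw [mul_smul, inv_smul_smul]⟩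
  have hbB : b ∈ B := ⟨1, (P a).one_mem, one_smul _ _⟩
  have g2 := card_orb (C ⊓ stabilizer G B) b B (fun c => by
    constructor
    · rintro ⟨y, hy, rfl⟩
      exact ⟨y, ⟨hPC hy, hstab y (hPC hy) ⟨y, hy, rfl⟩⟩, rfl⟩
    · rintro ⟨g, hg, rfl⟩
      have : g • b ∈ g • B := Set.smul_mem_smul_set hbB
      rwa [mem_stabilizer_iff.1 hg.2] at this)
  have g3 : C ⊓ stabilizer G B ⊓ stabilizer G b = H := by
    refine le_antisymm (fun x hx => ⟨hx.1.1, hx.2⟩) fun x hx => ⟨⟨hx.1, ?_⟩, hx.2⟩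
    exact hstab x hx.1 (by rw [mem_stabilizer_iff.1 hx.2]; exact hbB)
  rw [g3, hB3] at g2
  have g4 := card_orb C B (orbit C B) (fun c => by
    rw [mem_orbit_iff]
    exact ⟨fun ⟨g, h⟩ => ⟨g, g.2, h⟩, fun ⟨g, hg, h⟩ => ⟨⟨g, hg⟩, h⟩⟩)
  have hX7 : (orbit C B).ncard = 7 := by
    rw [g1, g2] at g4
    refine Nat.eq_of_mul_eq_mul_right hHpos ?_
    nlinarith
  classical
  haveI : Fintype (orbit C B) := Fintype.ofFinite _
  have hX7' : Fintype.card (orbit C B) = 7 := by
    rw [← Nat.card_eq_fintype_card, Nat.card_coe_set_eq, hX7]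
  set φ := toPermHom C (orbit C B) with hφ
  have hker : φ.ker = (P a).subgroupOf C := by
    ext g
    rw [MonoidHom.mem_ker, Subgroup.mem_subgroupOf]
    constructor
    · intro h
      refine (hP _ _).2 ⟨hCa g.2, 1, ?_⟩
      refine FaithfulSMul.eq_of_smul_eq_smul (α := Ω) fun c => ?_
      rw [one_smul]
      by_cases hc : c = a
      · rw [hc]; exact mem_stabilizer_iff.1 (Subgroup.pow_mem _ (hCa g.2) _)
      obtain ⟨k, hk, rfl⟩ : c ∈ O := hOeq ▸ hc
      have h1 : (g : G) • k • B = k • B := by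
        have := congrArg (fun σ : Equiv.Perm (orbit C B) =>
          ((σ ⟨(⟨k, hk⟩ : C) • B, mem_orbit _ _⟩ : orbit C B) : Set Ω)) h
        exact this
      have h3 : (g : G) • k • b ∈ k • B := by
        rw [← h1]; exact Set.smul_mem_smul_set (Set.smul_mem_smul_set hbB)
      obtain ⟨y, hy, hyb⟩ := (hsmulB k hk _).1 h3
      have hy3 : y ^ 3 = 1 := by
        have := pow_card_eq_one' (x := (⟨y, hy⟩ : P a))
        rw [hP3] at this
        exact congrArg Subtype.val this
      have h4 : (g : G) ^ 3 • k • b = y ^ 3 • k • b := by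
        simp only [pow_succ, pow_zero, one_mul, mul_smul]
        rw [← hyb, hcomm g g.2 y hy, ← hyb, hcomm g g.2 y hy, hcomm g g.2 y hy, ← hyb]
      rw [pow_one, h4, hy3, one_smul]
    · intro h
      ext1 ⟨_, ⟨k, rfl⟩⟩
      refine Subtype.ext ?_
      change (g : G) • (k : G) • B = (k : G) • B
      rw [← mul_smul, k.2 g h, mul_smul, hstab g g.2 ⟨g, h, rfl⟩]
  have hR : Nat.card φ.range = 7 * Nat.card H := by
    have h1 := φ.ker.card_mul_index
    rw [Subgroup.index_ker, hker, Nat.card_congr (Subgroup.subgroupOfEquivOfLe hPC).toEquiv, hP3,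
      g1] at h1
    omega
  haveI : IsPretransitive φ.range (orbit C B) := ⟨fun x y => by
    obtain ⟨g, hg⟩ := exists_smul_eq C x y
    exact ⟨⟨φ g, g, rfl⟩, hg⟩⟩
  have hH3 : ¬ 3 ∣ Nat.card H := fun h => hn3 (he' ▸ h.mul_right _)
  have hH2 : Nat.card H ∣ 2 := by
    rcases prime_deg (G := φ.range) hX7' with h | h
    · rw [hR] at h
      exact absurd ((show 3 ∣ 7 - 1 by norm_num).trans
        (Nat.dvd_of_mul_dvd_mul_left (by norm_num) h)) hH3
    · rw [hR] at h
      have h6 : Nat.card H ∣ 3 * 2 := Nat.dvd_of_mul_dvd_mul_left (by norm_num) h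
      exact Nat.Coprime.dvd_of_dvd_mul_left
        ((Nat.Prime.coprime_iff_not_dvd Nat.prime_three).2 hH3).symm h6
  rw [he']
  exact Nat.mul_dvd_mul hH2 hO21.2

theorem arith2 {n m : ℕ} (hm : m ∣ 4) (h : n ∣ 42 * m) (h3 : 3 ∣ n) (h7 : 7 ∣ n)
    (h1 : n ≡ 1 [MOD 11]) : False := by
  have h168 : n ∣ 168 := h.trans (Nat.mul_dvd_mul_left 42 hm)
  obtain ⟨k, rfl⟩ : 21 ∣ n := Nat.Coprime.mul_dvd_of_dvd_of_dvd (by norm_num) h3 h7
  have h8 : k ∣ 8 := Nat.dvd_of_mul_dvd_mul_left (by norm_num : 0 < 21) h168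
  have := Nat.le_of_dvd (by norm_num) h8
  revert h8 h1
  interval_cases k <;> decide

theorem core [FaithfulSMul G Ω]
    (h2 : ∀ a b c d : Ω, a ≠ b → c ≠ d → ∃ g : G, g • a = c ∧ g • b = d)
    (hΩ : Fintype.card Ω = 22)
    {P : Ω → Subgroup G} (hP : ∀ a g, g ∈ P a ↔ g • a = a ∧ ∃ k, g ^ 3 ^ k = 1)
    (hfix : ∀ a b, (∀ g ∈ P a, g • b = b) → b = a) : False := by
  haveI : Fact (Nat.Prime 11) := ⟨by norm_num⟩
  obtain ⟨a, b, hab⟩ : ∃ a b : Ω, a ≠ b :=
    Fintype.exists_pair_of_one_lt_card (by rw [hΩ]; norm_num)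
  obtain ⟨e1, e2⟩ := card_two h2 hΩ hab
  have h4 := step2 h2 hΩ hP hfix hab
  set m := Nat.card ↥(stabilizer G a ⊓ stabilizer G b) with hm
  have hG : Nat.card G = 11 * (42 * m) := by rw [e1, e2]; ring
  have hm11 : ¬ 11 ∣ 42 * m := fun h => by
    have := h.trans (Nat.mul_dvd_mul_left 42 h4)
    norm_num at this
  obtain ⟨Q⟩ : Nonempty (Sylow 11 G) := inferInstance
  obtain ⟨z, hz, hQz⟩ := H18.sylow_eq_zpowers (p := 11) (hG ▸ dvd_mul_right _ _)
    (fun h => hm11 (by rw [hG, pow_two] at h; exact Nat.dvd_of_mul_dvd_mul_left (by norm_num) h)) Q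
  have hQ : Nat.card (Q : Subgroup G) = 11 := by rw [hQz, Nat.card_zpowers, hz]
  have hQfix : ∀ c : Ω, ¬ ∀ g ∈ (Q : Subgroup G), g • c = c := by
    intro c hc
    obtain ⟨d, hd⟩ := Fintype.exists_ne_of_one_lt_card (by rw [hΩ]; norm_num) c
    have h1 := (card_two h2 hΩ hd.symm).1
    have h3 : Nat.card (Q : Subgroup G) ∣ Nat.card (stabilizer G c) :=
      Subgroup.card_dvd_of_le fun g hg => hc g hg
    rw [hG] at h1
    rw [hQ] at h3
    apply hm11
    have : 42 * m = 2 * Nat.card (stabilizer G c) := by omega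
    rw [this]; exact h3.mul_left _
  have hcent : ∀ r : ℕ, r.Prime → (r = 3 ∨ r = 7) →
      ¬ r ∣ Nat.card (Subgroup.centralizer ((Q : Subgroup G) : Set G)) := by
    intro r hr hr' hd
    haveI : Fact r.Prime := ⟨hr⟩
    obtain ⟨y, hy⟩ := exists_prime_orderOf_dvd_card' r hd
    have hy' : orderOf (y : G) = r := by rw [Subgroup.orderOf_coe, hy]
    set F : Set Ω := fixedPoints (Subgroup.zpowers (y : G)) Ω with hF
    have hFmem : ∀ c, c ∈ F ↔ (y : G) • c = c := fun c =>
      ⟨fun h => h ⟨y, Subgroup.mem_zpowers _⟩, fun h g =>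
        mem_stabilizer_iff.1 ((Subgroup.zpowers_le (H := stabilizer G c)).2 h g.2)⟩
    have m1 := H18.ncard_modEq_fixed (Subgroup.zpowers (y : G))
      (IsPGroup.of_card (p := r) (n := 1) (by rw [Nat.card_zpowers, hy', pow_one]))
      (Set.univ : Set Ω) (Set.toFinite _) (fun _ _ _ _ => trivial)
    rw [Set.ncard_univ, Nat.card_eq_fintype_card, hΩ, Set.univ_inter, ← hF] at m1
    have m2 := H18.ncard_modEq_fixed (Q : Subgroup G) Q.isPGroup' F (Set.toFinite _)
      (fun g hg c hc => by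
        rw [hFmem] at hc ⊢
        rw [← mul_smul, ← y.2 g hg, mul_smul, hc])
    have hempty : F ∩ fixedPoints (Q : Subgroup G) Ω = ∅ :=
      Set.eq_empty_of_forall_notMem fun c hc => hQfix c fun g hg => hc.2 ⟨g, hg⟩
    rw [hempty, Set.ncard_empty] at m2
    have hle : F.ncard ≤ 22 := by
      have := Set.ncard_le_ncard (Set.subset_univ F)
      rwa [Set.ncard_univ, Nat.card_eq_fintype_card, hΩ] at this
    have h22 : F.ncard = 22 := by
      unfold Nat.ModEq at m1 m2
      rcases hr' with rfl | rfl <;> omega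
    have hFu : F = Set.univ := by
      refine Set.eq_of_subset_of_ncard_le (Set.subset_univ _) ?_
      rw [h22, Set.ncard_univ, Nat.card_eq_fintype_card, hΩ]
    have : (y : G) = 1 := FaithfulSMul.eq_of_smul_eq_smul (α := Ω) fun c => by
      rw [one_smul]; exact (hFmem c).1 (hFu ▸ trivial)
    rw [this, orderOf_one] at hy'
    exact hr.one_lt.ne hy'
  have hc := H27.card_eq_index_mul (Q : Subgroup G)
  have hrel := H27.relIndex_centralizer_dvd_pred hQ
  have hn := card_sylow_modEq_one 11 G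
  rw [Q.card_eq_index_normalizer] at hn
  have hdvd : ∀ r : ℕ, r.Prime → (r = 3 ∨ r = 7) →
      r ∣ (Subgroup.normalizer ((Q : Subgroup G) : Set G)).index := by
    intro r hr hr'
    have h1 : r ∣ Nat.card G := by
      rw [hG]; rcases hr' with rfl | rfl <;> omega
    rw [hc] at h1
    rcases (hr.dvd_mul.1 h1) with h | h
    · rcases (hr.dvd_mul.1 h) with h | h
      · exact h
      · have := h.trans hrel
        rcases hr' with rfl | rfl <;> norm_num at this
    · exact absurd h (hcent r hr hr')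
  refine arith2 h4 ?_ (hdvd 3 Nat.prime_three (Or.inl rfl)) (hdvd 7 (by norm_num) (Or.inr rfl)) hn
  have h1 : (Subgroup.normalizer ((Q : Subgroup G) : Set G)).index ∣ (Q : Subgroup G).index :=
    Subgroup.index_dvd_of_le Subgroup.le_normalizer
  have h3 := (Q : Subgroup G).card_mul_index
  rw [hQ, hG] at h3
  rwa [Nat.eq_of_mul_eq_mul_left (by norm_num) h3] at h1

end core

end H01.S22
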