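import Mathlib
import Cfsg.Agent.BG.Quo3
import Cfsg.Agent.H04.Basic

/-!
Vaughan-Lee's theorem on the breadth of a `p`-group (namespace `H01`).
* `Mx p P X` (normal subgroup of index `p`), `exists_mx`, `Mx.third`
* `card_der_sup_zpowers`, `exists_derZ`, `tri`, `VA`, `VB`, `vaughan_lee`
-/

set_option autoImplicit false
set_option linter.style.haveILetI false
set_option linter.unusedSectionVars false

namespace H01
open Cfsg BG
open scoped commutatorElement MatrixGroups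

universe u
variable {G : Type u} [Group G] [Finite G] {A B D E H K L M N P Q R S T U V W X Y Z : Subgroup G}
  {a b c g h s t x y z : G} {p n : ℕ}

/-- `P` is a normal subgroup of index `p` of `X` -/
structure Mx (p : ℕ) (P X : Subgroup G) : Prop where
  le : P ≤ X
  nm : X ≤ N_(P)
  idx : P.relIndex X = p

theorem exists_mx [hp : Fact p.Prime] (hX : IsPGroup p X) (h : H < X) : ∃ M, Mx p M X ∧ H ≤ M := by
  have h1 : H.subgroupOf X ≠ ⊤ := fun e => h.not_ge (Subgroup.subgroupOf_eq_top.1 e)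
  obtain ⟨M, hM, h2⟩ := (eq_top_or_exists_le_coatom _).resolve_left h1
  have := hX.isNilpotent
  have h3 : M.Normal := Subgroup.NormalizerCondition.normal_of_coatom M Group.normalizerCondition_of_isNilpotent hM
  refine ⟨M.map X.subtype, ⟨Subgroup.map_subtype_le _, le_norm_iff.2 ?_, ?_⟩, ?_⟩
  · rintro a ha _ ⟨k, hk, rfl⟩
    exact ⟨_, h3.conj_mem k hk ⟨a, ha⟩, rfl⟩
  · rw [Subgroup.relIndex, Subgroup.subgroupOf, Subgroup.comap_map_eq_self_of_injective X.subtype_injective]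
    exact (H04.isCoatom_iff_index_eq hX).1 hM
  · exact fun x hx => ⟨⟨x, h.le hx⟩, h2 hx, rfl⟩

theorem Mx.lt [hp : Fact p.Prime] (h : Mx p P X) : P < X := lt_of_le_of_ne h.le fun e => by
  have := h.idx
  rw [e, Subgroup.relIndex_self] at this
  exact hp.out.one_lt.ne this

theorem Mx.max [hp : Fact p.Prime] (h : Mx p P X) (h1 : P ≤ K) (h2 : K ≤ X) : K = P ∨ K = X := by
  have h3 := relIndex_mul h1 h2
  rw [h.idx] at h3
  rcases (Nat.dvd_prime hp.out).1 (Dvd.intro _ h3) with h4 | h4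
  · exact Or.inl (le_antisymm (Subgroup.relIndex_eq_one.1 h4) h1)
  · rw [h4] at h3
    exact Or.inr (le_antisymm h2 (Subgroup.relIndex_eq_one.1 ((Nat.mul_eq_left hp.out.ne_zero).1 h3)))

theorem Mx.inf [hp : Fact p.Prime] (h : Mx p H X) (hM : M ≤ X) (hn : ¬ M ≤ H) : Mx p (H ⊓ M) M := by
  refine ⟨inf_le_right, le_norm_inf' (hM.trans h.nm), ?_⟩
  rw [Subgroup.inf_relIndex_right]
  have := relIndex_dvd_of_norm hM h.nm
  rw [h.idx] at this
  exact ((Nat.dvd_prime hp.out).1 this).resolve_left fun e => hn (Subgroup.relIndex_eq_one.1 e)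

theorem Mx.pow (h : Mx p P X) (hg : g ∈ X) : g ^ p ∈ P := by
  have := normal_subgroupOf h.nm
  have h1 := (P.subgroupOf X).pow_index_mem ⟨g, hg⟩
  rw [show (P.subgroupOf X).index = p from h.idx] at h1
  exact h1

theorem Mx.not_le [hp : Fact p.Prime] (h : Mx p H X) (hM : Mx p M X) (hne : H ≠ M) : ¬ H ≤ M := fun e =>
  (h.max e hM.le).elim (fun e' => hne e'.symm) hM.lt.ne

theorem Mx.sup [hp : Fact p.Prime] (h : Mx p P X) (hK : K ≤ X) (hn : ¬ K ≤ P) : P ⊔ K = X :=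
  (h.max le_sup_left (sup_le h.le hK)).resolve_left fun e => hn (le_sup_right.trans e.le)

theorem Mx.third [hp : Fact p.Prime] (hX : IsPGroup p X) (h : Mx p H X) (hM : Mx p M X) (hne : H ≠ M) :
    ∃ P, Mx p P X ∧ P ⊓ M ≤ H ∧ ¬ P ≤ H := by
  obtain ⟨a, ha, ha'⟩ := SetLike.not_le_iff_exists.1 (hM.not_le h hne.symm)
  obtain ⟨c, hc, hc'⟩ := SetLike.not_le_iff_exists.1 (h.not_le hM hne)
  have h1 := h.inf hM.le (hM.not_le h hne.symm)
  have hw : a * c ∈ X := mul_mem (hM.le ha) (h.le hc)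
  have wM : a * c ∉ M := fun e => hc' ((M.mul_mem_cancel_left ha).1 e)
  have wH : a * c ∉ H := fun e => ha' ((H.mul_mem_cancel_right hc).1 e)
  generalize a * c = w at hw wM wH
  have hn : X ≤ N_(H ⊓ M) := norm_inf h.nm hM.nm
  have h2 : (H ⊓ M) ⊔ Subgroup.zpowers w < X := by
    refine lt_of_le_of_ne (sup_le (inf_le_left.trans h.le) (Subgroup.zpowers_le.2 hw)) fun e => ?_
    have h3 := card_quo hn
    rw [← relIndex_mul h1.le hM.le, h1.idx, hM.idx] at h3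
    conv_lhs at h3 => rw [← e]
    rw [quo_sup_left (Subgroup.zpowers_le.2 (hn hw)), quo_zpowers (hn hw), card_zpowers] at h3
    have h4 : orderOf (qmk (H ⊓ M) ⟨w, hn hw⟩) ∣ p := orderOf_dvd_of_pow_eq_one (by
      rw [← qmk_pow, qmk_eq_one]; exact ⟨h.pow hw, hM.pow hw⟩)
    rw [h3] at h4
    have := Nat.le_of_dvd hp.out.pos h4
    have := hp.out.one_lt
    nlinarith
  obtain ⟨P, hP, h3⟩ := exists_mx hX h2
  have wP : w ∈ P := h3 (Subgroup.mem_sup_right (Subgroup.mem_zpowers w))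
  refine ⟨P, hP, ?_, fun e => wH (e wP)⟩
  rcases h1.max (K := P ⊓ M) (le_inf (le_sup_left.trans h3) inf_le_right) inf_le_right with h4 | h4
  · exact h4.le.trans inf_le_left
  · exact absurd (h4.ge.trans inf_le_left) (hM.not_le hP fun e => wM (e ▸ wP))

theorem exists_out_two (h1 : H < X) (h2 : K < X) : ∃ y ∈ X, y ∉ H ∧ y ∉ K := by
  by_contra e
  push Not at e
  have : (X : Set G) ⊆ H ∪ K := fun y hy => by
    by_cases h : y ∈ H
    exacts [Or.inl h, Or.inr (e y hy h)]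
  rcases SubgroupClass.subset_union.1 this with h | h
  exacts [h1.not_ge h, h2.not_ge h]

theorem card_der_sup_zpowers (hA : IsMulCommutative A) (hx : x ∈ N_(A)) :
    Nat.card ↥⁅A ⊔ Subgroup.zpowers x, A ⊔ Subgroup.zpowers x⁆ ≤ (C_[x]).relIndex A := by
  let φ : A →* G := MonoidHom.mk' (fun a => (a : G) * (x * (a : G)⁻¹ * x⁻¹)) fun a b => by
    have h1 := mul_comm_of_abelian hA b.2 (conj_mem_of_norm hx (inv_mem a.2))
    have h2 := mul_comm_of_abelian hA (conj_mem_of_norm hx (inv_mem b.2)) (conj_mem_of_norm hx (inv_mem a.2))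
    calc ((a * b : A) : G) * (x * ((a * b : A) : G)⁻¹ * x⁻¹)
        = a * b * ((x * (b : G)⁻¹ * x⁻¹) * (x * (a : G)⁻¹ * x⁻¹)) := by push_cast; group
      _ = a * (b * (x * (a : G)⁻¹ * x⁻¹)) * (x * (b : G)⁻¹ * x⁻¹) := by rw [h2]; simp only [mul_assoc]
      _ = _ := by rw [h1]; simp only [mul_assoc]
  have hφ : ∀ a : A, φ a = (a : G) * (x * (a : G)⁻¹ * x⁻¹) := fun _ => rfl
  have h1 : φ.range ≤ A := by
    rintro _ ⟨a, rfl⟩
    exact mul_mem a.2 (conj_mem_of_norm hx (inv_mem a.2))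
  have h2 : φ.ker = (C_[x]).subgroupOf A := by
    ext a
    rw [MonoidHom.mem_ker, hφ, Subgroup.mem_subgroupOf, mem_cent1]
    constructor
    · intro h
      calc (a : G) * x = a * (x * (a : G)⁻¹ * x⁻¹) * (x * a) := by group
        _ = _ := by rw [h, one_mul]
    · intro h
      calc (a : G) * (x * (a : G)⁻¹ * x⁻¹) = a * x * (x * a)⁻¹ := by group
        _ = 1 := by rw [h, mul_inv_cancel]
  have h3 : x ∈ N_(φ.range) := mem_norm_of_cj_le fun g hg => by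
    obtain ⟨_, ⟨a, rfl⟩, rfl⟩ := mem_cj'.1 hg
    exact ⟨⟨_, conj_mem_of_norm hx a.2⟩, by rw [hφ, hφ]; group⟩
  have h4 : ⁅A, Subgroup.zpowers x⁆ ≤ φ.range := by
    rw [Subgroup.commutator_le]
    intro a ha g hg
    have key : ∀ g ∈ Subgroup.zpowers x, g ∈ N_(A) ⊓ N_(φ.range) ∧ ∀ a ∈ A, ⁅a, g⁆ ∈ φ.range := by
      intro g hg
      refine ⟨Subgroup.zpowers_le.2 (show x ∈ N_(A) ⊓ N_(φ.range) from ⟨hx, h3⟩) hg, ?_⟩
      obtain ⟨k, rfl⟩ := (mem_powers_iff_mem_zpowers.2 hg)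
      induction k with
      | zero => intro a _; simp
      | succ k ih =>
        intro a ha
        have e : ⁅a, x ^ (k + 1)⁆ = (a * (x * a⁻¹ * x⁻¹)) * (x * ⁅a, x ^ k⁆ * x⁻¹) := by
          rw [pow_succ']; simp only [commutatorElement_def]; group
        show ⁅a, x ^ (k + 1)⁆ ∈ _
        rw [e]
        exact mul_mem ⟨⟨a, ha⟩, rfl⟩ (conj_mem_of_norm h3 (ih (pow_mem (Subgroup.mem_zpowers x) k) a ha))
    exact (key g hg).2 a ha
  have h5 : ⁅A ⊔ Subgroup.zpowers x, A ⊔ Subgroup.zpowers x⁆ ≤ φ.range :=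
    der_sup_le (le_norm_of_abelian hA h1) (Subgroup.zpowers_le.2 h3) ((abelian_iff_der.1 hA).le.trans bot_le) h4
      ((abelian_iff_der.1 (abelian_of_cyclic (cyclic_zpowers x))).le.trans bot_le)
  refine (card_le h5).trans ?_
  rw [← Subgroup.index_ker, h2]
  exact le_rfl

theorem exists_derZ [hp : Fact p.Prime] (h : Mx p P X) (hx : x ∈ X) (hx' : x ∉ P) : ∃ Z ≤ P,
    Nat.card ↥⁅X, X⁆ ≤ Nat.card ↥⁅P, P⁆ * Z.relIndex P ∧ Z.relIndex P ≤ (C_[x]).relIndex X ∧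
    ∀ y ∈ P, y ∉ Z → (C_[y]).relIndex X = p * (C_[y]).relIndex P := by
  have hn : X ≤ N_(⁅P, P⁆) := norm_der h.nm
  have hnP := h.le.trans hn
  have e : P ⊔ Subgroup.zpowers x = X := h.sup (Subgroup.zpowers_le.2 hx) fun e => hx' (e (Subgroup.mem_zpowers x))
  obtain ⟨Z, hZ⟩ : ∃ Z, Z = coquo ⁅P, P⁆ (quo ⁅P, P⁆ P ⊓ C_[qmk ⁅P, P⁆ ⟨x, hn hx⟩]) := ⟨_, rfl⟩
  have ZP : Z ≤ P := hZ ▸ coquo_le_of_le_quo (der_le P) inf_le_left
  have mem : ∀ y ∈ P, y * x * y⁻¹ * x⁻¹ ∈ ⁅P, P⁆ → y ∈ Z := fun y hy h1 => by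
    rw [hZ]
    refine mem_coquo.2 ⟨hnP hy, qmk_mem_quo hy _, mem_cent1.2 ?_⟩
    rw [← mul_inv_eq_one, mul_inv_rev, ← mul_assoc, ← qmk_inv, ← qmk_inv, ← qmk_mul, ← qmk_mul, ← qmk_mul, qmk_eq_one]
    exact h1
  refine ⟨Z, ZP, ?_, ?_, fun y hy hy' => ?_⟩
  · have h1 := card_der_sup_zpowers ((abelian_quo_iff hnP).2 le_rfl) (qmk_mem_norm (hn hx) (h.nm hx))
    rw [← quo_zpowers, ← quo_sup hnP (Subgroup.zpowers_le.2 (hn hx)), e, ← quo_comm hn hn] at h1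
    rw [← card_quo_mul ((der_le X).trans hn) (der_mono h.le)]
    refine Nat.mul_le_mul_left _ (h1.trans (le_of_eq ?_))
    have h2 := card_mul_relIndex ZP
    have h3 := card_inf_mul_relIndex C_[qmk ⁅P, P⁆ ⟨x, hn hx⟩] (quo ⁅P, P⁆ P)
    have h4 := card_quo_mul hnP (der_le P)
    have h5 : Nat.card Z = _ := hZ ▸ card_coquo _
    rw [← h4, ← h3, h5, inf_comm, mul_assoc] at h2
    exact (Nat.eq_of_mul_eq_mul_left (card_pos _) (Nat.eq_of_mul_eq_mul_left (card_pos _) h2)).symm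
  · refine le_trans ?_ (Subgroup.relIndex_le_of_le_right h.le (relIndex_ne_zero _ _))
    rw [← Subgroup.inf_relIndex_right C_[x] P]
    refine Subgroup.relIndex_le_of_le_left (fun y hy => mem y hy.2 ?_) (relIndex_ne_zero _ _)
    rw [mem_cent1.1 hy.1]
    simp
  · have h1 : C_[y] ⊓ X ≤ P := by
      by_contra h1
      obtain ⟨u, hu, c, hc, h2⟩ := (mem_sup_norm (inf_le_right.trans h.nm)).1 ((h.sup inf_le_right h1).ge hx)
      refine hy' (mem y hy ?_)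
      have h3 : y * x * y⁻¹ * x⁻¹ = ⁅y, u⁆ := by
        rw [← h2, commutatorElement_def]
        calc y * (u * c) * y⁻¹ * (u * c)⁻¹ = y * u * y⁻¹ * (y * c) * (c * y)⁻¹ * u⁻¹ := by group
          _ = _ := by rw [mem_cent1.1 hc.1]; group
      rw [h3]
      exact Subgroup.commutator_mem_commutator hy hu
    rw [← Subgroup.inf_relIndex_right, ← relIndex_mul h1 h.le, h.idx, mul_comm, ← Subgroup.inf_relIndex_right,
      inf_assoc, inf_eq_right.2 h.le, Subgroup.inf_relIndex_right]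

/-- triangular numbers -/
def tri : ℕ → ℕ
  | 0 => 0
  | n + 1 => tri n + (n + 1)

theorem tri_eq (n : ℕ) : tri n = n * (n + 1) / 2 := by
  induction n with
  | zero => rfl
  | succ n ih =>
    rw [tri, ih, show (n + 1) * (n + 1 + 1) = n * (n + 1) + (n + 1) * 2 by ring, Nat.add_mul_div_right _ _ two_pos]

/-- first inductive statement -/
def VA (p : ℕ) (X : Subgroup G) : Prop := ∀ (b : ℕ) (H K : Subgroup G), H < X → (K ≤ H ∨ ∃ M, K < M ∧ M < X) →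
  (∀ y ∈ X, y ∉ H → y ∉ K → (C_[y]).relIndex X ≤ p ^ b) → Nat.card ↥⁅X, X⁆ ≤ p ^ tri b

/-- second inductive statement -/
def VB (p : ℕ) (X : Subgroup G) : Prop := ∀ (b : ℕ) (H K : Subgroup G), H < X → K < X →
  (∀ y ∈ X, y ∉ H → (C_[y]).relIndex X ≤ p ^ (b + 1)) →
  (∀ y ∈ X, y ∉ H → y ∉ K → (C_[y]).relIndex X ≤ p ^ b) → Nat.card ↥⁅X, X⁆ * p ≤ p ^ tri (b + 1)

theorem vcore [hp : Fact p.Prime] (hX : IsPGroup p X) (h : Mx p P X) (hA : VA p P) (hB : VB p P) (hQ : Q < P)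
    (hx : x ∈ X) (hx' : x ∉ P) {b : ℕ} (hb : ∀ y ∈ P, y ∉ Q → (C_[y]).relIndex X ≤ p ^ b) :
    Nat.card ↥⁅X, X⁆ ≤ p ^ tri b ∨ ∃ c, b = c + 1 ∧ Nat.card ↥⁅X, X⁆ ≤ p ^ tri c * (C_[x]).relIndex X := by
  obtain ⟨Z, h1, h2, h3, h4⟩ := exists_derZ h hx hx'
  have hb' : ∀ y ∈ P, y ∉ Q → (C_[y]).relIndex P ≤ p ^ b := fun y hy hy' =>
    (Subgroup.relIndex_le_of_le_right h.le (relIndex_ne_zero _ _)).trans (hb y hy hy')
  rcases h1.eq_or_lt with e | h5
  · rw [e, Subgroup.relIndex_self, mul_one] at h2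
    exact Or.inl (h2.trans (hA b Q Q hQ (Or.inl le_rfl) fun y hy hy' _ => hb' y hy hy'))
  rcases b with _ | c
  · obtain ⟨y, hy, h6, h7⟩ := exists_out_two hQ h5
    have h8 := hb y hy h6
    rw [h4 y hy h7, pow_zero] at h8
    have := hp.out.one_lt
    have := Nat.pos_of_ne_zero (relIndex_ne_zero C_[y] P)
    nlinarith
  have hc : ∀ y ∈ P, y ∉ Q → y ∉ Z → (C_[y]).relIndex P ≤ p ^ c := fun y hy h6 h7 => by
    have h8 := hb y hy h6
    rw [h4 y hy h7, pow_succ'] at h8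
    exact Nat.le_of_mul_le_mul_left h8 hp.out.pos
  obtain ⟨M, hM, h6⟩ := exists_mx (pg_le hX h.le) h5
  rcases h6.eq_or_lt with e | h7
  · rw [e, hM.idx] at h2
    exact Or.inl (h2.trans (hB c Q Z hQ h5 hb' hc))
  · exact Or.inr ⟨c, rfl, h2.trans (Nat.mul_le_mul (hA c Q Z hQ (Or.inr ⟨M, h7, hM.lt⟩) hc) h3)⟩

theorem vab [hp : Fact p.Prime] (X : Subgroup G) : IsPGroup p X → VA p X ∧ VB p X := by
  induction X using WellFoundedLT.induction with
  | _ X ih =>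
  intro hX
  have core : ∀ H M : Subgroup G, Mx p H X → Mx p M X → H ≠ M → ∀ x ∈ M, x ∉ H → ∀ b : ℕ,
      (∀ y ∈ X, y ∉ H → y ∉ M → (C_[y]).relIndex X ≤ p ^ b) →
      Nat.card ↥⁅X, X⁆ ≤ p ^ tri b ∨ ∃ c, b = c + 1 ∧ Nat.card ↥⁅X, X⁆ ≤ p ^ tri c * (C_[x]).relIndex X := by
    intro H M hH hM hne x hx hx' b hb
    obtain ⟨P, hP, h1, h2⟩ := hH.third hX hM hne
    obtain ⟨h3, h4⟩ := ih P hP.lt (pg_le hX hP.le)
    refine vcore hX hP h3 h4 (hH.inf hP.le h2).lt (hM.le hx) (fun e => hx' (h1 ⟨e, hx⟩)) fun y hy hy' => ?_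
    exact hb y (hP.le hy) (fun e => hy' ⟨e, hy⟩) fun e => hy' ⟨h1 ⟨hy, e⟩, hy⟩
  have hA : VA p X := by
    intro b H K h1 h2 h3
    obtain ⟨H', hH, h4⟩ := exists_mx hX h1
    have fin : ∀ M : Subgroup G, Mx p M X → ∀ x ∈ M, x ∉ H' → x ∉ K → (∀ y ∈ X, y ∉ H' → y ∉ M → y ∉ K) →
        Nat.card ↥⁅X, X⁆ ≤ p ^ tri b := fun M hM x hx hx1 hx2 h5 => by
      rcases core H' M hH hM (fun e => hx1 (e ▸ hx)) x hx hx1 b
        (fun y hy h6 h7 => h3 y hy (fun e => h6 (h4 e)) (h5 y hy h6 h7)) with h6 | ⟨c, rfl, h6⟩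
      · exact h6
      · rw [tri, pow_add]
        exact h6.trans (Nat.mul_le_mul_left _ (h3 x (hM.le hx) (fun e => hx1 (h4 e)) hx2))
    by_cases h5 : K ≤ H'
    · obtain ⟨x, hx, hx'⟩ := SetLike.exists_of_lt hH.lt
      rcases (Subgroup.zpowers_le.2 hx).eq_or_lt with e | h6
      · rw [← e, abelian_iff_der.1 (abelian_of_cyclic (cyclic_zpowers x)), Subgroup.card_bot]
        exact pow_pos hp.out.pos _
      · obtain ⟨M, hM, h7⟩ := exists_mx hX h6
        exact fin M hM x (h7 (Subgroup.mem_zpowers x)) hx' (fun e => hx' (h5 e)) fun y _ h8 _ e => h8 (h5 e)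
    · obtain ⟨M₀, h6, h7⟩ := h2.resolve_left fun e => h5 (e.trans h4)
      obtain ⟨M, hM, h8⟩ := exists_mx hX h7
      have h9 := h6.trans_le h8
      obtain ⟨x, hx, hx1, hx2⟩ := exists_out_two (hH.inf hM.le fun e => h5 (h9.le.trans e)).lt h9
      exact fin M hM x hx (fun e => hx1 ⟨e, hx⟩) hx2 fun y _ _ h10 e => h10 (h9.le e)
  refine ⟨hA, fun b H K h1 h2 h3 h4 => ?_⟩
  obtain ⟨H', hH, h5⟩ := exists_mx hX h1
  obtain ⟨M, hM, h6⟩ := exists_mx hX h2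
  have fin : Nat.card ↥⁅X, X⁆ ≤ p ^ tri b → Nat.card ↥⁅X, X⁆ * p ≤ p ^ tri (b + 1) := fun h7 =>
    (Nat.mul_le_mul_right p h7).trans (by
      rw [← pow_succ]; exact Nat.pow_le_pow_right hp.out.pos (by rw [tri]; omega))
  by_cases e : H' = M
  · exact fin (hA b H' H' hH.lt (Or.inl le_rfl) fun y hy h7 _ =>
      h4 y hy (fun e' => h7 (h5 e')) fun e' => h7 (e ▸ h6 e'))
  obtain ⟨x, hx, hx'⟩ := SetLike.not_le_iff_exists.1 (hM.not_le hH (Ne.symm e))
  rcases core H' M hH hM e x hx hx' b (fun y hy h7 h8 => h4 y hy (fun e' => h7 (h5 e')) fun e' => h8 (h6 e'))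
    with h7 | ⟨c, rfl, h7⟩
  · exact fin h7
  · refine (Nat.mul_le_mul_right p (h7.trans (Nat.mul_le_mul_left _ (h3 x (hM.le hx) fun e' => hx' (h5 e'))))).trans ?_
    rw [← pow_add, ← pow_succ]
    exact Nat.pow_le_pow_right hp.out.pos (by rw [tri, tri]; omega)

theorem vaughan_lee [hp : Fact p.Prime] (hX : IsPGroup p X) {b : ℕ} (h : ∀ y ∈ X, (C_[y]).relIndex X ≤ p ^ b) :
    Nat.card ↥⁅X, X⁆ ≤ p ^ (b * (b + 1) / 2) := by
  rw [← tri_eq]
  by_cases e : X = ⊥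
  · rw [e, Subgroup.commutator_bot_left, Subgroup.card_bot]
    exact pow_pos hp.out.pos _
  · exact (vab X hX).1 b ⊥ ⊥ (bot_lt_iff_ne_bot.2 e) (Or.inl le_rfl) fun y hy _ _ => h y hy

end H01
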