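import Mathlib
import Cfsg.Agent.BG.Api2
import Cfsg.Agent.H04.Extraspecial
import Cfsg.Agent.H05.CT1
import Cfsg.Agent.H03.PResidual

/-!
# Large extraspecial 2-subgroups in groups without subgroups of index 2 (namespace `H01.XS`)

`LX z E`: `E` is extraspecial with centre `⟨z⟩ = C(E)` and normal in `C(z)`. `tt` (extremal Thompson transfer),
`LX.le_of_index` (`E` lies in every subgroup of index 2 of `C(z)` if `|E| > 8`).
-/

set_option autoImplicit false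
set_option linter.unusedSectionVars false
open Cfsg BG Subgroup
open scoped commutatorElement

namespace H01.XS
universe u
variable {G : Type u} [Group G] [Finite G] {a b c e f g t u v w x y z : G} {A B E K M S : Subgroup G}

theorem tt (hG : ∀ M : Subgroup G, M.index ≠ 2) (hS : ¬ 2 ∣ S.index) (hK : K.relIndex S = 2) (hy : y ^ 2 = 1)
    (hA : IsPGroup 2 A) (hAy : A ≤ C_[y]) : ∃ g : G, (∀ q ∈ A, g⁻¹ * q * g ∈ S) ∧ g⁻¹ * y * g ∈ K := by
  have hN : (K.subgroupOf S).Normal := normal_of_index_eq_two hK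
  have hc : Nat.card (S ⧸ K.subgroupOf S) = 2 := hK
  have : IsCyclic (S ⧸ K.subgroupOf S) := isCyclic_of_prime_card hc
  let _ : CommGroup (S ⧸ K.subgroupOf S) := IsCyclic.commGroup
  obtain ⟨a, ha, hau⟩ := (Nat.card_eq_two_iff' (1 : S ⧸ K.subgroupOf S)).mp hc
  obtain ⟨g, h1, h2, h3⟩ := H05.thompson_transfer_ext hS (QuotientGroup.mk' (K.subgroupOf S)) ha (hc ▸ pow_card_eq_one')
    (fun b _ => (em (b = 1)).imp_right (hau b)) hy (fun ψ => by
      by_contra n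
      refine hG ψ.ker ?_
      rw [index_ker]
      refine ((Nat.dvd_prime Nat.prime_two).1 (hc ▸ card_subgroup_dvd_card _)).resolve_left fun e => n ?_
      exact (eq_bot_iff_forall _).1 (Subgroup.card_eq_one.1 e) _ ⟨y, rfl⟩) hA hAy
  exact ⟨g, h1, (QuotientGroup.eq_one_iff (⟨_, h2⟩ : S)).1 h3⟩

theorem no2 (h : pResidual 2 G = ⊤) (M : Subgroup G) : M.index ≠ 2 := fun e => by
  have := normal_of_index_eq_two e
  rw [top_le_iff.1 (h.ge.trans (H03.pResidual_le_of_index M (k := 1) e)), index_top] at e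
  omega

structure LX (z : G) (E : Subgroup G) : Prop where
  aes : H04.AES 2 E z
  cent : C_(E) ≤ zpowers z
  norm : C_[z] ≤ N_(E)

theorem of_ext (hz : orderOf z = 2) (hE : E = (pCore 2 C_[z]).map C_[z].subtype) (n : (pCore 2 C_[z]).Normal)
    (hx : IsExtraspecial 2 E) (hc : C_(E) ≤ E) : LX z E := by
  obtain ⟨y, h1, h2, -⟩ := H04.exists_aes_of_isExtraspecial' hx
  have l : E ≤ C_[z] := hE ▸ map_subtype_le _
  have : z = y := (h1.eq_or (h2.le ⟨hc (le_cent1_iff.1 l), le_cent1_iff.1 l⟩)).resolve_left fun e => by simp [e] at hz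
  subst this
  refine ⟨h1, fun c m => h2.le ⟨hc m, m⟩, le_norm_iff.2 fun a ha k hk => ?_⟩
  rw [hE] at hk ⊢
  obtain ⟨k, hk, rfl⟩ := hk
  exact ⟨_, n.conj_mem k hk ⟨a, ha⟩, rfl⟩

namespace LX
variable (h : LX z E)
include h

theorem cj (g : G) : LX (g * z * g⁻¹) (cj g E) :=
  ⟨h.aes.map (MulAut.conj g).toMonoidHom (MulAut.conj g).injective, by
    rw [← cj_cent, ← cj_zpowers]; exact cj_mono g h.cent, by rw [← cj_cent1, ← cj_norm]; exact cj_mono g h.norm⟩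

theorem zz : z * z = 1 := h.aes.mul_self
theorem z1 : z ≠ 1 := h.aes.ne_one
theorem le : E ≤ C_[z] := le_cent1_iff.2 h.aes.cent
theorem cz (k : ∀ e ∈ E, e * x = x * e) : x = 1 ∨ x = z := h.aes.eq_or (h.cent (mem_cent.2 k))
theorem sq (he : e ∈ E) : e ^ 2 = 1 ∨ e ^ 2 = z := h.aes.eq_or (h.aes.pow e he)
theorem cm (he : e ∈ E) (hf : f ∈ E) : e * f = f * e ∨ e * f = z * f * e :=
  (em (Commute e f)).imp_right fun n => by rw [← h.aes.comm_eq he hf n, commutatorElement_def]; group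

theorem odd : ¬ 2 ∣ C_[z].index := by
  obtain ⟨T, hT, l⟩ := sylow_superset Nat.prime_two h.aes.isPGroup (le_top (a := E))
  obtain ⟨y, hy, y1⟩ := exists_mem_ne_one (pg_center_ne_bot Nat.prime_two (hT.pg Nat.prime_two) (ne_bot_of_mem (l h.aes.mem) h.z1))
  obtain rfl := (h.cz fun e he => hy.2 e (l he)).resolve_left y1
  exact fun d => hT.not_dvd' Nat.prime_two (by rw [relIndex_top_right]; exact d.trans (index_dvd_of_le (le_cent1_iff.2 hy.2)))

theorem root2 (big : 8 < Nat.card E) (he : e ∈ E) (hf : f ∈ E) (n : ¬ Commute e f) :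
    ∃ r ∈ E, Commute r e ∧ Commute r f ∧ r ^ 2 = z := by
  have d := h.aes.spl he hf
  suffices ∃ r ∈ H04.spl E e f, r ^ 2 = z by
    obtain ⟨r, hr, k⟩ := this
    exact ⟨r, (H04.mem_spl.1 hr).1, (H04.mem_spl.1 hr).2.1, (H04.mem_spl.1 hr).2.2, k⟩
  by_contra! k
  have s : ∀ r ∈ H04.spl E e f, r ^ 2 = 1 := fun r hr => (h.sq (H04.spl_le _ _ _ hr)).resolve_right (k r hr)
  have : H04.spl E e f ≤ zpowers z := fun r hr => h.cent ((h.aes.center_spl he hf n).le ⟨hr, mem_cent.2 fun q hq => by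
    by_contra m
    exact k _ (mul_mem hq hr) (by rw [d.mul_sq hq hr m, s q hq, s r hr]; simp)⟩).2
  have := card_le this
  rw [BG.card_zpowers, h.aes.ord] at this
  have := h.aes.card_eq_spl he hf n
  omega

theorem root (big : 8 < Nat.card E) (he : e ∈ E) : ∃ r ∈ E, Commute r e ∧ r ^ 2 = z := by
  by_cases k : ∃ f ∈ E, ¬ Commute e f
  · obtain ⟨f, hf, n⟩ := k
    obtain ⟨r, h1, h2, -, h3⟩ := h.root2 big he hf n
    exact ⟨r, h1, h2, h3⟩
  obtain ⟨x, hx, n⟩ := h.aes.exists_notMem_cent (inf_le_right.trans h.cent) fun e => by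
    rw [e, BG.card_zpowers, h.aes.ord] at big; omega
  obtain ⟨y, hy, m⟩ := h.aes.exists_comm_eq hx n
  obtain ⟨r, h1, -, -, h3⟩ := h.root2 big hx hy (h.aes.not_commute m)
  push Not at k
  exact ⟨r, h1, (k r h1).symm, h3⟩

end LX

/-- `C(z)` centralizes `w` modulo `z`. -/
def Pz (z w : G) : Prop := ∀ g ∈ C_[z], g * w = w * g ∨ g * w = z * w * g

theorem Pz.cj (p : Pz z w) (g : G) : Pz (g * z * g⁻¹) (g * w * g⁻¹) := fun k hk => by
  rw [← cj_cent1] at hk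
  obtain ⟨k, hk', rfl⟩ := mem_cj'.1 hk
  have : g * k * g⁻¹ * (g * w * g⁻¹) = g * (k * w) * g⁻¹ := by group
  refine (p k hk').imp (fun e => ?_) fun e => ?_ <;> rw [this, e] <;> group

theorem Pz.sq (p : Pz z w) (zz : z * z = 1) (hg : g ∈ C_[z]) : g ^ 2 * w = w * g ^ 2 := by
  rcases p g hg with e | e
  · exact (Commute.pow_left e 2).eq
  · calc _ = g * (z * w * g) := by rw [← e, pow_two, mul_assoc]
      _ = z * (g * w) * g := by rw [← mul_assoc, ← mul_assoc, mem_cent1.1 hg, mul_assoc z]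
      _ = z * z * w * g ^ 2 := by rw [e, pow_two]; group
      _ = _ := by rw [zz, one_mul]

theorem Pz.mul (p : Pz z w) (zz : z * z = 1) (hg : g ∈ C_[z]) (hf : f ∈ C_[z]) (n : g * w ≠ w * g) (m : f * w ≠ w * f) :
    g * f * w = w * (g * f) := by
  calc _ = g * (z * w * f) := by rw [← (p f hf).resolve_left m, mul_assoc]
    _ = z * (g * w) * f := by rw [← mul_assoc, ← mul_assoc, mem_cent1.1 hg, mul_assoc z]
    _ = z * z * w * (g * f) := by rw [(p g hg).resolve_left n]; group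
    _ = _ := by rw [zz, one_mul]

theorem Pz.idx (p : Pz z w) (zz : z * z = 1) (he : e ∈ C_[z]) (n : e * w ≠ w * e) : C_[w].relIndex C_[z] = 2 := by
  refine index_eq_two_iff.2 ⟨⟨e, he⟩, fun b => ?_⟩
  by_cases k : (b : G) * w = w * b
  · exact Or.inr ⟨mem_cent1.2 k, fun m => n (mem_cent1.1 ((mul_mem_cancel_left (mem_cent1.2 k)).1 m))⟩
  · exact Or.inl ⟨mem_cent1.2 (p.mul zz b.2 he k n), fun m => k (mem_cent1.1 m)⟩

theorem LX.noPz (hG : ∀ M : Subgroup G, M.index ≠ 2) (h : LX z E) (big : 8 < Nat.card E) (hw : w ∈ E)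
    (n : w ∉ C_(E)) (p : Pz z w) : False := by
  obtain ⟨x, hx, x2, xw⟩ : ∃ x ∈ E, x ^ 2 = 1 ∧ x * w ≠ w * x := by
    obtain ⟨e, he, m⟩ : ∃ e ∈ E, e * w ≠ w * e := by by_contra! k; exact n (mem_cent.2 k)
    rcases h.sq he with s | s
    · exact ⟨e, he, s, m⟩
    obtain ⟨r, h1, h2, h3, h4⟩ := h.root2 big he hw m
    exact ⟨r * e, mul_mem h1 he, by rw [h2.mul_pow, h4, s, h.zz],
      fun k => m (mem_cent1.1 ((mul_mem_cancel_left (mem_cent1.2 h3.eq)).1 (mem_cent1.2 k)))⟩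
  obtain ⟨g, k1, k2⟩ := tt hG h.odd (p.idx h.zz (h.le hx) xw) x2 (pg_le h.aes.isPGroup (inf_le_left (b := C_[x]))) inf_le_right
  have h' := h.cj g
  have p' := p.cj g
  have n' : g * w * g⁻¹ ∉ C_(BG.cj g E) := by rwa [← cj_cent, conj_mem_cj_iff]
  have hw' := conj_mem_cj g hw
  have F : E ⊓ C_[x] ≤ C_[g * z * g⁻¹] := fun q hq => by rw [← cj_cent1]; exact mem_cj.2 (k1 q hq)
  have xw' : x ∈ C_[g * w * g⁻¹] := by rw [← cj_cent1]; exact mem_cj.2 k2
  have az : g * z * g⁻¹ ≠ z := fun e => by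
    have hg : g ∈ C_[z] := mem_cent1.2 (mul_inv_eq_iff_eq_mul.1 e)
    have := mem_cent1_comm.1 xw'
    rcases p g hg with k | k
    · rw [k, mul_inv_cancel_right] at this; exact xw (mem_cent1.1 this).symm
    · rw [k, mul_inv_cancel_right, mul_mem_cancel_left (mem_cent1_comm.1 (h.le hx))] at this
      exact xw (mem_cent1.1 this).symm
  have big' : 8 < Nat.card (BG.cj g E) := by rwa [card_cj]
  generalize g * z * g⁻¹ = a, g * w * g⁻¹ = v, BG.cj g E = D at *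
  have ce : ∀ y, y ∈ C_[x] → y ∈ C_[w] → y ∈ C_(H04.spl E x w) → y = 1 ∨ y = z := fun y y1 y2 y3 =>
    h.aes.eq_or (h.cent (by
      rw [← h.aes.spl_sup hx hw xw, cent_sup, cent_sup, cent_zpowers, cent_zpowers]; exact ⟨⟨y3, y1⟩, y2⟩))
  have sF : H04.spl E x w ≤ E ⊓ C_[x] := inf_le_left
  have ax : a ∈ C_[x] := mem_cent1_comm.1 (F ⟨hx, mem_cent1_self x⟩)
  have aD : a ∈ C_(H04.spl E x w) := le_cent1_iff.1 (sF.trans F)
  have aw : a ∉ C_[w] := fun k => (ce a ax k aD).elim h'.z1 az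
  have ha : a ∈ C_[z] := mem_cent1_comm.1 (F ⟨h.aes.mem, mem_cent1_comm.1 (h.le hx)⟩)
  obtain ⟨r, r1, r2, r3⟩ := h.root big hx
  have hv : v ∈ C_[z] := mem_cent1.2 (r3 ▸ (p'.sq h'.zz (F ⟨r1, mem_cent1.2 r2⟩)).symm)
  have vD : v ∈ C_(H04.spl E x w) := mem_cent.2 fun q hq => (p' q (F (sF hq))).resolve_right fun k => aw (by
    have : a = q * (v * q⁻¹ * v⁻¹) := by rw [← mul_assoc, ← mul_assoc, k]; group
    rw [this]
    refine mul_mem hq.2 ?_
    rcases p v⁻¹ (inv_mem hv) with m | m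
    · exact mul_mem (mul_mem (inv_mem_iff.1 (mem_cent1.2 m)) (inv_mem hq.2)) (mem_cent1.2 m)
    · have e1 : w ∈ C_[q] := mem_cent1_comm.1 hq.2
      have e2 : z ∈ C_[q] := mem_cent1_comm.1 (h.le hq.1.1)
      have := mem_cent1.1 (mul_mem e2 e1)
      rw [← inv_mem_iff, mem_cent1]
      calc _ = v * q * (v⁻¹ * w) := by group
        _ = v * (z * w * q) * v⁻¹ := by rw [m, this]; group
        _ = v * (z * w * v⁻¹) * (v * q * v⁻¹) := by group
        _ = _ := by rw [← m]; group)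
  have zD : z ∈ D := by
    by_cases k : v ∈ C_[w]
    · exact ((ce v (mem_cent1_comm.1 xw') k vD).resolve_left fun e => n' (e ▸ one_mem _)) ▸ hw'
    · refine ((ce (v * a) (mul_mem (mem_cent1_comm.1 xw') ax) (mem_cent1.2 (p.mul h.zz hv ha (mt mem_cent1.2 k)
        (mt mem_cent1.2 aw))) (mul_mem vD aD)).resolve_left fun e => n' ?_) ▸ mul_mem hw' h'.aes.mem
      rw [eq_inv_of_mul_eq_one_left e]
      exact inv_mem h'.aes.cent
  obtain ⟨s, -, s2, s3⟩ := h'.root big' zD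
  exact aw (mem_cent1.2 (s3 ▸ p.sq h.zz (mem_cent1.2 s2)))

theorem LX.le_of_index (hG : ∀ M : Subgroup G, M.index ≠ 2) (h : LX z E) {n : ℕ} (hn : 2 ≤ n)
    (hc : Nat.card E = 2 ^ (2 * n + 1)) (hK : K.relIndex C_[z] = 2) : E ≤ K := by
  by_contra k
  have big : 8 < Nat.card E := hc ▸ (Nat.pow_lt_pow_right (a := 2) (m := 3) (by omega) (by omega))
  have km : ∀ a ∈ C_[z], ∀ b ∈ C_[z], a * b ∈ K ↔ (a ∈ K ↔ b ∈ K) := fun a ha b hb =>
    mul_mem_iff_of_index_two (H := K.subgroupOf C_[z]) hK (a := ⟨a, ha⟩) (b := ⟨b, hb⟩)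
  obtain ⟨r, r1, -, r2⟩ := h.root big h.aes.mem
  have zK : z ∈ K := r2 ▸ pow_two r ▸ (km r (h.le r1) r (h.le r1)).2 Iff.rfl
  obtain ⟨e, he, eK⟩ := SetLike.not_le_iff_exists.1 k
  have i2 : K.relIndex E = 2 := index_eq_two_iff.2 ⟨⟨e, he⟩, fun b => by
    have := km b (h.le b.2) e (h.le he)
    simp only [mem_subgroupOf, coe_mul, Xor]; tauto⟩
  have cM := card_inf_mul_relIndex K E
  obtain ⟨m, hm⟩ := (h.aes.mono (inf_le_right (a := K)) ⟨zK, h.aes.mem⟩).card_eq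
  obtain ⟨w, hw, wz⟩ : ∃ w ∈ (K ⊓ E) ⊓ C_(K ⊓ E), w ∉ zpowers z := SetLike.not_le_iff_exists.1 fun l => by
    rw [le_antisymm l (h.aes.mono (inf_le_right (a := K)) ⟨zK, h.aes.mem⟩).zpowers_le, BG.card_zpowers, h.aes.ord] at hm
    rw [hm, i2, hc, ← pow_succ, ← pow_succ] at cM
    have := Nat.pow_right_injective (le_refl 2) cM
    omega
  have ce : ∀ y ∈ C_(K ⊓ E), e * y = y * e → y ∈ C_(E) := fun y y1 y2 => mem_cent.2 fun q hq => by
    by_cases m : q ∈ K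
    · exact y1 q ⟨m, hq⟩
    · have : q * e ∈ C_[y] := mem_cent1.2 (y1 _ ⟨(km q (h.le hq) e (h.le he)).2 (iff_of_false m eK), mul_mem hq he⟩)
      exact mem_cent1.1 ((mul_mem_cancel_right (mem_cent1.2 y2)).1 this)
  refine h.noPz hG big hw.1.2 (fun m => wz (h.cent m)) fun g hg => ?_
  have gn : g ∈ N_(K ⊓ E) := mem_norm_of_cj_le fun q hq' => by
    obtain ⟨q, hq, rfl⟩ := mem_cj'.1 hq'
    refine ⟨(?_ : g * q * g⁻¹ ∈ K), conj_mem_of_norm (h.norm hg) hq.2⟩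
    have q1 := h.le hq.2
    rw [km _ (mul_mem hg q1) _ (inv_mem hg), km _ hg _ q1, inv_mem_iff]
    have : q ∈ K := hq.1
    tauto
  have w' := conj_mem_of_norm (norm_inf (A := zpowers g) (zpowers_le.2 gn) (norm_cent (zpowers_le.2 gn)) (mem_zpowers g)) hw
  have wz' : g * w * g⁻¹ ∉ zpowers z := fun m => wz (by
    rwa [← conj_mem_cj_iff (g := g), cj_zpowers, mem_cent1.1 hg, mul_inv_cancel_right])
  have e1 := (h.cm he hw.1.2).resolve_left fun m => wz (h.cent (ce w hw.2 m))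
  have e2 := (h.cm he w'.1.2).resolve_left fun m => wz' (h.cent (ce _ w'.2 m))
  have := h.aes.eq_or (h.cent (ce (g * w * g⁻¹ * w⁻¹) (mul_mem w'.2 (inv_mem hw.2)) (by
    have e3 : e * w⁻¹ = w⁻¹ * z⁻¹ * e := by rw [mul_inv_eq_iff_eq_mul, mul_assoc, e1]; group
    have e4 := mem_cent1.1 (h.le (mul_mem w'.1.2 (inv_mem hw.1.2)))
    rw [← mul_assoc e, e2, mul_assoc _ e, e3]
    calc _ = z * (g * w * g⁻¹ * w⁻¹) * z⁻¹ * e := by group
      _ = _ := by rw [← e4]; group)))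
  refine this.imp (fun m => ?_) fun m => ?_
  · rw [mul_inv_eq_one, mul_inv_eq_iff_eq_mul] at m; exact m
  · rw [mul_inv_eq_iff_eq_mul, mul_inv_eq_iff_eq_mul] at m; exact m

end H01.XS
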