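import Mathlib
import Cfsg.Agent.H01.XS1
import Cfsg.Agent.H03.LX1
import Cfsg.Agent.H03.Alperin
import Cfsg.Agent.H03.Focal
import Cfsg.Agent.BG.Api3

/-!
# Large extraspecial 2-subgroups, part 2 (namespace `H01.XS`)

`Hf`, `cfg`: the local configuration (Alperin's theorem) forced by a subgroup `K` of index 2 in `C(z)` when `O²(G) = G`.
-/

set_option autoImplicit false
set_option linter.unusedSectionVars false
open Cfsg BG Subgroup
open scoped commutatorElement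

namespace H01.XS
universe u
variable {G : Type u} [Group G] [Finite G] {a b c e f g t u v w x y z : G} {A B D E F K L M S : Subgroup G}

theorem even_of_inv {α : Type*} [Finite α] (s : Set α) (τ : α → α) (h1 : ∀ x ∈ s, τ x ∈ s) (h2 : ∀ x ∈ s, τ (τ x) = x)
    (h3 : ∀ x ∈ s, τ x ≠ x) : Even s.ncard := by
  have := Finset.sum_involution (s := s.toFinite.toFinset) (f := fun _ => (1 : ZMod 2)) (fun x _ => τ x) (fun _ _ => rfl)
    (fun x hx _ => h3 x (by simpa using hx)) (fun x hx => by simpa using h1 x (by simpa using hx))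
    fun x hx => h2 x (by simpa using hx)
  rw [Finset.sum_const, nsmul_one, ZMod.natCast_eq_zero_iff_even] at this
  rwa [Set.ncard_eq_toFinset_card]

theorem km (hK : K.relIndex S = 2) (ha : a ∈ S) (hb : b ∈ S) : a * b ∈ K ↔ (a ∈ K ↔ b ∈ K) :=
  mul_mem_iff_of_index_two (H := K.subgroupOf S) hK (a := ⟨a, ha⟩) (b := ⟨b, hb⟩)

theorem kc (hK : K.relIndex S = 2) (ha : a ∈ S) (hb : b ∈ S) : a * b * a⁻¹ ∈ K ↔ b ∈ K := by
  rw [km hK (mul_mem ha hb) (inv_mem ha), km hK ha hb, inv_mem_iff]; tauto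

theorem grow (hA : IsPGroup 2 A) (hD : IsPGroup 2 D) (n : D ≤ N_(A)) (k : ∀ x ∈ A, x ∈ N_(D) → x ∈ D) : A ≤ D := by
  refine le_sup_left.trans (nil_eq_of_norm_le (pg_nil Nat.prime_two (pg_sup hA hD n)) le_sup_right fun y hy => ?_).ge
  obtain ⟨x, hx, d, hd, rfl⟩ := (mem_sup_norm n).1 hy.1
  exact mul_mem (k x hx ((mul_mem_cancel_right (le_norm D hd)).1 hy.2)) hd

theorem LX.cj2 (h : LX z E) (hx : x ∈ E) (hy : y ∈ E) : x * y * x⁻¹ = y ∨ x * y * x⁻¹ = z * y :=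
  (h.cm hx hy).imp (fun e => by rw [e]; group) fun e => by rw [e]; group

structure Hf (z a e : G) (E L D : Subgroup G) : Prop where
  lx : LX z E
  dz : D ≤ C_[z]
  zD : z ∈ D
  bD : E ⊓ C_[a] ≤ D
  pg : IsPGroup 2 D
  eE : e ∈ E
  eN : e ∈ N_(D)
  two : ∀ x ∈ E, x ∈ N_(D) → x ∈ D ∨ x * e ∈ D
  ex : ∃ d ∈ D, e * d * e⁻¹ * d⁻¹ ∉ L

theorem Hf.cj (h : Hf z a e E L D) (g : G) : Hf (g * z * g⁻¹) (g * a * g⁻¹) (g * e * g⁻¹) (cj g E) (cj g L) (cj g D) := by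
  refine ⟨h.lx.cj g, by rw [← cj_cent1]; exact cj_mono g h.dz, conj_mem_cj g h.zD, by
    rw [← cj_cent1, ← cj_inf]; exact cj_mono g h.bD, isPGroup_cj.2 h.pg, conj_mem_cj g h.eE, by
    rw [← cj_norm]; exact conj_mem_cj g h.eN, fun x hx n => ?_, ?_⟩
  · rw [← cj_norm] at n
    simpa [mem_cj, mul_assoc] using h.two _ (mem_cj.1 hx) (mem_cj.1 n)
  · obtain ⟨d, hd, n⟩ := h.ex
    exact ⟨_, conj_mem_cj g hd, by simpa [mem_cj, mul_assoc] using n⟩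

def Pr (K A : Subgroup G) (g : G) : Prop := ∀ x ∈ A, g * x * g⁻¹ ∈ K ↔ x ∈ K

def PM (K D : Subgroup G) : Subgroup G where
  carrier := {g | g ∈ N_(D) ∧ Pr K D g}
  one_mem' := ⟨one_mem _, fun x _ => by simp⟩
  mul_mem' := fun {g k} h1 h2 => ⟨mul_mem h1.1 h2.1, fun x hx => by
    rw [← h2.2 x hx, ← h1.2 _ (conj_mem_of_norm h2.1 hx)]; simp [mul_assoc]⟩
  inv_mem' := fun {g} h1 => ⟨inv_mem h1.1, fun x hx => by
    rw [← h1.2 _ (conj_mem_of_norm (inv_mem h1.1) hx)]; simp [mul_assoc]⟩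

theorem sig (h : LX z E) (hK : K.relIndex C_[z] = 2) (hΩ : ∀ g, g * z * g⁻¹ ∈ C_[z] → g * z * g⁻¹ ∈ K) (dz : D ≤ C_[z])
    (zD : z ∈ D) (SE : ∀ g ∈ N_(D), ∀ e ∈ E, e ∈ N_(D) → e ∉ D → g⁻¹ * e * g ∈ PM K D → g ∈ PM K D)
    (hx : x ∈ E) (hy : y ∈ E) (xN : x ∈ N_(D)) (yN : y ∈ N_(D)) (xD : x ∉ D) (yD : y ∉ D) (xy : x * y ∉ D)
    (hg : g ∈ N_(D)) : g ∈ PM K D := by
  classical
  set Λ : Set (Subgroup G) := {Y | ∃ g ∈ N_(D), Y = D ⊓ cj g K}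
  have lc : ∀ g ∈ N_(D), ∀ Y ∈ Λ, cj g Y ∈ Λ := by
    rintro g hg _ ⟨k, hk, rfl⟩
    exact ⟨_, mul_mem hg hk, by rw [cj_inf, cj_of_mem_norm hg, cj_cj]⟩
  have lz : ∀ Y ∈ Λ, z ∈ Y := by
    rintro _ ⟨k, hk, rfl⟩
    exact ⟨zD, mem_cj.2 (by simpa using hΩ k⁻¹ (by simpa using dz (conj_mem_of_norm' hk zD)))⟩
  have lm : ∀ Y ∈ Λ, ∀ a ∈ D, ∀ b ∈ D, a * b ∈ Y ↔ (a ∈ Y ↔ b ∈ Y) := by
    rintro _ ⟨k, hk, rfl⟩ a ha b hb
    simp only [mem_inf, mul_mem ha hb, ha, hb, true_and, mem_cj]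
    rw [← km hK (dz (conj_mem_of_norm' hk ha)) (dz (conj_mem_of_norm' hk hb))]
    simp [mul_assoc]
  have pm : ∀ g ∈ N_(D), ∀ k ∈ N_(D), D ⊓ cj g K = D ⊓ cj k K ↔ g⁻¹ * k ∈ PM K D := fun g hg k hk => by
    refine ⟨fun e => ⟨mul_mem (inv_mem hg) hk, fun q hq => ?_⟩, fun e => ?_⟩
    · have := SetLike.ext_iff.1 e (k * q * k⁻¹)
      simp only [mem_inf, conj_mem_of_norm hk hq, true_and, mem_cj] at this
      simpa [mul_assoc] using this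
    · ext q
      refine and_congr_right fun hq => ?_
      simpa [mem_cj, mul_assoc] using e.2 _ (conj_mem_of_norm' hk hq)
  have hH : ∀ e ∈ E, e ∈ N_(D) → e ∈ PM K D := fun e he n => ⟨n, fun q hq => kc hK (h.le he) (dz hq)⟩
  have par : ∀ d ∈ D, Even {Y | Y ∈ Λ ∧ Y ≠ D ⊓ K ∧ d ∉ Y}.ncard := fun d hd => by
    have cE : ∀ e ∈ E, e⁻¹ * d * e * d⁻¹ ∈ E := fun e he => by
      simpa [mul_assoc] using mul_mem (inv_mem he) (conj_mem_of_norm (h.norm (dz hd)) he)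
    have cD : ∀ e ∈ N_(D), e⁻¹ * d * e * d⁻¹ ∈ D := fun e he => mul_mem (conj_mem_of_norm' he hd) (inv_mem hd)
    have inv : ∀ Y ∈ Λ, ∀ e ∈ E, ∀ c ∈ E, e⁻¹ * c * e ∈ Y ↔ c ∈ Y := fun Y hY e he c hc => by
      rcases h.cj2 (inv_mem he) hc with k | k <;> rw [inv_inv] at k <;> rw [k]
      exact mul_mem_cancel_left (lz Y hY)
    let ε : Subgroup G → G := fun Y => if x⁻¹ * d * x * d⁻¹ ∈ Y then x else if y⁻¹ * d * y * d⁻¹ ∈ Y then y else x * y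
    have e1 : ∀ Y, ε Y ∈ E ∧ ε Y ∈ N_(D) ∧ ε Y ∉ D := fun Y => by
      simp only [ε]; split_ifs
      exacts [⟨hx, xN, xD⟩, ⟨hy, yN, yD⟩, ⟨mul_mem hx hy, mul_mem xN yN, xy⟩]
    have e2 : ∀ Y ∈ Λ, (ε Y)⁻¹ * d * ε Y * d⁻¹ ∈ Y := fun Y hY => by
      simp only [ε]; split_ifs with k1 k2
      exacts [k1, k2, by
        rw [show (x * y)⁻¹ * d * (x * y) * d⁻¹ = y⁻¹ * (x⁻¹ * d * x * d⁻¹) * y * (y⁻¹ * d * y * d⁻¹) by group,
          lm Y hY _ (conj_mem_of_norm' yN (cD x xN)) _ (cD y yN), inv Y hY y hy _ (cE x hx)]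
        tauto]
    have e3 : ∀ Y ∈ Λ, ε (cj (ε Y) Y) = ε Y := fun Y hY => by
      have k : ∀ c ∈ E, c ∈ cj (ε Y) Y ↔ c ∈ Y := fun c hc => mem_cj.trans (inv Y hY _ (e1 Y).1 c hc)
      conv_lhs => simp only [ε, k _ (cE x hx), k _ (cE y hy)]
    have e4 : ∀ Y ∈ Λ, cj (ε Y) (cj (ε Y) Y) = Y := fun Y hY => by
      rw [cj_cj, ← pow_two]
      rcases h.sq (e1 Y).1 with k | k <;> rw [k]
      exacts [cj_one Y, cj_of_mem (lz Y hY)]
    have e5 : ∀ Y, cj (ε Y) (D ⊓ K) = D ⊓ K := fun Y => by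
      rw [cj_inf, cj_of_mem_norm (e1 Y).2.1]
      simpa using (pm _ (e1 Y).2.1 1 (one_mem _)).2 (by simpa using hH _ (e1 Y).1 (e1 Y).2.1)
    refine even_of_inv _ (fun Y => cj (ε Y) Y) (fun Y ⟨h1, h2, h3⟩ => ⟨lc _ (e1 Y).2.1 Y h1, fun k => h2 ?_, fun k => h3 ?_⟩)
      (fun Y hY => by simp only [e3 Y hY.1, e4 Y hY.1]) fun Y ⟨⟨k, hk, h1⟩, h2, _⟩ m => h2 ?_
    · rw [← e4 Y h1, k, e5]
    · have := mul_mem (inv_mem (mem_cj.1 k)) (e2 Y h1)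
      rwa [inv_mul_cancel_left, inv_mem_iff] at this
    · obtain ⟨p1, p2, p3⟩ := e1 Y
      generalize ε Y = e at *
      rw [h1, cj_inf, cj_of_mem_norm p2, cj_cj, eq_comm, pm _ hk _ (mul_mem p2 hk), ← mul_assoc] at m
      simpa [h1] using (pm _ hk 1 (one_mem _)).2 (by simpa using SE k hk e p1 p2 p3 m)
  have cnt : ∀ d ∈ D, Even {Y | Y ∈ Λ ∧ d ∉ Y}.ncard ↔ d ∈ K := fun d hd => by
    by_cases k : d ∈ K
    · refine iff_of_true ?_ k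
      convert par d hd using 3
      exact funext fun Y => propext ⟨fun m => ⟨m.1, fun e => m.2 (e ▸ ⟨hd, k⟩), m.2⟩, fun m => ⟨m.1, m.2.2⟩⟩
    · have : {Y | Y ∈ Λ ∧ d ∉ Y} = insert (D ⊓ K) {Y | Y ∈ Λ ∧ Y ≠ D ⊓ K ∧ d ∉ Y} := by
        ext Y
        by_cases m : Y = D ⊓ K
        · exact iff_of_true ⟨⟨1, one_mem _, by simpa using m⟩, fun q => k (m ▸ q).2⟩ (Or.inl m)
        · simp [m]
      rw [this, Set.ncard_insert_of_notMem (fun m => m.2.1 rfl), Nat.even_add_one]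
      exact iff_of_false (not_not.2 (par d hd)) k
  refine ⟨hg, fun d hd => ?_⟩
  rw [← cnt d hd, ← cnt _ (conj_mem_of_norm hg hd), ← Set.ncard_image_of_injective {Y | Y ∈ Λ ∧ d ∉ Y}
    (fun _ _ e => cj_inj.1 e : Function.Injective (cj g))]
  refine iff_of_eq (congrArg _ (congrArg _ ?_))
  ext Y
  exact ⟨fun m => ⟨cj g⁻¹ Y, ⟨lc _ (inv_mem hg) Y m.1, fun q => m.2 (mem_cj_inv.1 q)⟩, cj_cj_inv g Y⟩,
    fun ⟨W, m, e⟩ => e ▸ ⟨lc g hg W m.1, fun q => m.2 (conj_mem_cj_iff.1 q)⟩⟩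

theorem cfg (hG : pResidual 2 G = ⊤) (h : LX z E) (l : K ≤ C_[z]) (hK : K.relIndex C_[z] = 2)
    (hΩ : ∀ g, g * z * g⁻¹ ∈ C_[z] → g * z * g⁻¹ ∈ K) :
    ∃ g e f D, Hf z (g * z * g⁻¹) e E (cj g K) D ∧ Hf (g * z * g⁻¹) z f (cj g E) K D := by
  by_contra nc
  have p2 := Nat.prime_two
  obtain ⟨P, lP, pz⟩ : ∃ P : Sylow 2 G, E ≤ P ∧ (P : Subgroup G) ≤ C_[z] := by
    obtain ⟨P, l'⟩ := h.aes.isPGroup.exists_le_sylow
    obtain ⟨y, hy, y1⟩ := exists_mem_ne_one (pg_center_ne_bot p2 P.2 (ne_bot_of_mem (l' h.aes.mem) h.z1))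
    obtain rfl := (h.cz fun e he => hy.2 e (l' he)).resolve_left y1
    exact ⟨P, l', le_cent1_iff.2 hy.2⟩
  have al := H03.alperin_centric P (Pr K) (fun A B g l m x hx => m x (l hx)) (fun A g k m1 m2 x hx => by
    rw [← m1 x hx, ← m2 _ (conj_mem_cj g hx)]; simp [mul_assoc]) (fun A _ c hc x hx => by
    rw [← hc x hx, mul_inv_cancel_right]) fun D hD hc hN _ ih x hx => ?_
  · have : (P : Subgroup G) ≤ K := (le_inf ((le_inf le_rfl (hG ▸ le_top)).trans (H03.inf_pResidual_le_commutator P.2)) le_rfl).trans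
      (H03.commutator_inf_sylow_le P fun x hx g hg => by
        rw [km hK (inv_mem (pz hx)) (pz hg), inv_mem_iff]
        exact (al (zpowers x) g (zpowers_le.2 hx) (fun a ha => by
          rw [← conj_mem_cj_iff (g := g), cj_zpowers] at ha; exact zpowers_le.2 hg ha) x (mem_zpowers x)).symm)
    refine P.not_dvd_index (Dvd.dvd.trans ?_ (index_dvd_of_le this))
    rw [← relIndex_mul_index l, hK]
    exact dvd_mul_right _ _
  by_contra np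
  have dz := hD.trans pz
  have zD : z ∈ D := hc ⟨lP h.aes.mem, le_cent1_iff.1 dz⟩
  have pD := pg_le P.2 hD
  have hH : ∀ e ∈ C_[z], e ∈ N_(D) → e ∈ PM K D := fun e he n => ⟨n, fun q hq => kc hK he (dz hq)⟩
  have SE : ∀ g ∈ N_(D), ∀ e ∈ E, e ∈ N_(D) → e ∉ D → g⁻¹ * e * g ∈ PM K D → g ∈ PM K D := fun g hg e he n eD m => by
    have lT : D ⊔ zpowers e ≤ P := sup_le hD (zpowers_le.2 (lP he))
    have s : IsSylowIn 2 (P ⊓ N_(D)) (PM K D) := (isSylowIn_mk p2 inf_le_right P.2.to_inf_left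
      (by rwa [inf_relIndex_right])).sub (fun q hq => hH q (pz hq.1) hq.2) fun _ q => q.1
    obtain ⟨k, hk, lk⟩ := sylow_Jsub p2 s (X := cj g⁻¹ (D ⊔ zpowers e)) (isPGroup_cj.2 (pg_le P.2 lT)) (by
      rw [cj_sup, cj_of_mem_norm (inv_mem hg), cj_zpowers, inv_inv]
      exact sup_le (fun q hq => hH q (dz hq) (le_norm D hq)) (zpowers_le.2 m))
    rw [cj_cj] at lk
    have := ih _ (k * g⁻¹) lT (card_lt (lt_of_le_of_ne le_sup_left fun q => eD (q ▸ mem_sup_right (mem_zpowers e))))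
      fun b hb => (lk (conj_mem_cj _ hb)).1
    exact inv_mem_iff.1 ((mul_mem_cancel_left hk).1 ⟨mul_mem hk.1 (inv_mem hg), fun q hq => this q (mem_sup_left hq)⟩)
  have xM : x ∉ PM K D := fun m => np m.2
  obtain ⟨e, he, eN, eD⟩ : ∃ e ∈ E, e ∈ N_(D) ∧ e ∉ D := by
    by_contra! k
    have := grow h.aes.isPGroup pD (dz.trans h.norm) k
    rcases h.cz (x := x * z * x⁻¹) fun q hq => mem_cent1.1 (by
      rw [← cj_cent1]; exact mem_cj.2 (dz (conj_mem_of_norm' hx (this hq)))) with m | m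
    · exact h.z1 (conj_eq_one_iff.1 m)
    · exact xM (hH x (mem_cent1.2 (mul_inv_eq_iff_eq_mul.1 m)) hx)
  have hf : ∀ g ∈ N_(D), g ∉ PM K D → Hf z (g * z * g⁻¹) e E (cj g K) D := fun g hg gM => by
    have da : D ≤ C_[g * z * g⁻¹] := by rw [← cj_cent1, ← cj_of_mem_norm hg]; exact cj_mono g dz
    refine ⟨h, dz, zD, grow h.aes.isPGroup.to_inf_left pD (norm_inf (dz.trans h.norm) (norm_cent1 da)) fun q hq n => ?_, pD, he, eN,
      fun q hq n => ?_, ?_⟩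
    · by_contra m
      refine gM (SE g hg q hq.1 n m (hH _ ?_ (mul_mem (mul_mem (inv_mem hg) n) hg)))
      rw [← mem_cj, cj_cent1]; exact hq.2
    · by_contra! m
      exact gM (sig h hK hΩ dz zD SE hq he n eN m.1 eD m.2 hg)
    · by_contra! m
      refine gM (SE g hg e he eN eD ⟨mul_mem (mul_mem (inv_mem hg) eN) hg, fun q hq => ?_⟩)
      have := mem_cj.1 (m _ (conj_mem_of_norm hg hq))
      conv_rhs => rw [← mul_mem_cancel_left this]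
      simp [mul_assoc]
  have := (hf _ (inv_mem hx) (mt inv_mem_iff.1 xM)).cj x
  rw [cj_of_mem_norm hx, cj_cj_inv, show x * (x⁻¹ * z * x⁻¹⁻¹) * x⁻¹ = z by group] at this
  exact nc ⟨x, e, _, D, hf x hx xM, this⟩

end H01.XS
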