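import Mathlib
import Cfsg.Agent.H01.XS2

/-!
# Large extraspecial 2-subgroups, part 3 (namespace `H01.XS`)

`LX.W` (the centralizer of `C_E(a mod z)` consists of commutators), `LX.sc`, `LX.fin`, `no4` (`C(z)` has no quotient `Z₄`).
-/

set_option autoImplicit false
set_option linter.unusedSectionVars false
open Cfsg BG Subgroup
open scoped commutatorElement

namespace H01.XS
universe u
variable {G : Type u} [Group G] [Finite G] {a b c d e f g t u v w x y z : G} {A B D E F K L K₀ L₀ M S : Subgroup G}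

theorem adj (g x y : G) : Commute (g * x * g⁻¹) y ↔ Commute x (g⁻¹ * y * g) := by
  rw [← Commute.conj_iff g⁻¹]; simp [mul_assoc]

theorem cl (k : Commute x w) : Commute (x * y) w ↔ Commute y w :=
  ⟨fun m => by simpa using k.inv_left.mul_left m, k.mul_left⟩

theorem cr (k : Commute y w) : Commute (x * y) w ↔ Commute x w :=
  ⟨fun m => by simpa using m.mul_left k.inv_left, fun m => m.mul_left k⟩

theorem cs : Commute x y ↔ Commute y x := ⟨Commute.symm, Commute.symm⟩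

theorem cc : x ∈ C_[y] ↔ Commute x y := mem_cent1

theorem inv_of (aa : a * a = 1) (zz : z * z = 1) (ha : a ∈ C_[z]) (ht : t ∈ C_[z])
    (k : v * a * v⁻¹ = a * t ∨ v * a * v⁻¹ = z * (a * t)) : a * t * (a * t) = 1 := by
  have : v * a * v⁻¹ * (v * a * v⁻¹) = 1 := (by group : _ = v * (a * a) * v⁻¹).trans (by rw [aa]; group)
  rcases k with k | k <;> rw [k] at this
  · exact this
  · rwa [mul_assoc, ← mul_assoc _ z, mem_cent1.1 (mul_mem ha ht), mul_assoc, ← mul_assoc, zz, one_mul] at this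

namespace LX
variable (h : LX z E)
include h

theorem cmul (hx : x ∈ E) (hy : y ∈ E) (hw : w ∈ E) : Commute (x * y) w ↔ (Commute x w ↔ Commute y w) := by
  by_cases k : Commute x w
  · simp [cl k, k]
  by_cases m : Commute y w
  · simp [cr m, m]
  refine iff_of_true ?_ (iff_of_false k m)
  calc _ = x * (z * w * y) := by rw [mul_assoc, (h.cm hy hw).resolve_left m]
    _ = z * (x * w) * y := by rw [← mul_assoc, ← mul_assoc, mem_cent1.1 (h.le hx), mul_assoc z]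
    _ = z * z * w * (x * y) := by rw [(h.cm hx hw).resolve_left k]; group
    _ = _ := by rw [h.zz, one_mul]

theorem cdiv (hx : x ∈ E) (hy : y ∈ E) (hw : w ∈ E) (k : Commute x w ↔ Commute y w) : Commute (x * y⁻¹) w := by
  rwa [h.cmul hx (inv_mem hy) hw, Commute.inv_left_iff]

theorem cE (hg : g ∈ C_[z]) (he : e ∈ E) : g * e * g⁻¹ ∈ E := conj_mem_of_norm (h.norm hg) he
theorem cE' (hg : g ∈ C_[z]) (he : e ∈ E) : g⁻¹ * e * g ∈ E := conj_mem_of_norm' (h.norm hg) he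
theorem cF (hg : g ∈ C_[z]) (he : e ∈ E) : e * g * e⁻¹ * g⁻¹ ∈ E := by
  simpa [mul_assoc] using mul_mem he (h.cE hg (inv_mem he))
theorem cF' (hg : g ∈ C_[z]) (he : e ∈ E) : e⁻¹ * g * e * g⁻¹ ∈ E := by simpa using h.cF hg (inv_mem he)

theorem W (ha : a ∈ C_[z]) (ht : t ∈ E) (hc : ∀ v ∈ E, (v * a * v⁻¹ = a ∨ v * a * v⁻¹ = z * a) → Commute v t) :
    ∃ v ∈ E, v * a * v⁻¹ = a * t ∨ v * a * v⁻¹ = z * (a * t) := by
  have zc : ∀ y ∈ zpowers z, ∀ g ∈ C_[z], g * y = y * g := fun y hy g hg => mem_cent1.1 (cent1_le_of_mem_zpowers hy hg)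
  let X : Subgroup G :=
    { carrier := {t | t ∈ E ∧ ∃ v ∈ E, ∃ y ∈ zpowers z, v * a * v⁻¹ = y * (a * t)}
      one_mem' := ⟨one_mem _, 1, one_mem _, 1, one_mem _, by simp⟩
      mul_mem' := fun {t s} ⟨h1, v, h2, y, h3, h4⟩ ⟨k1, w, k2, x, k3, k4⟩ =>
        ⟨mul_mem h1 k1, v * w, mul_mem h2 k2, _, mul_mem (mul_mem k3 h3) (h.aes.comm v h2 s k1), by
          calc _ = v * (w * a * w⁻¹) * v⁻¹ := by group
            _ = v * x * (a * s) * v⁻¹ := by rw [k4]; group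
            _ = x * (v * a * v⁻¹) * ⁅v, s⁆ * s := by rw [zc x k3 v (h.le h2), commutatorElement_def]; group
            _ = x * y * (a * t * ⁅v, s⁆) * s := by rw [h4]; group
            _ = _ := by rw [zc _ (h.aes.comm v h2 s k1) _ (mul_mem ha (h.le h1))]; group⟩
      inv_mem' := fun {t} ⟨h1, v, h2, y, h3, h4⟩ => ⟨inv_mem h1, v, h2, _, mul_mem h3 (h.aes.pow t h1), by
        rw [h4, mul_assoc, ← zc _ (h.aes.pow t h1) _ (mul_mem ha (h.le (inv_mem h1))), pow_two]; group⟩ }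
  have : t ∈ X := by
    refine (H03.aes_dc h.aes (A := X) fun _ q => q.1).trans (sup_le le_rfl fun y hy => ⟨hy.1, 1, one_mem _, y⁻¹,
      inv_mem (h.cent hy.2), by rw [zc y (h.cent hy.2) a ha]; group⟩) ⟨ht, mem_cent.2 fun v hv => hc v hv.1 ?_⟩
    have := h.cz (x := a * v * a⁻¹ * v⁻¹) fun q hq => (h.cdiv (h.cE ha hv.1) hv.1 hq (by
      have : Commute (a⁻¹ * q * a * q⁻¹) v := hv.2 _ ⟨mul_mem (h.cE' ha hq) (inv_mem hq), q, hq, 1, one_mem _, by group⟩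
      rw [adj, cs, cs (x := v), ← cl (y := q) this, inv_mul_cancel_right])).symm
    refine this.imp (fun m => ?_) fun m => ?_
    · rw [show v * a * v⁻¹ = (a * v * a⁻¹ * v⁻¹)⁻¹ * a by group, m]; group
    · rw [show v * a * v⁻¹ = (a * v * a⁻¹ * v⁻¹)⁻¹ * a by group, m, inv_eq_of_mul_eq_one_left h.zz]
  obtain ⟨-, v, hv, y, hy, k⟩ := this
  exact ⟨v, hv, (h.aes.eq_or hy).imp (fun m => by rw [k, m, one_mul]) fun m => by rw [k, m]⟩

theorem ei (he : e ∈ E) (ea : e * a * e⁻¹ = z * a) : e⁻¹ * a * e = z * a := by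
  calc _ = e⁻¹ * z * (e * a * e⁻¹) * e := by rw [ea, mul_assoc _ z, ← mul_assoc z, h.zz, one_mul]
    _ = _ := by rw [mem_cent1.1 (h.le (inv_mem he))]; group

theorem ct (he : e ∈ E) (ea : e * a * e⁻¹ = z * a) (hv : v ∈ E) (va : v * a * v⁻¹ = z * a) : e⁻¹ * v ∈ E ⊓ C_[a] :=
  mem_inf.2 ⟨mul_mem (inv_mem he) hv, mem_cent1.2 (by
    calc _ = e⁻¹ * (v * a * v⁻¹) * v := by group
      _ = _ := by rw [va, ← ea]; group)⟩

theorem psi (he : e ∈ E) (ea : e * a * e⁻¹ = z * a) (hd : d ∈ C_[z]) (da : d ∈ C_[a]) : d⁻¹ * e * d * e⁻¹ ∈ E ⊓ C_[a] :=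
  mem_inf.2 ⟨mul_mem (h.cE' hd he) (inv_mem he), by
    have := h.ct (inv_mem (h.cE' hd he)) (v := e⁻¹) (a := a) (by
      have k := mem_cent1.1 (mul_mem (mem_cent1_comm.1 hd) (mem_cent1_comm.1 da))
      calc _ = d⁻¹ * (e⁻¹ * (d * a) * d⁻¹ * e) * d := by group
        _ = d⁻¹ * (z * a * d) := by rw [mem_cent1.1 da, ← h.ei he ea]; group
        _ = _ := by rw [k]; group) (inv_mem he) (by simpa using h.ei he ea)
    simpa using this.2⟩

variable (ha : a ∈ C_[z]) (aa : a * a = 1) (ab : ∀ x ∈ E ⊓ C_[a], ∀ y ∈ E ⊓ C_[a], Commute x y) (hb : b ∈ E ⊓ C_[a])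
  (bb : b ^ 2 = z) (he : e ∈ E) (ea : e * a * e⁻¹ = z * a)
include ha aa ab hb bb he ea

theorem sc : (∀ t ∈ E, (∀ x ∈ E ⊓ C_[a], Commute x t) → t ∈ C_[a]) ∧ (∀ t ∈ E ⊓ C_[a], t ^ 2 = 1 → Commute e t) ∧
    ¬ Commute e b := by
  have wc : ∀ t ∈ E, (∀ x ∈ E ⊓ C_[a], Commute x t) → Commute e t → a * t * (a * t) = 1 := fun t ht k m => by
    obtain ⟨v, -, q⟩ := h.W ha ht fun v hv q => q.elim (fun q => k v ⟨hv, mem_cent1.2 (mul_inv_eq_iff_eq_mul.1 q)⟩)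
      fun q => (cl m.inv_left).1 (k _ (h.ct he ea hv q))
    exact inv_of aa h.zz ha (h.le ht) q
  have eb : ¬ Commute e b := fun m => h.z1 (by
    have := wc b hb.1 (fun x hx => ab x hx b hb) m
    rwa [← pow_two, (cc.1 hb.2).symm.mul_pow, pow_two a, aa, one_mul, bb] at this)
  have w2 : ∀ t ∈ E, (∀ x ∈ E ⊓ C_[a], Commute x t) → Commute e t → t ^ 2 = 1 ∧ t ∈ C_[a] := fun t ht k m => by
    have q := wc t ht k m
    have q' : t * a * t⁻¹ = (t ^ 2)⁻¹ * a := by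
      have c2 : a * t ^ 2 = t ^ 2 * a := by
        rcases h.sq ht with s | s <;> rw [s]
        exacts [by simp, mem_cent1.1 ha]
      have : t * a * t = a := by rw [← mul_right_inj a, aa, ← q]; group
      rw [eq_inv_mul_iff_mul_eq]
      calc _ = t * (t ^ 2 * a) * t⁻¹ := by group
        _ = t * a * t := by rw [← c2, pow_two]; group
        _ = _ := this
    rcases h.sq ht with s | s <;> rw [s] at q'
    · exact ⟨s, mem_cent1.2 (mul_inv_eq_iff_eq_mul.1 (by simpa using q'))⟩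
    · rw [inv_eq_of_mul_eq_one_left h.zz] at q'
      exact absurd (Commute.inv_left_iff.1 ((cr (k b hb).symm).1 (ab _ (h.ct he ea ht q') b hb))) eb
  have tb : ∀ t ∈ E, (∀ x ∈ E ⊓ C_[a], Commute x t) → ¬ Commute e t → (t * b) ^ 2 = 1 ∧ t * b ∈ C_[a] := fun t ht k m =>
    w2 _ (mul_mem ht hb.1) (fun x hx => (k x hx).mul_right (ab x hx b hb))
      ((h.cmul ht hb.1 he).2 (iff_of_false (mt cs.1 m) (mt cs.1 eb))).symm
  refine ⟨fun t ht k => ?_, fun t ht s => by_contra fun m => h.z1 ?_, eb⟩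
  · by_cases m : Commute e t
    exacts [(w2 t ht k m).2, (mul_mem_cancel_right (mem_inf.1 hb).2).1 (tb t ht k m).2]
  · rw [← (tb t ht.1 (fun x hx => ab x hx t ht) m).1, (ab t ht b hb).mul_pow, s, one_mul, bb]

theorem fin (hu : u ∈ C_[z]) (uu : u ^ 2 = a) (uB : ∀ x ∈ E ⊓ C_[a], Commute u x) : False := by
  obtain ⟨s1, -, eb⟩ := h.sc ha aa ab hb bb he ea
  have ba := cc.1 hb.2
  have := h.cz (x := a * b) fun v hv => by
    have sE := mul_mem (h.cE hu hv) (inv_mem hv)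
    have s := uB _ ⟨sE, s1 _ sE fun x hx => (h.cdiv (h.cE hu hv) hv hx.1 (by
      rw [adj, mul_assoc, ← (uB x hx).eq, inv_mul_cancel_left])).symm⟩
    have q : v * a * v⁻¹ = ((u * v * u⁻¹ * v⁻¹) ^ 2)⁻¹ * a := by
      rw [eq_inv_mul_iff_mul_eq, pow_two, ← uu, pow_two]
      calc _ = u * v * u⁻¹ * v⁻¹ * u * (v * u * v⁻¹) := by group
        _ = _ := by rw [← s.eq]; group
    have vB : ∀ v ∈ E ⊓ C_[a], Commute v (a * b) := fun v hv => (cc.1 hv.2).mul_right (ab v hv b hb)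
    rcases h.sq sE with m | m <;> rw [m] at q
    · exact vB v ⟨hv, mem_cent1.2 (mul_inv_eq_iff_eq_mul.1 (by simpa using q))⟩
    · rw [inv_eq_of_mul_eq_one_left h.zz] at q
      refine (cl (Commute.inv_left ?_)).1 (vB _ (h.ct he ea hv q))
      have := (h.cj2 he hb.1).resolve_left fun m => eb (mul_inv_eq_iff_eq_mul.1 m)
      rw [commute_iff_eq, ← mul_inv_eq_iff_eq_mul]
      calc _ = e * a * e⁻¹ * (e * b * e⁻¹) := by group
        _ = z * (a * z) * b := by rw [ea, this]; group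
        _ = _ := by rw [mem_cent1.1 ha, ← mul_assoc, h.zz, one_mul]
  have q : (a * b) ^ 2 = z := by rw [ba.symm.mul_pow, pow_two a, aa, one_mul, bb]
  rcases this with m | m <;> rw [m] at q
  · exact h.z1 (by simpa using q.symm)
  · exact h.z1 (by rw [← q, pow_two, h.zz])

end LX

theorem LX.cj_eq (h : C_[z] ≤ N_(K)) (k : x * z * x⁻¹ = y * z * y⁻¹) : BG.cj x K = BG.cj y K :=
  cj_eq_cj_iff.2 (h (mem_cent1.2 (by
    rw [← mul_inv_eq_iff_eq_mul]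
    calc y⁻¹ * x * z * (y⁻¹ * x)⁻¹ = y⁻¹ * (x * z * x⁻¹) * y := by group
      _ = z := by rw [k]; group)))

theorem h2 (h : LX z E) (h' : LX a F) (zF : z ∉ F)
    (s1 : ∀ t ∈ E, (∀ x ∈ E ⊓ C_[a], Commute x t) → t ∈ C_[a]) (s2 : ∀ t ∈ E ⊓ C_[a], t ^ 2 = 1 → Commute e t) (he : e ∈ E)
    (ea : e * a * e⁻¹ = z * a) (hf : f ∈ F) (s3 : ∀ t ∈ F ⊓ C_[z], t ^ 2 = 1 → Commute f t) (un : cj e⁻¹ F = cj f E)
    (hc : c ∈ F ⊓ C_[z]) (c2 : c ^ 2 = 1) : c ∈ E ∨ c * a ∈ E := by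
  obtain ⟨cF, cz⟩ := mem_inf.1 hc
  have i2 : ∀ i ∈ E, i ^ 2 ∈ F → i ^ 2 = 1 := fun i hi k => (h.sq hi).resolve_right fun m => zF (m ▸ k)
  have hp := h.psi he ea cz (h'.le cF)
  have ci : c⁻¹ = c := inv_eq_of_mul_eq_one_left (pow_two c ▸ c2)
  obtain ⟨i, hi, y, hy, k⟩ := (mem_sup_norm (le_norm_of_cent (inf_le_right.trans (cent_anti inf_le_left)))).1
    (H03.aes_dc h.aes (A := E ⊓ F) inf_le_left ⟨hp.1, mem_cent.2 fun x hx' => by
      have hx := mem_inf.1 hx'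
      have sE := mul_mem (h.cE cz hx.1) (inv_mem hx.1)
      have sB := s1 _ sE fun y hy' => (h.cdiv (h.cE cz hx.1) hx.1 hy'.1 (by
        have hy := mem_inf.1 hy'
        have : Commute (c⁻¹ * y * c * y⁻¹) x := hx.2 _ (mem_inf.2 ⟨mul_mem (h.cE' cz hy.1) (inv_mem hy.1), by
          simpa [mul_assoc] using mul_mem (inv_mem cF) (h'.cE hy.2 cF)⟩)
        rw [adj, cs, cs (x := x), ← cl (y := y) this, inv_mul_cancel_right])).symm
      have := s2 _ ⟨sE, sB⟩ (i2 _ sE (by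
        convert mul_mem (h'.cE sB cF) (inv_mem cF) using 1
        calc _ = c * x * c⁻¹ * x⁻¹ * (c * x * c * x⁻¹ * (c ^ 2)⁻¹) := by rw [c2, inv_one, mul_one, pow_two, ci]
          _ = _ := by rw [pow_two]; group))
      have k := (h.cmul (h.cE cz hx.1) (inv_mem hx.1) he).1 this.symm
      rw [adj, Commute.inv_left_iff, cs, cs (x := x)] at k
      exact (h.cdiv (h.cE' cz he) he hx.1 k).symm⟩)
  have fin : ∀ c ∈ F, e * c * e⁻¹ ∈ F → c ∈ E := fun c hc m => by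
    have m1 := mem_cj.1 (un ▸ mem_cj_inv.2 m)
    have m2 := mul_mem (mul_mem (inv_mem hf) hc) hf
    have := (s3 _ ⟨m2, h.le m1⟩ (i2 _ m1 (pow_mem m2 2))).eq
    rwa [← mul_inv_cancel_right (f⁻¹ * c * f) f, ← this, mul_assoc f⁻¹, mul_inv_cancel_left, mul_inv_cancel_right] at m1
  have k' : e * c * e⁻¹ = c * i * y := by rw [mul_assoc c, k]; group
  refine (h.aes.eq_or (h.cent hy.2)).imp (fun m => fin c cF ?_) fun m => fin _ (mul_mem cF h'.aes.mem) ?_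
  · rw [k', m, mul_one]; exact mul_mem cF hi.2
  · rw [show e * (c * a) * e⁻¹ = e * c * e⁻¹ * (e * a * e⁻¹) by group, k', m, ea, mul_assoc, ← mul_assoc z, h.zz, one_mul]
    exact mul_mem (mul_mem cF hi.2) h'.aes.mem

structure Q4 (z : G) (E K K₀ : Subgroup G) : Prop where
  lx : LX z E
  k1 : ∀ x ∈ C_[z], ∀ y ∈ C_[z], x * y * x⁻¹ * y⁻¹ ∈ K₀
  k2 : ∀ x ∈ C_[z], x ∉ K → x ^ 2 ∉ K₀
  k3 : E ≤ K₀

theorem Q4.cj (q : Q4 z E K K₀) (g : G) : Q4 (g * z * g⁻¹) (cj g E) (cj g K) (cj g K₀) := by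
  refine ⟨q.lx.cj g, fun x hx y hy => ?_, fun x hx n => ?_, cj_mono g q.k3⟩ <;> rw [← cj_cent1, mem_cj] at *
  · simpa [mul_assoc] using q.k1 _ hx _ hy
  · simpa [mul_assoc, pow_two] using q.k2 _ hx n

theorem Q4.h1 (q : Q4 z E K K₀) (h : LX a F) (za : z ∈ C_[a]) (hu : u ∈ F ⊓ C_[z]) (uK : u ∉ K) :
    u ^ 2 = a ∧ a ∉ E ∧ (∀ x ∈ F ⊓ C_[z], ∀ y ∈ F ⊓ C_[z], Commute x y) ∧ ∃ f ∈ F, f * z * f⁻¹ = a * z := by
  have k := q.k2 u hu.2 uK
  have u2 := (h.sq hu.1).resolve_left fun m => k (m ▸ one_mem _)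
  have ab : ∀ x ∈ F ⊓ C_[z], ∀ y ∈ F ⊓ C_[z], Commute x y := fun x hx y hy => (h.cm hx.1 hy.1).resolve_right fun m => k (by
    have := q.k1 x hx.2 y hy.2
    rwa [m, mul_inv_cancel_right, mul_inv_cancel_right, ← u2] at this)
  refine ⟨u2, fun m => k (u2 ▸ q.k3 m), ab, by_contra fun n => ?_⟩
  obtain ⟨v, -, m⟩ := h.W za hu.1 fun v hv m => ab v ⟨hv, mem_cent1.2 (mul_inv_eq_iff_eq_mul.1
    (m.resolve_right fun m => n ⟨v, hv, m⟩))⟩ u hu
  have := inv_of q.lx.zz h.zz za (h.le hu.1) m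
  rw [← pow_two, (cc.1 hu.2).symm.mul_pow, pow_two z, q.lx.zz, one_mul, u2] at this
  exact h.z1 this

theorem Q4.no (hG : pResidual 2 G = ⊤) (q : Q4 z E K K₀) (l : K ≤ C_[z]) (hK : K.relIndex C_[z] = 2) : False := by
  obtain ⟨g, e₀, f₀, D, c1, c2⟩ := cfg hG q.lx l hK fun g hg => by_contra fun n => q.k2 _ hg n (by
    rw [conj_pow, pow_two, q.lx.zz, mul_one, mul_inv_cancel]; exact one_mem _)
  have q' := q.cj g
  have un : ∀ x y : G, x * (g * z * g⁻¹) * x⁻¹ = y * z * y⁻¹ → BG.cj x (BG.cj g E) = BG.cj y E := fun x y k => by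
    rw [cj_cj]; exact LX.cj_eq q.lx.norm (by rw [← k]; group)
  generalize g * z * g⁻¹ = a, BG.cj g E = F, BG.cj g K = L, BG.cj g K₀ = L₀ at *
  have h := q.lx
  have h' := q'.lx
  have za := c2.dz c1.zD
  have ha := c1.dz c2.zD
  obtain ⟨d, hd, uK⟩ := c2.ex
  obtain ⟨d', hd', bL⟩ := c1.ex
  have hu := mem_inf.2 ⟨h'.cF (c2.dz hd) c2.eE, c1.dz (mul_mem (conj_mem_of_norm c2.eN hd) (inv_mem hd))⟩
  have hb := mem_inf.2 ⟨h.cF (c1.dz hd') c1.eE, c2.dz (mul_mem (conj_mem_of_norm c1.eN hd') (inv_mem hd'))⟩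
  generalize f₀ * d * f₀⁻¹ * d⁻¹ = u, e₀ * d' * e₀⁻¹ * d'⁻¹ = b at *
  obtain ⟨u2, aE, aA, f, hf, fz⟩ := q.h1 h' za hu uK
  obtain ⟨b2, zF, aB, e, he, ea⟩ := q'.h1 h ha hb bL
  obtain ⟨-, s2, -⟩ := h.sc ha h'.zz aB hb b2 he ea
  obtain ⟨s3, s4, -⟩ := h'.sc za h.zz aA hu u2 hf fz
  have uI : ∀ y ∈ E ⊓ C_[a], y ^ 2 = 1 → Commute u y := fun y hy y2 =>
    (h2 h' h aE s3 s4 hf fz he s2 (un e f⁻¹ (by rw [ea, inv_inv, h'.ei hf fz, mem_cent1.1 ha])).symm hy y2).elim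
      (fun m => aA u hu y ⟨m, h.le hy.1⟩) fun m => (cr (cc.1 hu.2).symm).1
        (aA _ ⟨m, h.le (mul_mem hy.1 h.aes.mem)⟩ u hu) |>.symm
  have hp := h.psi he ea hu.2 (h'.le hu.1)
  have p2 : (u * (u⁻¹ * e * u * e⁻¹)) ^ 2 = z * a := by
    rw [show u * (u⁻¹ * e * u * e⁻¹) = e * u * e⁻¹ by group, conj_pow, u2, ea]
  generalize u⁻¹ * e * u * e⁻¹ = p at *
  have iF : u⁻¹ * p * u * p⁻¹ ∈ F := by simpa [mul_assoc] using mul_mem (inv_mem (mem_inf.1 hu).1) (h'.cE (mem_inf.1 hp).2 hu.1)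
  have p3 : u⁻¹ * p * u * p⁻¹ * p ^ 2 = z := by
    rw [← mul_right_inj a, mem_cent1.1 ha, ← p2, ← u2, pow_two, pow_two, pow_two]; group
  have p4 := (h.sq hp.1).resolve_left fun m => zF (by rwa [← p3, m, mul_one])
  have p5 : Commute u p := by
    rw [p4, mul_eq_right, mul_inv_eq_one, mul_assoc, inv_mul_eq_iff_eq_mul] at p3
    exact p3.symm
  refine h.fin ha h'.zz aB hb b2 he ea hu.2 u2 fun y hy => (h.sq hy.1).elim (uI y hy) fun m => ?_
  exact ((cr p5.symm).1 (uI _ (mul_mem hy hp) (by rw [(aB y hy p hp).mul_pow, m, p4, h.zz])).symm).symm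

theorem two_idx (ha : a ∈ S) (n : a ∉ K) (k : ∀ x ∈ S, ∀ y ∈ S, x ∉ K → y ∉ K → x * y ∈ K) : K.relIndex S = 2 := by
  refine index_eq_two_iff.2 ⟨⟨a, ha⟩, fun b => ?_⟩
  by_cases m : (b : G) ∈ K
  · exact Or.inr ⟨m, fun q => n ((mul_mem_cancel_left m).1 q)⟩
  · exact Or.inl ⟨k b b.2 a ha m n, m⟩

theorem LX.zc (h : LX z E) : E ⊓ C_(E) = zpowers z := le_antisymm (inf_le_right.trans h.cent) h.aes.zpowers_le

theorem LX.perp (h : LX z E) (l : M ≤ E) (zM : z ∈ M) : Nat.card M * Nat.card ↥(E ⊓ C_(M)) = Nat.card E * 2 := by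
  have := H03.aes_card h.aes l (h.zc.trans_le (zpowers_le.2 zM))
  rwa [h.zc, BG.card_zpowers, h.aes.ord] at this

theorem LX.exPz (h : LX z E) (l : M ≤ E) (zM : z ∈ M) (i : M.relIndex E = 2) (n : C_[z] ≤ N_(M)) :
    ∃ w ∈ E, w ∉ C_(E) ∧ Pz z w := by
  have c1 := h.perp l zM
  have zl : zpowers z ≤ E ⊓ C_(M) := h.zc.ge.trans (inf_le_inf_left _ (cent_anti l))
  have c2 := card_mul_relIndex zl
  rw [← card_mul_relIndex l, i, mul_assoc, ← c2, BG.card_zpowers, h.aes.ord] at c1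
  have c3 : (zpowers z).relIndex (E ⊓ C_(M)) = 2 := by
    have := Nat.eq_of_mul_eq_mul_left (card_pos M) c1; omega
  obtain ⟨w, hw, wz⟩ := SetLike.not_le_iff_exists.1 fun m => by rw [relIndex_eq_one.2 m] at c3; omega
  refine ⟨w, hw.1, fun m => wz (h.cent m), fun g hg => ?_⟩
  have w' := conj_mem_of_norm (norm_inf h.norm (norm_cent n) hg) hw
  have := (km c3 w' (inv_mem hw)).2 (iff_of_false (fun m => wz (by
    rwa [← conj_mem_cj_iff (g := g), cj_zpowers, mem_cent1.1 hg, mul_inv_cancel_right])) (mt inv_mem_iff.1 wz))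
  refine (h.aes.eq_or this).imp (fun m => ?_) fun m => ?_
  · rw [mul_inv_eq_one, mul_inv_eq_iff_eq_mul] at m; exact m
  · rw [mul_inv_eq_iff_eq_mul, mul_inv_eq_iff_eq_mul] at m; exact m

theorem LX.small (h : LX z E) (s : Nat.card E ≤ 8) (hw : w ∈ E) (n : w ∉ C_(E)) (p : Pz z w) : IsPGroup 2 C_[z] := by
  obtain ⟨e, he, m⟩ : ∃ e ∈ E, e * w ≠ w * e := by by_contra! k; exact n (mem_cent.2 k)
  have i1 : C_[w].relIndex E = 2 := two_idx he (mt mem_cent1.1 m) fun x hx y hy k1 k2 =>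
    cc.2 ((h.cmul hx hy hw).2 (iff_of_false (mt cc.2 k1) (mt cc.2 k2)))
  have c1 := card_inf_mul_relIndex C_[w] E
  have zl : zpowers z ≤ C_[w] ⊓ E := zpowers_le.2 ⟨mem_cent1_comm.1 (h.le hw), h.aes.mem⟩
  have c2 := card_mul_relIndex zl
  have wz : w ∉ zpowers z := fun k => n (h.zc.ge k).2
  have c3 : (zpowers z).relIndex (C_[w] ⊓ E) = 2 := by
    have := mt relIndex_eq_one.1 fun k : C_[w] ⊓ E ≤ zpowers z => wz (k ⟨mem_cent1_self w, hw⟩)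
    have := relIndex_ne_zero (zpowers z) (C_[w] ⊓ E)
    rw [BG.card_zpowers, h.aes.ord] at c2
    rw [i1] at c1
    omega
  refine fun g => ⟨4, Subtype.ext ?_⟩
  have g1 : Commute (g.1 ^ 2) w := p.sq h.zz g.2
  have g2 : g.1 ^ 2 ∈ C_[z] := pow_mem g.2 2
  rw [SubgroupClass.coe_pow, OneMemClass.coe_one, show 2 ^ 4 = 2 * 2 * 2 * 2 by norm_num, pow_mul, pow_mul, pow_mul]
  generalize g.1 ^ 2 = g at *
  have gX : ∀ x ∈ C_[w] ⊓ E, Commute g x := fun x hx => by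
    have gz : ∀ y ∈ zpowers z, Commute g y := fun y hy => cc.1 (cent1_le_of_mem_zpowers hy g2)
    by_cases k : x ∈ zpowers z
    exacts [gz x k, ((cr g1.symm).1 (gz _ ((km c3 hx ⟨mem_cent1_self w, hw⟩).2 (iff_of_false k wz))).symm).symm]
  have sX : g * e * g⁻¹ * e⁻¹ ∈ C_[w] ⊓ E := mem_inf.2 ⟨cc.2 (h.cdiv (h.cE g2 he) he hw (by
    rw [adj, mul_assoc, ← g1.eq, inv_mul_cancel_left])), mul_mem (h.cE g2 he) (inv_mem he)⟩
  have q1 : g ^ 2 * e * (g ^ 2)⁻¹ = (g * e * g⁻¹ * e⁻¹) ^ 2 * e := by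
    calc _ = g * (g * e * g⁻¹ * e⁻¹) * (e * g⁻¹) := by rw [pow_two]; group
      _ = _ := by rw [(gX _ sX).eq, pow_two]; group
  have q2 : Commute ((g ^ 2) ^ 2) e := by
    rcases h.sq sX.2 with k | k <;> rw [k, mul_inv_eq_iff_eq_mul] at q1
    · exact Commute.pow_left (by rwa [one_mul] at q1) 2
    · calc _ = g ^ 2 * (z * e * g ^ 2) := by rw [← q1, pow_two (g ^ 2), mul_assoc]
        _ = z * (g ^ 2 * e) * g ^ 2 := by rw [← mul_assoc, ← mul_assoc, mem_cent1.1 (pow_mem g2 2), mul_assoc z]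
        _ = z * z * e * (g ^ 2) ^ 2 := by rw [q1, pow_two (g ^ 2)]; group
        _ = _ := by rw [h.zz, one_mul]
  rcases h.cz (x := (g ^ 2) ^ 2) fun v hv => by
    by_cases k : v ∈ C_[w]
    · exact (((gX v ⟨k, hv⟩).pow_left 2).pow_left 2).symm
    · exact (cr q2.symm).1 (((gX _ ⟨(km i1 hv he).2 (iff_of_false k (mt mem_cent1.1 m)), mul_mem hv he⟩).pow_left 2).pow_left
        2).symm with k | k <;> rw [k]
  exacts [one_pow 2, (pow_two z).trans h.zz]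

theorem LX.ab2 (hG : pResidual 2 G = ⊤) (h : LX z E) {n : ℕ} (hc : Nat.card E = 2 ^ (2 * n + 1)) (n1 : 1 ≤ n)
    (mx : IsPGroup 2 C_[z] → C_[z] ≤ E) (q : Abelianization C_[z]) {k : ℕ} (hq : orderOf q = 2 ^ k) : q ^ 2 = 1 := by
  classical
  by_contra nq
  obtain ⟨χ, hχ⟩ := CommGroup.exists_apply_ne_one_of_hasEnoughRootsOfUnity _ ℂ nq
  obtain ⟨r, m, om, hm⟩ := Nat.exists_eq_two_pow_mul_odd (Nat.card_pos (α := Abelianization C_[z])).ne'
  have ex : ∃ s, ∀ x, (χ x ^ m) ^ 2 ^ s = 1 := ⟨r, fun x => by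
    rw [← pow_mul, mul_comm, ← hm, ← map_pow, pow_card_eq_one', map_one]⟩
  have q2 : (χ q ^ m) ^ 2 ≠ 1 := fun e => hχ (by
    rw [← pow_mul, mul_comm, pow_mul, ← map_pow] at e
    have : χ (q ^ 2) ^ 2 ^ k = 1 := by rw [← map_pow, ← pow_mul, mul_comm, pow_mul, ← hq, pow_orderOf_eq_one, one_pow, map_one]
    rw [← pow_one (χ _), ← (Nat.Coprime.pow_right k (Nat.coprime_two_right.2 om)).gcd_eq_one]
    exact pow_gcd_eq_one.2 ⟨e, this⟩)
  obtain ⟨t, ht⟩ : ∃ t, Nat.find ex = t + 2 := ⟨Nat.find ex - 2, by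
    by_contra e
    have := Nat.find_spec ex q
    obtain e | e : Nat.find ex = 0 ∨ Nat.find ex = 1 := by omega
    all_goals rw [e] at this
    exacts [q2 (by rw [pow_zero, pow_one] at this; rw [this, one_pow]), q2 this]⟩
  obtain ⟨ψ, hψ⟩ : ∃ ψ : C_[z] →* ℂˣ, ∀ x, ψ x = χ (Abelianization.of x) ^ (m * 2 ^ t) :=
    ⟨(powMonoidHom (m * 2 ^ t)).comp (χ.comp Abelianization.of), fun _ => rfl⟩
  have p4 : ∀ x, (ψ x ^ 2) ^ 2 = 1 := fun x => by
    have := Nat.find_spec ex (Abelianization.of x)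
    rw [ht] at this
    rw [← this]; simp only [hψ, ← pow_mul]; ring_nf
  obtain ⟨x₀, hx⟩ : ∃ x, ψ x ^ 2 ≠ 1 := by
    obtain ⟨x, hx⟩ := not_forall.1 (Nat.find_min ex (m := t + 1) (by omega))
    obtain ⟨x, rfl⟩ := QuotientGroup.mk_surjective x
    exact ⟨x, fun e => hx (by rw [← e]; simp only [hψ, ← pow_mul]; ring_nf; rfl)⟩
  have pm : ∀ u v : ℂˣ, u ^ 2 = 1 → v ^ 2 = 1 → u ≠ 1 → v ≠ 1 → u * v = 1 := fun u v a b c d => by
    rw [Units.ext_iff, Units.val_pow_eq_pow_val, Units.val_one, sq_eq_one_iff] at a b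
    rw [Ne, Units.ext_iff, Units.val_one] at c d
    rw [Units.ext_iff, Units.val_mul, a.resolve_left c, b.resolve_left d]; simp
  have mk : ∀ (θ : C_[z] →* ℂˣ) x (hx : x ∈ C_[z]), x ∈ θ.ker.map C_[z].subtype ↔ θ ⟨x, hx⟩ = 1 := fun θ x hx =>
    ⟨fun ⟨_, a, b⟩ => b ▸ a, fun a => ⟨_, a, rfl⟩⟩
  have k1 : ∀ x ∈ C_[z], ∀ y ∈ C_[z], x * y * x⁻¹ * y⁻¹ ∈ ψ.ker.map C_[z].subtype := fun x hx y hy =>
    ⟨⟨x, hx⟩ * ⟨y, hy⟩ * ⟨x, hx⟩⁻¹ * ⟨y, hy⟩⁻¹, by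
      rw [SetLike.mem_coe, MonoidHom.mem_ker, map_mul, map_mul, map_mul, map_inv, map_inv, mul_comm (ψ ⟨x, hx⟩)]; group, rfl⟩
  have zK : z ∈ ψ.ker.map C_[z].subtype := by
    obtain ⟨x, hx, n⟩ := h.aes.exists_notMem_cent h.zc.le fun e => by
      rw [e, BG.card_zpowers, h.aes.ord] at hc
      have := Nat.pow_right_injective (le_refl 2) ((pow_one 2).trans hc)
      omega
    obtain ⟨y, hy, m⟩ := h.aes.exists_comm_eq hx n
    exact m ▸ k1 x (h.le hx) y (h.le hy)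
  have e2 : ∀ e (he : e ∈ E), ψ ⟨e, h.le he⟩ ^ 2 = 1 := fun e he => by
    rw [← map_pow]
    refine (mk ψ _ (pow_mem (h.le he) 2)).1 ?_
    rcases h.sq he with s | s <;> rw [s]
    exacts [one_mem _, zK]
  refine Q4.no (K := ((powMonoidHom 2).comp ψ).ker.map C_[z].subtype) hG ⟨h, k1, fun x hx a b => a ((mk _ x hx).2 ?_), ?_⟩
    (map_subtype_le _) (two_idx x₀.2 (mt (mk _ _ x₀.2).1 hx) fun x hx y hy a b => (mk _ _ (mul_mem hx hy)).2 ?_)
  · exact (map_pow ψ ⟨x, hx⟩ 2).symm.trans ((mk ψ _ (pow_mem hx 2)).1 b)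
  · by_contra nl
    obtain ⟨e, he, eK⟩ := SetLike.not_le_iff_exists.1 nl
    obtain ⟨w, hw, nw, p⟩ := h.exPz (M := ψ.ker.map C_[z].subtype ⊓ E) inf_le_right ⟨zK, h.aes.mem⟩ (by
      rw [inf_relIndex_right]
      exact two_idx he eK fun x hx y hy a b => (mk _ _ (h.le (mul_mem hx hy))).2 ((map_mul ψ ⟨x, h.le hx⟩ ⟨y, h.le hy⟩).trans
        (pm _ _ (e2 x hx) (e2 y hy) (mt (mk _ _ _).2 a) (mt (mk _ _ _).2 b)))) (norm_inf (le_norm_iff.2 fun a ha b hb => by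
          simpa using mul_mem (k1 a ha b (map_subtype_le _ hb)) hb) h.norm)
    by_cases big : 8 < Nat.card E
    exacts [h.noPz (no2 hG) big hw nw p, hx (e2 _ (mx (h.small (not_lt.1 big) hw nw p) x₀.2))]
  · exact (map_mul _ (⟨x, hx⟩ : C_[z]) ⟨y, hy⟩).trans (pm _ _ (p4 _) (p4 _) (mt (mk _ _ _).2 a) (mt (mk _ _ _).2 b))

end H01.XS
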