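import Mathlib
import Cfsg.Agent.H01.XS3

/-!
# Large extraspecial 2-subgroups, part 4 (namespace `H01.XS`)

`Fam`: a class of involutions `x` weakly closed in the large extraspecial groups `E x`, with subgroups `K x` of index 2 in
`C(x)`. `Fam.mem_K` (commuting members lie in `K x`).
-/

set_option autoImplicit false
set_option linter.unusedSectionVars false
open Cfsg BG Subgroup
open scoped commutatorElement

namespace H01.XS
universe u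
variable {G : Type u} [Group G] [Finite G] {a b c d e f g i t u v w x y z : G} {A B D S : Subgroup G}

theorem idx2 (k : ∀ x ∈ S, ∀ y ∈ S, x ∉ A → y ∉ A → x * y ∈ A) : Nat.card S ≤ Nat.card ↥(A ⊓ S) * 2 := by
  rw [← card_inf_mul_relIndex A S]
  refine Nat.mul_le_mul_left _ ?_
  by_cases l : S ≤ A
  · rw [relIndex_eq_one.2 l]; omega
  · obtain ⟨a, ha, n⟩ := SetLike.not_le_iff_exists.1 l
    exact (two_idx ha n k).le

theorem cm_mul (aa : a * a = 1) (f e : G) :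
    a * (f * e * a * (f * e)⁻¹) = a * (f * a * f⁻¹) * (f * (a * (e * a * e⁻¹)) * f⁻¹) := by
  calc _ = a * f * (a * a) * e * a * e⁻¹ * f⁻¹ := by rw [aa]; group
    _ = _ := by group

theorem LX.cmE {E : Subgroup G} (h : LX z E) (ha : a ∈ C_[z]) (aa : a * a = 1) (he : e ∈ E) : a * (e * a * e⁻¹) ∈ E := by
  have := mul_mem (h.cE ha he) (inv_mem he)
  rwa [inv_eq_of_mul_eq_one_left aa, mul_assoc a, mul_assoc a] at this

theorem LX.inv2 {E : Subgroup G} (h : LX z E) (ha : a ∈ C_[z]) (aa : a * a = 1) (ht : t ∈ E) (q : a * t * (a * t) = 1) :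
    t ∈ C_[a] ∨ t * a * t⁻¹ = z * a := by
  have : t * a * t = a := by rw [← mul_right_inj a, aa, ← q]; group
  have q' : t * a * t⁻¹ = a * (t ^ 2)⁻¹ := by rw [eq_mul_inv_iff_mul_eq, pow_two]; exact (by group : _ = t * a * t).trans this
  refine (h.sq ht).imp (fun s => mem_cent1.2 (mul_inv_eq_iff_eq_mul.1 ?_)) fun s => ?_ <;> rw [q', s]
  exacts [by simp, by rw [inv_eq_of_mul_eq_one_left h.zz, mem_cent1.1 ha]]

theorem LX.cm2 {E : Subgroup G} (h : LX z E) (ha : a ∈ C_[z]) (aa : a * a = 1) (he : e ∈ E) :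
    a * (e * a * e⁻¹) ∈ C_[a] ∨ a * (e * a * e⁻¹) * a * (a * (e * a * e⁻¹))⁻¹ = z * a :=
  h.inv2 ha aa (h.cmE ha aa he) (inv_of (v := e) aa h.zz ha (h.le (h.cmE ha aa he)) (Or.inl (by rw [← mul_assoc a a, aa, one_mul])))

theorem LX.sqc {E : Subgroup G} (h : LX z E) (he : e ∈ E) (hu : u ∈ C_[z]) : Commute (e ^ 2) u := by
  rcases h.sq he with s | s <;> rw [s]
  exacts [Commute.one_left u, (cc.1 hu).symm]

theorem psinv (k : Commute (e ^ 2) u) : e * (u⁻¹ * e * u * e⁻¹) * e⁻¹ = (u⁻¹ * e * u * e⁻¹)⁻¹ := by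
  calc _ = e * u⁻¹ * e⁻¹ * (e ^ 2 * u) * (e ^ 2)⁻¹ := by rw [pow_two]; group
    _ = _ := by rw [k.eq]; group

structure Fam (Ω : Set G) (E K : G → Subgroup G) : Prop where
  cj : ∀ x ∈ Ω, ∀ g, g * x * g⁻¹ ∈ Ω
  lx : ∀ x ∈ Ω, LX x (E x)
  ce : ∀ x ∈ Ω, ∀ g, E (g * x * g⁻¹) = BG.cj g (E x)
  ck : ∀ x ∈ Ω, ∀ g, K (g * x * g⁻¹) = BG.cj g (K x)
  idx : ∀ x ∈ Ω, (K x).relIndex C_[x] = 2
  ek : ∀ x ∈ Ω, E x ≤ K x
  wc : ∀ x ∈ Ω, ∀ y ∈ Ω, y ∈ E x → y = x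
  big : ∀ x ∈ Ω, 32 < Nat.card (E x)
  eqc : ∀ x ∈ Ω, ∀ y ∈ Ω, Nat.card (E x) = Nat.card (E y)

def Good (Ω : Set G) (K : G → Subgroup G) (x y : G) : Prop := x ∈ Ω ∧ y ∈ Ω ∧ y ∈ C_[x] ∧ y ∉ K x ∧ x ∉ K y ∧ x * y ∉ Ω

theorem Good.symm {Ω : Set G} {K : G → Subgroup G} (h : Good Ω K x y) : Good Ω K y x :=
  ⟨h.2.1, h.1, mem_cent1_comm.1 h.2.2.1, h.2.2.2.2.1, h.2.2.2.1, mem_cent1.1 h.2.2.1 ▸ h.2.2.2.2.2⟩

namespace Fam
variable {Ω : Set G} {E K : G → Subgroup G} (F : Fam Ω E K)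
include F

theorem zK (hz : z ∈ Ω) : z ∈ K z := F.ek z hz (F.lx z hz).aes.mem

theorem good (hz : z ∈ Ω) (ha : a ∈ Ω) (az : a ∈ C_[z]) (hf : f ∈ E a) (c1 : z * (f * z * f⁻¹) ∈ C_[z])
    (c2 : z * (f * z * f⁻¹) ∉ K z) (c3 : z * (f * z * f⁻¹) ≠ a) : Good Ω K z (f * z * f⁻¹) := by
  have za := mem_cent1_comm.1 az
  have n := fun m => c2 (mul_mem (F.zK hz) m)
  refine ⟨hz, F.cj z hz f, (mul_mem_cancel_left (mem_cent1_self z)).1 c1, n, fun m => n ?_, fun m =>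
    c3 (F.wc a ha _ m ((F.lx a ha).cmE za (F.lx z hz).zz hf))⟩
  rw [F.ck z hz, mem_cj] at m
  rwa [show f * z * f⁻¹ = f⁻¹ * (f ^ 2 * z) * f⁻¹ by rw [pow_two]; group, ((F.lx a ha).sqc hf za).eq,
    show f⁻¹ * (z * f ^ 2) * f⁻¹ = f⁻¹ * z * f by rw [pow_two]; group]

theorem abel (hz : z ∈ Ω) (ha : a ∈ Ω) (aK : a ∉ K z) :
    (∀ x ∈ E a ⊓ C_[z], x ^ 2 = 1) ∧ ∀ x ∈ E a ⊓ C_[z], ∀ y ∈ E a ⊓ C_[z], Commute x y :=
  ⟨fun x hx => ((F.lx a ha).sq hx.1).resolve_right fun m => aK (m ▸ pow_two x ▸ (km (F.idx z hz) hx.2 hx.2).2 Iff.rfl),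
    fun x hx y hy => ((F.lx a ha).cj2 hx.1 hy.1).elim (fun m => mul_inv_eq_iff_eq_mul.1 m) fun m => absurd (by
      have := (km (F.idx z hz) (mul_mem (mul_mem hx.2 hy.2) (inv_mem (mem_inf.1 hx).2)) (inv_mem (mem_inf.1 hy).2)).2
        ((kc (F.idx z hz) hx.2 hy.2).trans inv_mem_iff.symm)
      rwa [m, mul_inv_cancel_right] at this) aK⟩

theorem ex_good (hz : z ∈ Ω) (ha : a ∈ Ω) (az : a ∈ C_[z]) (aK : a ∉ K z) : ∃ x y, Good Ω K x y := by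
  by_contra! ng
  have h := F.lx z hz
  have h' := F.lx a ha
  have za := mem_cent1_comm.1 az
  have H : ∀ f ∈ E a, z * (f * z * f⁻¹) ∈ C_[z] → z * (f * z * f⁻¹) ∈ K z ∨ z * (f * z * f⁻¹) = a := fun f hf c => by
    by_contra! m
    exact ng _ _ (F.good hz ha az hf c m.1 m.2)
  have ca : ∀ f, z * (f * z * f⁻¹) = a ↔ f * z * f⁻¹ = a * z := fun f => by
    rw [mem_cent1.1 az, ← mul_right_inj z, ← mul_assoc, h.zz, one_mul]
  have c1 : ∀ f, z * (f * z * f⁻¹) = 1 ↔ f * z * f⁻¹ = z := fun f => by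
    rw [← mul_right_inj z, ← mul_assoc, h.zz, one_mul, mul_one]
  by_cases ex : ∃ f ∈ E a, f * z * f⁻¹ = a * z
  · obtain ⟨f₀, hf₀, fz⟩ := ex
    let X : Subgroup G :=
      { carrier := {f | f ∈ E a ∧ (f * z * f⁻¹ = z ∨ f * z * f⁻¹ = a * z)}
        one_mem' := ⟨one_mem _, Or.inl (by simp)⟩
        mul_mem' := fun {f g} hf hg => ⟨mul_mem hf.1 hg.1, by
          have k : f * (a * z) * f⁻¹ = a * (f * z * f⁻¹) := by rw [← mul_assoc, mem_cent1.1 (h'.le hf.1)]; group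
          rw [show f * g * z * (f * g)⁻¹ = f * (g * z * g⁻¹) * f⁻¹ by group]
          rcases hg.2 with m | m <;> rw [m]
          · exact hf.2
          · rcases hf.2 with q | q <;> rw [k, q]
            exacts [Or.inr rfl, Or.inl (by rw [← mul_assoc, h'.zz, one_mul])]⟩
        inv_mem' := fun {f} hf => ⟨inv_mem hf.1, hf.2.imp (fun m => by
          rw [inv_inv, mul_assoc, ← mul_inv_eq_iff_eq_mul.1 m, inv_mul_cancel_left]) fun m => by
          rw [inv_inv]; exact h'.ei hf.1 m⟩ }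
    have X1 : ∀ f ∈ E a, z * (f * z * f⁻¹) ∈ C_[z] → f ∈ X := fun f hf c => ⟨hf, by
      have k := cm_mul h.zz f f₀
      rw [(ca f₀).2 fz, mem_cent1.1 (h'.le hf), mul_inv_cancel_right] at k
      rcases H f hf c with m | m
      · have := (H _ (mul_mem hf hf₀) (k ▸ mul_mem c az)).resolve_left fun q => aK ((mul_mem_cancel_left m).1 (k ▸ q))
        rw [k, mul_eq_right] at this
        exact Or.inl ((c1 f).1 this)
      · exact Or.inr ((ca f).1 m)⟩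
    have xz : ∀ f ∈ E a, ∀ g ∈ E a, f * z * f⁻¹ = a * z → g * z * g⁻¹ = a * z → f * g ∈ C_[z] := fun f hf g hg m q => by
      simpa using (h'.ct (inv_mem hf) (by simpa using h'.ei hf m) hg q).2
    have k1 := idx2 (S := E a) (A := X) fun g hg f hf n1 n2 => X1 _ (mul_mem hg hf) (by
      have q := (h'.cm2 za h.zz hf).resolve_left (mt (X1 f hf) n2)
      have hc := h'.cmE za h.zz hf
      rw [cm_mul h.zz]
      refine xz _ (h'.cmE za h.zz hg) _ (h'.cE (h'.le hg) hc) ((h'.cm2 za h.zz hg).resolve_left (mt (X1 g hg) n1)) ?_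
      rcases h'.cj2 hg hc with m | m <;> rw [m]
      · exact q
      · rw [show ∀ c : G, a * c * z * (a * c)⁻¹ = a * (c * z * c⁻¹) * a⁻¹ from fun c => by group, q, mem_cent1.1 az,
          ← mul_assoc a, mul_inv_cancel_right, mem_cent1.1 az])
    have k2 := idx2 (S := X) (A := C_[z]) fun f hf g hg n1 n2 => xz f hf.1 g hg.1
      (hf.2.resolve_left fun m => n1 (mem_cent1.2 (mul_inv_eq_iff_eq_mul.1 m)))
      (hg.2.resolve_left fun m => n2 (mem_cent1.2 (mul_inv_eq_iff_eq_mul.1 m)))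
    have k3 := h'.aes.card_sq_le (A := E a ⊓ C_[z]) inf_le_left (abelian_iff.2 (le_cent_iff.2 (F.abel hz ha aK).2))
    have k4 := card_le (show C_[z] ⊓ X ≤ E a ⊓ C_[z] from fun _ q => ⟨q.2.1, q.1⟩)
    have k5 := card_le (inf_le_left (a := X) (b := E a))
    have k6 := F.big a ha
    rw [h'.zc, BG.card_zpowers, h'.aes.ord] at k3
    nlinarith
  push Not at ex
  have cK : ∀ f ∈ E a, z * (f * z * f⁻¹) ∈ K z := fun f hf => (H f hf ((h'.cm2 za h.zz hf).resolve_right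
    (ex _ (h'.cmE za h.zz hf)))).resolve_right fun m => ex f hf ((ca f).1 m)
  refine (h'.cz (x := z) fun f hf => mul_inv_eq_iff_eq_mul.1 ((c1 f).1 ((h'.cz fun g hg => ?_).resolve_right
    fun m => ex f hf ((ca f).1 m)))).elim h.z1 fun m => aK (m ▸ F.zK hz)
  refine mul_inv_eq_iff_eq_mul.1 ((h'.cj2 hg (h'.cmE za h.zz hf)).resolve_right fun m => aK ?_)
  have := cK _ (mul_mem hg hf)
  rwa [cm_mul h.zz, mul_mem_cancel_left (cK g hg), m, mul_mem_cancel_right (cK f hf)] at this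

theorem gd (q : Good Ω K z a) : (∀ e ∈ E z, e * a * e⁻¹ ≠ z * a) ∧
    (∀ t ∈ E z, (∀ x ∈ E z ⊓ C_[a], Commute x t) → t ∈ C_[a]) ∧ Nat.card ↥(E z ⊓ C_[a]) ^ 2 = Nat.card (E z) * 2 := by
  obtain ⟨hz, ha, az, -, zK, n⟩ := q
  have h := F.lx z hz
  have aa := (F.lx a ha).zz
  have l0 : ∀ e ∈ E z, e * a * e⁻¹ ≠ z * a := fun e _ m => n (m ▸ F.cj a ha e)
  have sc : ∀ t ∈ E z, (∀ x ∈ E z ⊓ C_[a], Commute x t) → t ∈ C_[a] := fun t ht k => by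
    obtain ⟨v, -, m⟩ := h.W az ht fun v hv m => k v ⟨hv, mem_cent1.2 (mul_inv_eq_iff_eq_mul.1 (m.resolve_right (l0 v hv)))⟩
    exact (h.inv2 az aa ht (inv_of aa h.zz az (h.le ht) m)).resolve_right (l0 t ht)
  refine ⟨l0, sc, ?_⟩
  rw [← h.perp (M := E z ⊓ C_[a]) inf_le_left ⟨h.aes.mem, mem_cent1_comm.1 az⟩, pow_two, le_antisymm (a := E z ⊓ C_(E z ⊓ C_[a]))
    (fun t ht => ⟨ht.1, sc t ht.1 ht.2⟩) (le_inf inf_le_left (le_cent_iff.2 (F.abel ha hz zK).2))]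

theorem no_good (q : Good Ω K z a) : False := by
  obtain ⟨⟨z, a⟩, q, mx⟩ := Set.exists_max_image {p : G × G | Good Ω K p.1 p.2} (fun p => Nat.card ↥(E p.1 ⊓ E p.2))
    (Set.toFinite _) ⟨(z, a), q⟩
  obtain ⟨l0, sc, cB⟩ := F.gd q
  obtain ⟨-, -, cA⟩ := F.gd q.symm
  obtain ⟨hz, ha, az, aK, zK, -⟩ := q
  dsimp only at *
  have h := F.lx z hz
  have h' := F.lx a ha
  have za := mem_cent1_comm.1 az
  obtain ⟨b2, ab⟩ := F.abel ha hz zK
  have AB : Nat.card ↥(E a ⊓ C_[z]) = Nat.card ↥(E z ⊓ C_[a]) :=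
    Nat.pow_left_injective two_ne_zero (cA.trans (F.eqc a ha z hz ▸ cB.symm))
  have cB' : ∀ e ∈ E z, a * (e * a * e⁻¹) ∈ E z ⊓ C_[a] := fun e he =>
    ⟨h.cmE az h'.zz he, (h.cm2 az h'.zz he).resolve_right (l0 _ (h.cmE az h'.zz he))⟩
  have cF : ∀ e, a * (e * a * e⁻¹) ∈ E a → e ∈ C_[a] := fun e m => mem_cent1.2 (mul_inv_eq_iff_eq_mul.1
    (F.wc a ha _ (F.cj a ha e) ((mul_mem_cancel_left h'.aes.mem).1 m)))
  by_cases ex : ∃ e ∈ E z ⊓ C_(E z ⊓ E a), a * (e * a * e⁻¹) ∉ K a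
  · obtain ⟨e, he', n⟩ := ex
    obtain ⟨he, eI⟩ := mem_inf.1 he'
    have m := mx (a, e * a * e⁻¹) (F.good ha hz za he (cB' e he).2 n fun m => l0 e he (by
      rw [← mem_cent1.1 az, ← m, ← mul_assoc, h'.zz, one_mul]))
    have eB : e ∉ C_[a] := fun k => n (by
      rw [mem_cent1.1 k, mul_inv_cancel_right, h'.zz]; exact one_mem _)
    have nA : E z ⊓ C_[a] ⊓ C_[e] ≤ N_(E a ⊓ C_[z]) := norm_inf (fun _ k => h'.norm k.1.2) (norm_cent1 fun _ k => h.le k.1.1)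
    have l1 : BG.cj e (E a ⊓ C_[z]) ≤ (E a ⊓ C_[z]) ⊔ (E z ⊓ C_[a] ⊓ C_[e]) := fun x hx => by
      obtain ⟨u, hu', rfl⟩ := mem_cj'.1 hx
      obtain ⟨hu, uz⟩ := mem_inf.1 hu'
      have pE := mul_mem (h.cE' uz he) (inv_mem he)
      have pB : u⁻¹ * e * u * e⁻¹ ∈ E z ⊓ C_[a] := ⟨pE, sc _ pE fun y hy' => (h.cdiv (h.cE' uz he) he hy'.1 (by
        obtain ⟨hy, ya⟩ := mem_inf.1 hy'
        have : Commute (u * y * u⁻¹ * y⁻¹) e := eI _ (mem_inf.2 ⟨mul_mem (h.cE uz hy) (inv_mem hy), by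
          simpa [mul_assoc] using mul_mem hu (h'.cE ya (inv_mem hu))⟩)
        rw [cs, ← adj, cs (x := e), ← cl (y := y) this, inv_mul_cancel_right])).symm⟩
      rw [show e * u * e⁻¹ = u * (u⁻¹ * e * u * e⁻¹) by group]
      refine mul_mem (mem_sup_left hu') (mem_sup_right ⟨pB, mem_cent1.2 ?_⟩)
      rw [eq_comm, ← mul_inv_eq_iff_eq_mul, psinv (h.sqc he uz)]
      exact inv_eq_of_mul_eq_one_left ((pow_two _).symm.trans (b2 _ pB))
    have k1 := card_inf_mul_relIndex (E a ⊓ C_[z]) (BG.cj e (E a ⊓ C_[z]))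
    have k2 := relIndex_le_of_le_right l1 (relIndex_ne_zero (E a ⊓ C_[z]) _)
    have k3 := card_inf_mul_relIndex (E a ⊓ C_[z]) (E z ⊓ C_[a] ⊓ C_[e])
    have k4 := card_le (show E z ⊓ E a ≤ E a ⊓ C_[z] ⊓ (E z ⊓ C_[a] ⊓ C_[e]) from fun i hi =>
      ⟨⟨hi.2, h.le hi.1⟩, ⟨hi.1, h'.le hi.2⟩, mem_cent1.2 (eI i hi)⟩)
    have k5 := card_lt (lt_of_le_of_ne (inf_le_left (a := E z ⊓ C_[a]) (b := C_[e])) fun k =>
      eB (sc e he fun x hx => cc.1 (k.ge hx).2))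
    have k6 := card_le (inf_le_inf (inf_le_left (a := E a) (b := C_[z])) (cj_mono e (inf_le_left (a := E a) (b := C_[z]))))
    rw [relIndex_sup nA] at k2
    rw [card_cj] at k1
    rw [F.ce a ha] at m
    dsimp only at m
    nlinarith [Nat.mul_le_mul (k6.trans (m.trans k4)) k2]
  push Not at ex
  have dc : ∀ t ∈ E z, t ∈ C_(E z ⊓ C_(E z ⊓ E a)) → t ∈ E a ∨ t ∉ K a := fun t ht k => by
    obtain ⟨i, hi, y, hy, rfl⟩ := (mem_sup_norm (le_norm_of_cent (inf_le_right.trans (cent_anti inf_le_left)))).1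
      (H03.aes_dc h.aes (A := E z ⊓ E a) inf_le_left ⟨ht, k⟩)
    refine (h.aes.eq_or (h.cent hy.2)).imp (fun m => by rw [m, mul_one]; exact hi.2) fun m => ?_
    rwa [m, mul_mem_cancel_left (F.ek a ha hi.2)]
  have l1 : E z ⊓ C_(E z ⊓ E a) ≤ E z ⊓ C_[a] := fun e he => ⟨he.1, cF e ((dc _ (cB' e he.1).1 (mem_cent.2 fun f hf =>
    mul_inv_eq_iff_eq_mul.1 ((h.cj2 hf.1 (cB' e he.1).1).resolve_right fun m => zK (by
      have := ex _ (mul_mem hf he)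
      rwa [cm_mul h'.zz, mul_mem_cancel_left (ex f hf), m, mul_mem_cancel_right (ex e he)] at this)))).resolve_right
    (not_not.2 (ex e he)))⟩
  have nK : ∀ e ∈ E z, e ∉ C_[a] → a * (e * a * e⁻¹) ∉ K a := fun e he n =>
    (dc _ (cB' e he).1 (mem_cent.2 fun f hf => ab f (l1 hf) _ (cB' e he))).resolve_left (mt (cF e) n)
  obtain ⟨e, he, n⟩ : ∃ e ∈ E z, e ∉ C_[a] := by
    by_contra! k
    rcases h.cz fun e he => mem_cent1.1 (k e he) with m | m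
    exacts [h'.z1 m, aK (by rw [m]; exact F.zK hz)]
  have st : ∀ x ∈ E z ⊓ C_[a * (e * a * e⁻¹)], x ∉ C_[a] → x * e ∈ C_[a] := fun x hx m => by_contra fun k => nK _ (mul_mem hx.1 he) k (by
    rw [cm_mul h'.zz, mem_cent1.1 hx.2, mul_inv_cancel_right, km (F.idx a ha) (cB' x hx.1).2 (cB' e he).2]
    exact iff_of_false (nK x hx.1 m) (nK e he n))
  have k1 := idx2 (S := E z ⊓ C_[a * (e * a * e⁻¹)]) (A := C_[a]) fun x hx y hy m k => by
    simpa using mul_mem (st x hx m) (inv_mem (st _ (inv_mem hy) (mt inv_mem_iff.1 k)))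
  have k2 := idx2 (S := E z) (A := C_[a * (e * a * e⁻¹)]) fun x hx y hy m k =>
    cc.2 ((h.cmul hx hy (cB' e he).1).2 (iff_of_false (mt cc.2 m) (mt cc.2 k)))
  have k3 := card_le (show C_[a] ⊓ (E z ⊓ C_[a * (e * a * e⁻¹)]) ≤ E z ⊓ C_[a] from fun _ q => ⟨q.2.1, q.1⟩)
  have k4 := F.big z hz
  rw [inf_comm] at k2
  nlinarith

theorem mem_K (hz : z ∈ Ω) (ha : a ∈ Ω) (az : a ∈ C_[z]) : a ∈ K z := by_contra fun n => by
  obtain ⟨x, y, q⟩ := F.ex_good hz ha az n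
  exact F.no_good q

end Fam

end H01.XS
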