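import Mathlib
import Cfsg.Agent.H01.XS4

/-!
# Large extraspecial 2-subgroups, part 5 (namespace `H01.XS`)

`Fam.no`, `LX.fused`: if `O²(G) = G`, `|E| > 32` and `C(z)` has a subgroup of index 2, then `z` is not weakly closed in `E`.
-/

set_option autoImplicit false
set_option linter.unusedSectionVars false
open Cfsg BG Subgroup
open scoped commutatorElement

namespace H01.XS
universe u
variable {G : Type u} [Group G] [Finite G] {a b c d e f g i j t u v w x y z : G} {A B D L S : Subgroup G}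

theorem Hf.rep {E : Subgroup G} (c : Hf z a e E L D) (da : D ≤ C_[a]) (hv : v ∈ E) (va : v * a * v⁻¹ = z * a) :
    v ∈ N_(D) ∧ ∀ x ∈ E, x ∈ N_(D) → x ∈ C_[a] ∨ x * v ∈ C_[a] := by
  have n : v ∈ N_(D) := mem_norm_of_cj_le fun q hq => by
    obtain ⟨d, hd, rfl⟩ := mem_cj'.1 hq
    simpa [mul_assoc] using mul_mem hd (c.bD (c.lx.psi hv va (c.dz hd) (da hd)))
  refine ⟨n, fun x hx k => (c.two x hx k).imp (da ·) fun m => ?_⟩
  have := (c.two _ (inv_mem hv) (inv_mem n)).resolve_left fun q => c.lx.z1 (by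
    rwa [mem_cent1.1 (inv_mem_iff.1 (da q)), mul_inv_cancel_right, eq_comm, mul_eq_right] at va)
  simpa using da (mul_mem m (inv_mem this))

theorem LX.a2 {E F : Subgroup G} (h : LX z E) (h' : LX a F) (I : ∀ i ∈ E, i ∈ F → i = 1) (he : e ∈ E)
    (ea : e * a * e⁻¹ = z * a) : (∀ x ∈ F ⊓ C_[z], ∀ y ∈ E ⊓ C_[a], Commute x y) ∧
      ∀ x ∈ F ⊓ C_[z], ∀ y ∈ F ⊓ C_[z], Commute x y := by
  have AB : ∀ x ∈ F ⊓ C_[z], ∀ y ∈ E ⊓ C_[a], Commute x y := fun x hx y hy => by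
    have := I _ (mul_mem (h.cE hx.2 hy.1) (inv_mem (mem_inf.1 hy).1)) (h'.cF hy.2 hx.1)
    rwa [mul_inv_eq_one, mul_inv_eq_iff_eq_mul] at this
  refine ⟨AB, fun x hx y hy => (h'.cm hx.1 hy.1).resolve_right fun m => h.z1 ?_⟩
  have p := h.psi he ea hx.2 (h'.le hx.1)
  have q := h.psi he ea hy.2 (h'.le hy.1)
  have k1 := psinv (h.sqc he hx.2)
  have k2 := psinv (h.sqc he hy.2)
  have k3 := psinv (h.sqc he (mul_mem hx hy).2)
  have k4 : (x * y)⁻¹ * e * (x * y) * e⁻¹ = y⁻¹ * (x⁻¹ * e * x * e⁻¹ * y) * (y⁻¹ * e * y * e⁻¹) := by group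
  have k5 : e * (x * y) * e⁻¹ = x * (x⁻¹ * e * x * e⁻¹ * y) * (y⁻¹ * e * y * e⁻¹) := by group
  have k6 : e * (a * y * x) * e⁻¹ = e * a * e⁻¹ * y * (y⁻¹ * e * y * e⁻¹ * x) * (x⁻¹ * e * x * e⁻¹) := by group
  rw [← (AB y hy _ p).eq] at k4 k5
  rw [← (AB x hx _ q).eq, ← m, k5, ea] at k6
  rw [k4] at k3
  generalize x⁻¹ * e * x * e⁻¹ = r, y⁻¹ * e * y * e⁻¹ = s at *
  have k7 : r * s = s * r := by
    rw [inv_mul_cancel_left, show e * (r * s) * e⁻¹ = e * r * e⁻¹ * (e * s * e⁻¹) by group, k1, k2, ← mul_inv_rev, inv_inj] at k3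
    exact k3.symm
  rw [← mul_left_inj (a * y * x * (s * r)), one_mul]
  calc _ = z * a * y * (x * s) * r := by group
    _ = x * y * (r * s) := by rw [← k6]; group
    _ = _ := by rw [m, k7]

namespace Fam
variable {Ω : Set G} {E K : G → Subgroup G} (F : Fam Ω E K) (hz : z ∈ Ω) (ha : a ∈ Ω) (az : a ∈ C_[z])
include F hz ha az

theorem wK (hu : u ∈ E a ⊓ C_[z]) (k : ∀ v ∈ E a, (v * z * v⁻¹ = z ∨ v * z * v⁻¹ = a * z) → Commute v u) : u ∈ K z := by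
  obtain ⟨v, -, m⟩ := (F.lx a ha).W (mem_cent1_comm.1 az) hu.1 k
  have zu := mul_mem (mem_cent1_self z) (mem_inf.1 hu).2
  rcases m with m | m
  · exact (mul_mem_cancel_left (F.zK hz)).1 (m ▸ F.mem_K hz (F.cj z hz v) (m ▸ zu))
  · exact (mul_mem_cancel_left (F.zK hz)).1 ((mul_mem_cancel_left (F.mem_K hz ha az)).1
      (m ▸ F.mem_K hz (F.cj z hz v) (m ▸ mul_mem az zu)))

theorem ic (n : a ≠ z) (hi : i ∈ E z) (ia : i ∈ E a) (hb : b ∈ E z ⊓ C_[a]) : Commute i b :=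
  ((F.lx z hz).cm hi hb.1).resolve_right fun m => n (F.wc a ha z hz (by
    have := (F.lx a ha).cF hb.2 ia
    rwa [m, mul_inv_cancel_right, mul_inv_cancel_right] at this)).symm

theorem eqo (ia : i ∈ E a) (k : v * a * v⁻¹ = a * i) : i = 1 :=
  mul_eq_left.1 (k ▸ F.wc a ha _ (F.cj a ha v) (k ▸ mul_mem (F.lx a ha).aes.mem ia))

theorem a1 (n : a ≠ z) (c : Hf z a e (E z) L D) (da : D ≤ C_[a]) (hv : v ∈ E z) (va : v * a * v⁻¹ = z * a) :
    ∀ i ∈ E z, i ∈ E a → i = 1 := by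
  have h := F.lx z hz
  have h' := F.lx a ha
  have n1 : ∀ i ∈ E z, i ∈ E a → Commute v i → i = 1 := fun i hi ia k => by
    obtain ⟨w, -, m⟩ := h.W az hi fun w hw m => m.elim (fun m => (F.ic hz ha az n hi ia ⟨hw, mem_cent1.2
      (mul_inv_eq_iff_eq_mul.1 m)⟩).symm) fun m => (cl k.inv_left).1 (F.ic hz ha az n hi ia (h.ct hv va hw m)).symm
    refine m.elim (F.eqo hz ha az ia) fun m => F.eqo hz ha az ia (v := v * w) ?_
    calc _ = v * (w * a * w⁻¹) * v⁻¹ := by group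
      _ = v * z * a * v⁻¹ * (v * i * v⁻¹) := by rw [m]; group
      _ = z * (v * a * v⁻¹) * i := by rw [mem_cent1.1 (h.le hv), k.eq]; group
      _ = _ := by rw [va, ← mul_assoc, h.zz, one_mul]
  intro i hi ia
  by_contra i1
  have vi := mt (n1 i hi ia) i1
  have di : D ≤ C_[i] := fun d hd => by
    have k1 := h.cE (c.dz hd) hi
    have k2 := h'.cE (da hd) ia
    have := n1 _ (mul_mem k1 (inv_mem hi)) (mul_mem k2 (inv_mem ia)) (h.cdiv k1 hi hv (iff_of_false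
      (fun m => i1 (conj_eq_one_iff.1 (n1 _ k1 k2 m.symm))) (mt cs.1 vi))).symm
    rwa [mul_inv_eq_one, mul_inv_eq_iff_eq_mul, ← mem_cent1] at this
  have l := (grow (A := E z ⊓ C_[i]) h.aes.isPGroup.to_inf_left c.pg (norm_inf (c.dz.trans h.norm) (norm_cent1 di)) fun x hx k =>
    ((c.rep da hv va).2 x hx.1 k).elim (fun m => c.bD ⟨hx.1, m⟩) fun m => absurd ((cl (cc.1 hx.2)).1
      (F.ic hz ha az n hi ia (mem_inf.2 ⟨mul_mem (mem_inf.1 hx).1 hv, m⟩)).symm) vi).trans da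
  have := h.cz (x := a * i) fun w hw => by
    have X : ∀ w ∈ E z ⊓ C_[i], Commute w (a * i) := fun w hw => (cc.1 (l hw)).mul_right (cc.1 hw.2)
    by_cases k : Commute w i
    · exact X w ⟨hw, cc.2 k⟩
    refine (cr ?_).1 (X _ ⟨mul_mem hw hv, cc.2 ((h.cmul hw hv hi).2 (iff_of_false k vi))⟩)
    rw [commute_iff_eq, ← mul_inv_eq_iff_eq_mul]
    calc _ = v * a * v⁻¹ * (v * i * v⁻¹) := by group
      _ = z * (a * z) * i := by rw [va, (h.cj2 hv hi).resolve_left fun m => vi (mul_inv_eq_iff_eq_mul.1 m)]; group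
      _ = _ := by rw [mem_cent1.1 az, ← mul_assoc, h.zz, one_mul]
  exact n (F.wc z hz a ha ((mul_mem_cancel_right hi).1 (this.elim (fun m => m ▸ one_mem _) fun m => m ▸ h.aes.mem)))

theorem cA (n : a ≠ z) (c1 : Hf z a e (E z) (K a) D) (c2 : Hf a z f (E a) (K z) D) (hv : v ∈ E z)
    (va : v * a * v⁻¹ = z * a) : False := by
  have h := F.lx z hz
  have h' := F.lx a ha
  have I := F.a1 hz ha az n c1 c2.dz hv va
  obtain ⟨AB, aA⟩ := h.a2 h' I hv va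
  obtain ⟨d, hd, uK⟩ := c2.ex
  have hu := mem_inf.2 ⟨h'.cF (c2.dz hd) c2.eE, c1.dz (mul_mem (conj_mem_of_norm c2.eN hd) (inv_mem hd))⟩
  have fu : f * (f * d * f⁻¹ * d⁻¹) * f⁻¹ = (f * d * f⁻¹ * d⁻¹)⁻¹ := by
    calc _ = f ^ 2 * d * f⁻¹ * d⁻¹ * f⁻¹ := by rw [pow_two]; group
      _ = _ := by rw [(h'.sqc c2.eE (c2.dz hd)).eq, pow_two]; group
  generalize f * d * f⁻¹ * d⁻¹ = u at *
  refine uK (F.wK hz ha az hu fun w hw m => m.elim (fun m => aA w ⟨hw, mem_cent1.2 (mul_inv_eq_iff_eq_mul.1 m)⟩ u hu) fun m => ?_)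
  rcases h'.sq hu.1 with s | s
  · rw [inv_eq_of_mul_eq_one_left ((pow_two u).symm.trans s), mul_inv_eq_iff_eq_mul] at fu
    exact (c2.two w hw (c2.rep c1.dz hw m).1).elim (fun k => aA w ⟨hw, c1.dz k⟩ u hu) fun k =>
      (cr fu).1 (aA _ ⟨mul_mem hw c2.eE, c1.dz k⟩ u hu)
  have p := h.psi hv va hu.2 (h'.le hu.1)
  refine (h.fin az h'.zz (h'.a2 h (fun i a b => I i b a) hw m).2 p ?_ hv va hu.2 s (AB u hu)).elim
  have : (u * (u⁻¹ * v * u * v⁻¹)) ^ 2 = z * a := by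
    rw [show u * (u⁻¹ * v * u * v⁻¹) = v * u * v⁻¹ by group, conj_pow, s, va]
  rwa [(AB u hu _ p).mul_pow, s, ← mem_cent1.1 az, mul_right_inj] at this

theorem ei (n : a ≠ z) (l : ∀ v ∈ E z, v * a * v⁻¹ ≠ z * a) (hi : i ∈ E z) (ia : i ∈ E a) (i1 : i ≠ 1) :
    ∃ v ∈ E z, v * a * v⁻¹ = z * (a * i) := by
  obtain ⟨w, hw, m⟩ := (F.lx z hz).W az hi fun w hw m => (F.ic hz ha az n hi ia ⟨hw, mem_cent1.2
    (mul_inv_eq_iff_eq_mul.1 (m.resolve_right (l w hw)))⟩).symm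
  exact ⟨w, hw, m.resolve_left (mt (F.eqo hz ha az ia) i1)⟩

theorem b5 (n : a ≠ z) (l : ∀ v ∈ E z, v * a * v⁻¹ ≠ z * a) (l' : ∀ v ∈ E a, v * z * v⁻¹ ≠ a * z) (hu : u ∈ E a ⊓ C_[z])
    (uK : u ∉ K z) (hi : i ∈ E z) (ia : i ∈ E a) (hj : j ∈ E z) (ja : j ∈ E a) (i1 : i ≠ 1) (j1 : j ≠ 1) (ij : i * j ≠ 1) :
    False := by
  have h := F.lx z hz
  have h' := F.lx a ha
  have za := mem_cent1_comm.1 az
  have key : ∀ i ∈ E z, i ∈ E a → i ≠ 1 → ∀ v, v * a * v⁻¹ = z * (a * i) → v⁻¹ * u * v ∈ C_[a] ∧ v⁻¹ * u * v ∉ K a :=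
    fun i hi ia i1 v k => by
      obtain ⟨w, hw, m⟩ := F.ei ha hz za n.symm l' ia hi i1
      rw [← mem_cj, ← mem_cj, cj_cent1, ← F.ck a ha, k]
      refine ⟨cc.2 ((cc.1 hu.2).mul_right ((cc.1 (h'.le hu.1)).mul_right (F.ic ha hz za n.symm ia hi hu).symm)), fun q => uK ?_⟩
      rw [← mul_assoc, ← mem_cent1.1 az, mul_assoc, ← m, F.ck z hz, mem_cj] at q
      rcases h'.cj2 (inv_mem hw) hu.1 with s | s <;> rw [inv_inv] at s <;> rw [s] at q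
      exacts [q, (mul_mem_cancel_left (F.mem_K hz ha az)).1 q]
  obtain ⟨v, hv, vi⟩ := F.ei hz ha az n l hi ia i1
  obtain ⟨w, hw, wj⟩ := F.ei hz ha az n l hj ja j1
  have k : v * w * a * (v * w)⁻¹ = a * i * (v * j * v⁻¹) := by
    calc _ = v * (w * a * w⁻¹) * v⁻¹ := by group
      _ = v * z * a * v⁻¹ * (v * j * v⁻¹) := by rw [wj]; group
      _ = z * (v * a * v⁻¹) * (v * j * v⁻¹) := by rw [mem_cent1.1 (h.le hv)]; group
      _ = _ := by rw [vi, ← mul_assoc z, h.zz, one_mul]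
  rcases h.cj2 hv hj with s | s <;> rw [s] at k
  · exact ij (F.eqo hz ha az (mul_mem ia ja) (k.trans (mul_assoc _ _ _)))
  rw [← mul_assoc, mem_cent1.1 (mul_mem az (h.le hi)), mul_assoc z, mul_assoc a i] at k
  obtain ⟨p1, p2⟩ := key i hi ia i1 v vi
  obtain ⟨q1, q2⟩ := key j hj ja j1 w wj
  refine (key _ (mul_mem hi hj) (mul_mem ia ja) ij _ k).2 ?_
  have s1 := mul_mem p1 (inv_mem (h'.le hu.1))
  have s2 : v⁻¹ * u * v * u⁻¹ ∉ K a := mt (mul_mem_cancel_right (inv_mem (F.ek a ha hu.1))).1 p2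
  rw [show (v * w)⁻¹ * u * (v * w) = w⁻¹ * (v⁻¹ * u * v * u⁻¹) * w⁻¹⁻¹ * (w⁻¹ * u * w) by group]
  rcases h.cj2 (inv_mem hw) (h.cF' hu.2 hv) with s | s <;> rw [s]
  · exact (km (F.idx a ha) s1 q1).2 (iff_of_false s2 q2)
  · exact (km (F.idx a ha) (mul_mem za s1) q1).2 (iff_of_false (mt (mul_mem_cancel_left (F.mem_K ha hz za)).1 s2) q2)

theorem cB (n : a ≠ z) (c1 : Hf z a e (E z) (K a) D) (c2 : Hf a z f (E a) (K z) D) (eD : e ∉ D)
    (l : ∀ v ∈ E z, v * a * v⁻¹ ≠ z * a) (l' : ∀ v ∈ E a, v * z * v⁻¹ ≠ a * z) : False := by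
  have h := F.lx z hz
  have h' := F.lx a ha
  have za := mem_cent1_comm.1 az
  have he := c1.eE
  obtain ⟨d, hd, uK⟩ := c2.ex
  have hx := mem_inf.2 ⟨h'.cF (c2.dz hd) c2.eE, c1.dz (mul_mem (conj_mem_of_norm c2.eN hd) (inv_mem hd))⟩
  generalize f * d * f⁻¹ * d⁻¹ = x at *
  obtain ⟨y, hy, m⟩ : ∃ y ∈ E a ⊓ C_[z], ¬ Commute y x := by
    by_contra! k
    exact uK (F.wK hz ha az hx fun w hw m => k w ⟨hw, mem_cent1.2 (mul_inv_eq_iff_eq_mul.1 (m.resolve_right (l' w hw)))⟩)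
  replace m := (h'.cm hx.1 hy.1).resolve_left (mt cs.1 m)
  have ps : ∀ x ∈ E a ⊓ C_[z], x⁻¹ * e * x * e⁻¹ ∈ E z ⊓ C_[a] := fun x hx => mem_inf.2 ⟨mul_mem (h.cE' hx.2 he) (inv_mem he),
    c2.dz (by simpa [mul_assoc] using mul_mem (inv_mem (c2.bD hx)) (conj_mem_of_norm c1.eN (c2.bD hx)))⟩
  have cI : ∀ x ∈ E a ⊓ C_[z], ∀ b ∈ E z ⊓ C_[a], b⁻¹ * x⁻¹ * b * x ∈ E z ∧ b⁻¹ * x⁻¹ * b * x ∈ E a := fun x hx b hb =>
    ⟨by simpa [mul_assoc] using mul_mem (inv_mem (mem_inf.1 hb).1) (h.cE' hx.2 hb.1),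
      mul_mem (h'.cE' hb.2 (inv_mem (mem_inf.1 hx).1)) hx.1⟩
  have i2 : ∀ i ∈ E z, i ∈ E a → i⁻¹ = i := fun i hi ia => inv_eq_of_mul_eq_one_left ((pow_two i).symm.trans
    ((h.sq hi).resolve_right fun q => n (F.wc a ha z hz (q ▸ pow_mem ia 2)).symm))
  have p := ps x hx
  have q := ps y hy
  obtain ⟨i1, i1'⟩ := cI x hx _ q
  obtain ⟨j1, j1'⟩ := cI y hy _ p
  have k1 := psinv (h.sqc he hx.2)
  have k2 := psinv (h.sqc he hy.2)
  have k3 := psinv (h.sqc he (mul_mem hx hy).2)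
  have k4 : (x * y)⁻¹ * e * (x * y) * e⁻¹ = x⁻¹ * e * x * e⁻¹ * ((x⁻¹ * e * x * e⁻¹)⁻¹ * y⁻¹ * (x⁻¹ * e * x * e⁻¹) * y) *
    (y⁻¹ * e * y * e⁻¹) := by group
  have k5 : e * (x * y) * e⁻¹ = x * y * (x⁻¹ * e * x * e⁻¹ * ((x⁻¹ * e * x * e⁻¹)⁻¹ * y⁻¹ * (x⁻¹ * e * x * e⁻¹) * y) *
    (y⁻¹ * e * y * e⁻¹)) := by group
  have k6 : e * (a * y * x) * e⁻¹ = e * a * e⁻¹ * (y * x) * (y⁻¹ * e * y * e⁻¹ *
    ((y⁻¹ * e * y * e⁻¹)⁻¹ * x⁻¹ * (y⁻¹ * e * y * e⁻¹) * x) * (x⁻¹ * e * x * e⁻¹)) := by group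
  rw [← m, k5] at k6
  rw [k4] at k3
  clear k4 k5
  generalize x⁻¹ * e * x * e⁻¹ = r, y⁻¹ * e * y * e⁻¹ = s at *
  generalize s⁻¹ * x⁻¹ * s * x = i, r⁻¹ * y⁻¹ * r * y = j at *
  have ir := F.ic hz ha az n i1 i1' p
  have is := F.ic hz ha az n i1 i1' q
  have jr := F.ic hz ha az n j1 j1' p
  have js := F.ic hz ha az n j1 j1' q
  have tE := mul_mem j1 (inv_mem i1)
  have ta := mul_mem j1' (inv_mem i1')
  have tc : Commute (j * i⁻¹) (y * x) := F.ic ha hz za n.symm ta tE (mul_mem hy hx)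
  have k7 : e * a * e⁻¹ = a * (y * x) * (j * (r * s) * (s * r)⁻¹ * i⁻¹) * (y * x)⁻¹ := by
    rw [← jr.eq, ← is.eq, m] at k6
    rw [eq_mul_inv_iff_mul_eq, ← mul_left_inj (i * s * r), ← k6]; group
  rcases h.cm p.1 q.1 with rs | rs
  · rw [rs, mul_inv_cancel_right, mul_assoc a, ← tc.eq, mul_assoc a, mul_inv_cancel_right] at k7
    have := F.eqo hz ha az ta k7
    rw [this, mul_one, mul_inv_eq_iff_eq_mul] at k7
    exact eD (c1.bD ⟨he, mem_cent1.2 k7⟩)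
  have k8 : e * a * e⁻¹ = a * (j * i⁻¹) * z := by
    rw [k7, rs, mul_assoc z, ← mul_assoc j, mul_inv_cancel_right, mul_assoc j, ← mem_cent1.1 (h.le (inv_mem i1)),
      ← mul_assoc j, mul_assoc a, ← (Commute.mul_left tc (cc.1 (mul_mem hy hx).2).symm).eq]
    group
  have te : Commute e (j * i⁻¹) := by
    have k9 : e * (e * a * e⁻¹) * e⁻¹ = a := by
      calc _ = e ^ 2 * a * (e ^ 2)⁻¹ := by rw [pow_two]; group
        _ = _ := by rw [(h.sqc he az).eq]; group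
    generalize j * i⁻¹ = t at *
    rw [commute_iff_eq, ← mul_inv_eq_iff_eq_mul, eq_comm, ← i2 _ tE ta, inv_eq_iff_mul_eq_one, i2 _ tE ta, ← mul_right_inj a, mul_one]
    calc _ = a * t * (z * z) * (e * t * e⁻¹) := by rw [h.zz]; group
      _ = a * t * z * (e * t * e⁻¹ * z) := by rw [mem_cent1.1 (h.cE (h.le he) tE |> h.le)]; group
      _ = e * a * e⁻¹ * e * t * (e⁻¹ * z * e) * e⁻¹ := by rw [← k8]; group
      _ = e * (a * t * z) * e⁻¹ := by rw [mem_cent1.1 (h.le (inv_mem he))]; group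
      _ = _ := by rw [← k8, k9]
  have je : ¬ Commute e j := fun o => h.z1 (by
    rw [show e * (r * j * s) * e⁻¹ = e * r * e⁻¹ * (e * j * e⁻¹) * (e * s * e⁻¹) by group, k1, k2, o.eq, mul_inv_cancel_right,
      ← jr.inv_right.eq, mul_assoc r, js.eq, ← mul_assoc, mul_inv_rev, i2 j j1 j1', mul_assoc, mul_right_inj, ← mul_inv_rev,
      inv_inj, rs, mul_assoc, eq_comm, mul_eq_right] at k3
    exact k3)
  refine F.b5 hz ha az n l l' hx uK tE ta j1 j1' (fun o => l e he ?_) (fun o => je (o ▸ Commute.one_right e)) fun o => je ?_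
  · rw [k8, o, mul_one, mem_cent1.1 az]
  · rw [eq_inv_of_mul_eq_one_right o]; exact te.inv_right

omit ha az in
theorem no (hG : pResidual 2 G = ⊤) (l : K z ≤ C_[z]) : False := by
  obtain ⟨g, e, f, D, c1, c2⟩ := cfg hG (F.lx z hz) l (F.idx z hz) fun g => F.mem_K hz (F.cj z hz g)
  have ha := F.cj z hz g
  rw [← F.ck z hz] at c1
  rw [← F.ce z hz] at c2
  generalize g * z * g⁻¹ = a at *
  have az := c1.dz c2.zD
  have eD : e ∉ D := fun m => by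
    obtain ⟨d, hd, k⟩ := c1.ex
    exact k ((km (F.idx a ha) (c2.dz (conj_mem_of_norm c1.eN hd)) (c2.dz (inv_mem hd))).2
      ((kc (F.idx a ha) (c2.dz m) (c2.dz hd)).trans inv_mem_iff.symm))
  have n : a ≠ z := fun m => eD (c1.bD ⟨c1.eE, m ▸ c1.lx.le c1.eE⟩)
  exact F.cB hz ha az n c1 c2 eD (fun v hv k => F.cA hz ha az n c1 c2 hv k) fun v hv k =>
    F.cA ha hz (mem_cent1_comm.1 az) n.symm c2 c1 hv k

end Fam

open Classical in
/-- transport of a `C(z)`-invariant subgroup along the class of `z` -/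
noncomputable def tr (z : G) (X : Subgroup G) (x : G) : Subgroup G :=
  if h : ∃ g, g * z * g⁻¹ = x then cj h.choose X else ⊥

theorem tr_eq (n : C_[z] ≤ N_(A)) (g : G) : tr z A (g * z * g⁻¹) = cj g A := by
  have h : ∃ k, k * z * k⁻¹ = g * z * g⁻¹ := ⟨g, rfl⟩
  rw [tr, dif_pos h]
  exact LX.cj_eq n h.choose_spec

theorem LX.fused {E K : Subgroup G} (hG : pResidual 2 G = ⊤) (h : LX z E) (big : 32 < Nat.card E) (l : K ≤ C_[z])
    (hK : K.relIndex C_[z] = 2) (ek : E ≤ K) : ∃ g : G, g * z * g⁻¹ ∈ E ∧ g * z * g⁻¹ ≠ z := by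
  by_contra! wc
  have n : C_[z] ≤ N_(K) := le_norm_iff.2 fun a ha k hk => (kc hK ha (l hk)).2 hk
  have c : ∀ g k : G, g * (k * z * k⁻¹) * g⁻¹ = g * k * z * (g * k)⁻¹ := fun g k => by group
  have F : Fam {x | ∃ g, g * z * g⁻¹ = x} (tr z E) (tr z K) := by
    refine ⟨?_, ?_, ?_, ?_, ?_, ?_, ?_, ?_, ?_⟩ <;> rintro _ ⟨k, rfl⟩
    · exact fun g => ⟨_, (c g k).symm⟩
    · rw [tr_eq h.norm]; exact h.cj k
    · intro g; rw [c, tr_eq h.norm, tr_eq h.norm, cj_cj]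
    · intro g; rw [c, tr_eq n, tr_eq n, cj_cj]
    · rw [tr_eq n, ← cj_cent1, relIndex_cj, hK]
    · rw [tr_eq n, tr_eq h.norm]; exact cj_mono k ek
    · rintro _ ⟨g, rfl⟩ m
      rw [tr_eq h.norm, mem_cj] at m
      have := wc (k⁻¹ * g) (by simpa [mul_assoc] using m)
      conv_rhs => rw [← this]
      group
    · rwa [tr_eq h.norm, card_cj]
    · rintro _ ⟨g, rfl⟩; rw [tr_eq h.norm, tr_eq h.norm, card_cj, card_cj]
  refine F.no (z := 1 * z * 1⁻¹) ⟨1, rfl⟩ hG ?_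
  rw [tr_eq n, ← cj_cent1]
  exact cj_mono 1 l

end H01.XS
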