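import Mathlib

/-!
# Finite facts on `S₆` (namespace `H01.XT`)

`outer`: an (outer) automorphism of `S₆` fixing `(23)(45)` and moving `(24)(35)` to `(01)(23)`; lists of involutions.
-/

set_option autoImplicit false
set_option linter.unusedSectionVars false
open Equiv

namespace H01.XT

abbrev P6 := Perm (Fin 6)
abbrev P3 := Perm (Fin 3)
abbrev sw (i j k l : Fin 6) : P6 := swap i j * swap k l
abbrev t1 : P6 := sw 2 3 4 5
abbrev t2 : P6 := sw 2 4 3 5
abbrev t3 : P6 := sw 0 1 2 3

def totN : Fin 6 → ℕ := ![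
 810441755304715813486355591544651834379566362252813650291758394667654746373576920884101285347265183464327729747940867610545656580261749019893785558068127942507985749102140744935249346363119814280,
 810441755304453487187154422270622511224116443485329804208574507893464563222092791256637006011264076566582406584772501964176814605114771718484307551294393877413832499832189656572052239344573269640,
 810441743763887181788687425035455256477976673164930665328305578481081320151868334313177296129693992840429445762471471841738223224104033673244974480866743792445840724151394950611986995100789425800,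
 810441736030780333563921841021174284940030587317641511115559557964575037357885560609214804809590654944375408860572648204096780309677903462090504047253966232962424670941423095081930926353191192200,
 810441743764429533916515423785808794529444126692657895755414487987070526557565868025346366318447960064514238236712828873610178551610686222737648382196401062552923850591788583764200561346724939400,
 810441736031060357616235371852607004556858469721926951948478147065484099228848543130026921336321343685110175379896595433925266472497565334275439196641059899793523446737223791689383374199487645320]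

def tot (m i j k : Fin 6) : Fin 6 := Fin.ofNat 6 (totN m / 8 ^ (36 * i.1 + 6 * j.1 + k.1) % 8)

def Rl (g h : P6) : Prop := ∀ m i j k, g (tot m i j k) = tot (h m) (g i) (g j) (g k)

instance (g h : P6) : Decidable (Rl g h) := by unfold Rl; infer_instance

theorem Rl.mul {g h g' h' : P6} (a : Rl g h) (b : Rl g' h') : Rl (g * g') (h * h') := fun m i j k => by
  simp only [Perm.mul_apply]; rw [b, a]

theorem tot_inj : ∀ m n : Fin 6, (∀ i j k, tot m i j k = tot n i j k) → m = n := by decide +kernel

theorem Rl.uniq {g h h' : P6} (a : Rl g h) (b : Rl g h') : h = h' := Equiv.ext fun m => tot_inj _ _ fun i j k => by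
  have := (a m (g⁻¹ i) (g⁻¹ j) (g⁻¹ k)).symm.trans (b m _ _ _)
  simpa using this

def im : Fin 5 → P6 := ![swap 0 1 * sw 2 3 4 5, swap 0 4 * sw 1 2 3 5, swap 0 1 * sw 2 5 3 4, swap 0 4 * sw 1 5 2 3,
  swap 0 1 * sw 2 4 3 5]

theorem rl_gen : ∀ i : Fin 5, Rl (swap i.castSucc i.succ) (im i) ∧ Rl (im i) (swap i.castSucc i.succ) ∧
    Perm.sign (im i) = -1 ∧ i.castSucc ≠ i.succ := by decide +kernel

theorem rl_t : Rl t1 t1 ∧ Rl t2 t3 ∧ Rl 1 1 := by decide +kernel

theorem rl_ex (g : P6) : (∃ h, Rl g h ∧ Perm.sign h = Perm.sign g) ∧ ∃ h, Rl h g := by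
  have : g ∈ Submonoid.closure (Set.range fun i : Fin 5 => swap i.castSucc i.succ) := by
    rw [Perm.mclosure_swap_castSucc_succ]; trivial
  induction this using Submonoid.closure_induction with
  | mem x hx =>
    obtain ⟨i, rfl⟩ := hx
    obtain ⟨a, b, c, d⟩ := rl_gen i
    exact ⟨⟨_, a, by rw [c, Perm.sign_swap d]⟩, _, b⟩
  | one => exact ⟨⟨1, rl_t.2.2, rfl⟩, 1, rl_t.2.2⟩
  | mul x y _ _ a b =>
    obtain ⟨⟨h, a, c⟩, k, d⟩ := a
    obtain ⟨⟨h', b, c'⟩, k', d'⟩ := b
    exact ⟨⟨_, a.mul b, by simp [c, c']⟩, _, d.mul d'⟩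

theorem outer : ∃ φ : P6 ≃* P6, (∀ g, Perm.sign (φ g) = Perm.sign g) ∧ φ t1 = t1 ∧ φ t2 = t3 := by
  choose f hf hs using fun g => (rl_ex g).1
  let ψ : P6 →* P6 := MonoidHom.mk' f fun a b => (hf _).uniq ((hf a).mul (hf b))
  have : Function.Surjective ψ := fun h => (rl_ex h).2.imp fun g k => (hf g).uniq k
  exact ⟨MulEquiv.ofBijective ψ (this.bijective_of_nat_card_le le_rfl), hs, (hf _).uniq rl_t.1, (hf _).uniq rl_t.2.1⟩

/-- involutions (and `1`) of the stabiliser of `{0,1}` in `A₆` -/
def I : List P6 := [1, t1, t2, sw 2 5 3 4, t3, sw 0 1 2 4, sw 0 1 2 5, sw 0 1 3 4, sw 0 1 3 5, sw 0 1 4 5]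

theorem I_spec : ∀ i ∈ I, Perm.sign i = 1 ∧ i * i = 1 ∧ ∀ x ∈ [t1, t2], i * x * i ∈ [t1, t2, t1 * t2] := by decide +kernel

theorem S_prod : ∀ g : P6, (g 0 = 0 ∧ g 1 = 1 ∨ g 0 = 1 ∧ g 1 = 0) → Perm.sign g = 1 → ∃ i ∈ I, ∃ j ∈ I, g = i * j := by
  decide +kernel

theorem cent_t1 : ∀ k : P6, k * t1 = t1 * k → k * k = 1 → k = 1 ∨ k = t1 ∨ k = t2 ∨ k = t1 * t2 ∨ k = t3 ∨ k = t1 * t3 ∨
    k = swap 0 1 ∨ k = t1 * swap 0 1 ∨ k = swap 2 3 ∨ k = t1 * swap 2 3 ∨ k = swap 0 1 * t2 ∨ k = t1 * (swap 0 1 * t2) := by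
  decide +kernel

theorem dc : ∀ i j : Fin 6, i ≠ j → ∃ s ∈ I, ∃ k ∈ [1, sw 0 2 1 3, sw 1 2 3 4],
    (i = (s * k) 0 ∧ j = (s * k) 1) ∨ (i = (s * k) 1 ∧ j = (s * k) 0) := by decide +kernel

theorem conj_t1 {k : P6} (h : k * k = 1) (n : k ≠ 1) (s : Perm.sign k = 1) : IsConj t1 k := by
  have e := Perm.cycleType_of_pow_prime_eq_one (p := 2) ((pow_two k).trans h)
  have e1 : t1.cycleType = Multiset.replicate 2 2 := by decide +kernel
  rw [Perm.isConj_iff_cycleType_eq, e1, e]
  have b := Perm.sum_cycleType_le k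
  have c := Perm.sign_of_cycleType k
  have d : k.cycleType.card ≠ 0 := fun z => n (Perm.cycleType_eq_zero.1 (Multiset.card_eq_zero.1 z))
  generalize k.cycleType.card = n at *
  rw [e] at b c
  simp only [Multiset.sum_replicate, smul_eq_mul, Fintype.card_fin] at b c
  rw [s] at c
  have : n ≤ 3 := by omega
  interval_cases n <;> first | rfl | exact absurd rfl d | exact absurd c (by decide)

end H01.XT
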