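import Mathlib

/-!
# Quadratic spaces of order 256 over `𝔽₂` (namespace `H01.XT`)

`lc` (linear combinations in characteristic 2), `ex U v` (adjoining a vector), `QS` (non-degenerate quadratic form on a
group of order 256), `QS.iso16` (isotropic subgroups have order at most 16), `QS.fpf`.
-/

set_option autoImplicit false
set_option linter.unusedSectionVars false

namespace H01.XT
universe u
variable {V : Type u} [AddCommGroup V] [Module (ZMod 2) V] [Finite V] {U W : AddSubgroup V} {u v w : V}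

omit [Finite V] in
theorem lc {x y a b : V} (h : a = b)
    (k : (1 : ZMod 2) • (x + a) = (1 : ZMod 2) • (y + b) := by match_scalars <;> decide) : x = y := by
  subst h; simpa using k

omit [Finite V] in
theorem lc0 {x y : V} (k : (1 : ZMod 2) • x = (1 : ZMod 2) • y := by match_scalars <;> decide) : x = y := by
  simpa using k

theorem z2 : ∀ x : ZMod 2, x = 0 ∨ x = 1 := by decide
theorem z2' : ∀ x : ZMod 2, x ≠ 0 → x = 1 := by decide

def ex (U : AddSubgroup V) (v : V) : AddSubgroup V where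
  carrier := {x | x ∈ U ∨ x + v ∈ U}
  zero_mem' := .inl U.zero_mem
  add_mem' := by
    rintro x y (a | a) (b | b)
    · exact .inl (U.add_mem a b)
    · exact .inr (by rw [add_assoc]; exact U.add_mem a b)
    · exact .inr (by rw [add_right_comm]; exact U.add_mem a b)
    · exact .inl (by rw [show x + y = x + v + (y + v) from lc0]; exact U.add_mem a b)
  neg_mem' := by intro x; rw [show -x = x from lc0]; exact id

theorem mem_ex : w ∈ ex U v ↔ w ∈ U ∨ w + v ∈ U := Iff.rfl
theorem le_ex : U ≤ ex U v := fun _ => .inl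
theorem self_ex : v ∈ ex U v := .inr (by rw [show v + v = 0 from lc0]; exact U.zero_mem)
theorem ex_le (l : U ≤ W) (m : v ∈ W) : ex U v ≤ W := by
  rintro x (a | a)
  · exact l a
  · rw [show x = x + v + v from lc0]; exact W.add_mem (l a) m

omit [Module (ZMod 2) V] in
theorem grow (l : U ≤ W) (m : v ∈ W) (n : v ∉ U) : 2 * Nat.card U ≤ Nat.card W := by
  obtain ⟨k, e⟩ := AddSubgroup.card_dvd_of_le l
  have p : 0 < Nat.card W := Nat.card_pos
  have : k ≠ 1 := fun f => n (AddSubgroup.eq_of_le_of_card_ge l (by rw [e, f, mul_one]) ▸ m)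
  have : k ≠ 0 := fun f => by simp [f] at e; omega
  rw [e, mul_comm]; exact Nat.mul_le_mul_left _ (by omega)

theorem card_ex (n : v ∉ U) : 2 * Nat.card U ≤ Nat.card (ex U v) := grow le_ex self_ex n

theorem card_ex_le : Nat.card (ex U v) ≤ 2 * Nat.card U := by
  have : Function.Surjective fun p : Bool × U => (⟨if p.1 then p.2 else p.2 + v, by
      split_ifs
      · exact le_ex p.2.2
      · exact add_mem (le_ex p.2.2) self_ex⟩ : ex U v) := by
    rintro ⟨x, a | a⟩
    · exact ⟨(true, ⟨x, a⟩), rfl⟩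
    · exact ⟨(false, ⟨_, a⟩), Subtype.ext (show x + v + v = x from lc0)⟩
  simpa using Nat.card_le_card_of_surjective _ this

omit [Module (ZMod 2) V] in
theorem cnt (p : ℕ) [Fact p.Prime] (f : V → V) (hf : ∀ v, f^[p] v = v) (s : Set V) (h0 : 0 ∈ s) (f0 : f 0 = 0)
    (hs : ∀ v ∈ s, f v ∈ s) (h1 : ∀ v ∈ s, f v = v → v = 0) : Nat.card s ≡ 1 [MOD p] := by
  classical
  have := Fintype.ofFinite s
  let g : Function.End s := fun x => ⟨f x, hs _ x.2⟩
  have e : ∀ n x, ((g ^ n) x : V) = f^[n] x := fun n => by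
    induction n with
    | zero => exact fun _ => rfl
    | succ n i => exact fun x => by rw [pow_succ]; exact i (g x)
  have := Equiv.Perm.card_fixedPoints_modEq (f := g) (p := p) (n := 1) (funext fun x => Subtype.ext (by
    rw [pow_one, e, hf]; rfl))
  rw [← Nat.card_eq_fintype_card, ← Nat.card_eq_fintype_card, (Nat.card_eq_one_iff_exists (α := Function.fixedPoints g)).2
    ⟨⟨⟨0, h0⟩, Subtype.ext f0⟩, fun y => Subtype.ext (Subtype.ext (h1 _ y.1.2 (congrArg Subtype.val y.2)))⟩] at this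
  exact this

structure QS (β : V →+ V →+ ZMod 2) (q : V → ZMod 2) : Prop where
  card : Nat.card V = 256
  pol : ∀ u v, q (u + v) = q u + q v + β u v
  nd : ∀ u, (∀ v, β u v = 0) → u = 0

namespace QS
variable {β : V →+ V →+ ZMod 2} {q : V → ZMod 2} (h : QS β q)
include h

theorem q0 : q 0 = 0 := by
  have := h.pol 0 0
  simp only [add_zero, map_zero] at this
  exact lc this
theorem sym (u v : V) : β u v = β v u := by
  have := h.pol u v
  rw [add_comm, h.pol] at this
  exact lc this
theorem alt (v : V) : β v v = 0 := by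
  have := h.pol v v
  rw [show v + v = 0 from lc0, h.q0] at this
  exact lc this
theorem inv {f : V →+ V} (k : ∀ v, q (f v) = q v) (u v : V) : β (f u) (f v) = β u v := by
  have := h.pol (f u) (f v)
  rw [← map_add, k, k, k, h.pol] at this
  exact lc this

theorem iso16 (k : ∀ u ∈ U, ∀ v ∈ U, β u v = 0) : Nat.card U ≤ 16 := by
  let B : LinearMap.BilinForm (ZMod 2) V := LinearMap.mk₂ (ZMod 2) (fun u v => β u v) (by simp)
    (fun c u v => ZMod.map_smul (β.flip v) c u) (by simp) fun c u v => ZMod.map_smul (β u) c v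
  let S := AddSubgroup.toZModSubmodule 2 U
  have l : S ≤ B.orthogonal S := fun u hu v hv => k v hv u hu
  have a := Submodule.finrank_mono l
  rw [LinearMap.BilinForm.finrank_orthogonal (B := B)
    ⟨fun u m => h.nd u m, fun u m => h.nd u fun v => (h.sym _ _).trans (m v)⟩] at a
  have b := Module.natCard_eq_pow_finrank (K := ZMod 2) (V := V)
  have c : Nat.card U = _ := Module.natCard_eq_pow_finrank (K := ZMod 2) (V := S)
  rw [h.card, Nat.card_zmod] at b
  have d : Module.finrank (ZMod 2) V = 8 := (Nat.pow_right_injective le_rfl (b.symm.trans (by norm_num : 256 = 2 ^ 8)))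
  rw [c, Nat.card_zmod]
  exact Nat.pow_le_pow_right (i := Module.finrank (ZMod 2) S) (j := 4) two_pos (by omega)

theorem perp (k : ∀ u ∈ U, ∀ v ∈ U, β u v = 0) (c : 8 < Nat.card U) (m : ∀ u ∈ U, β w u = 0) : w ∈ U := by
  by_contra n
  have k' : ∀ v ∈ ex U w, ∀ u ∈ U, β v u = 0 := by
    rintro v (a | a) u hu
    · exact k v a u hu
    · have := k _ a u hu
      rwa [map_add, AddMonoidHom.add_apply, m u hu, add_zero] at this
  have := h.iso16 (U := ex U w) (by
    rintro v a u (b | b)
    · exact k' v a u b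
    · have := k' v a _ b
      rw [map_add, h.sym v w] at this
      rcases a with a | a
      · rwa [m v a, add_zero] at this
      · have e := m _ a
        rw [map_add, h.alt, add_zero] at e
        rwa [e, add_zero] at this)
  have := card_ex n
  omega

theorem fpf {ω Y : V →+ V} (hω : ∀ v, ω (ω (ω v)) = v) (hY : ∀ v, Y (Y (Y (Y (Y v)))) = v) (c : ∀ v, ω (Y v) = Y (ω v))
    (qω : ∀ v, q (ω v) = q v) (qY : ∀ v, q (Y v) = q v) (hu : u + ω u + ω (ω u) = 0) (n : Y u ≠ u) (v : V) :
    v + ω v + ω (ω v) = 0 := by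
  have : Fact (Nat.Prime 5) := ⟨by norm_num⟩
  let U : AddSubgroup V := (AddMonoidHom.id V + ω + ω.comp ω).ker ⊓
    (AddMonoidHom.id V + Y + Y.comp Y + Y.comp (Y.comp Y) + Y.comp (Y.comp (Y.comp Y))).ker
  have mU : ∀ v, v ∈ U ↔ v + ω v + ω (ω v) = 0 ∧ v + Y v + Y (Y v) + Y (Y (Y v)) + Y (Y (Y (Y v))) = 0 := fun _ => Iff.rfl
  have uω : ∀ v ∈ U, ω v ∈ U := fun v m => (mU _).2 ⟨by simpa using congrArg ω ((mU _).1 m).1, by
    simpa [c] using congrArg ω ((mU _).1 m).2⟩
  have uY : ∀ v ∈ U, Y v ∈ U := fun v m => (mU _).2 ⟨by simpa [c] using congrArg Y ((mU _).1 m).1, by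
    simpa using congrArg Y ((mU _).1 m).2⟩
  have fω : ∀ v ∈ U, ω v = v → v = 0 := fun v m e => by
    have := ((mU _).1 m).1
    rw [e, e] at this; exact lc this
  have fY : ∀ v ∈ U, Y v = v → v = 0 := fun v m e => by
    have := ((mU _).1 m).2
    rw [e, e, e, e] at this; exact lc this
  have c3 := cnt 3 ω hω U U.zero_mem ω.map_zero uω fω
  have c5 := cnt 5 Y hY U U.zero_mem Y.map_zero uY fY
  have d3 := cnt 3 ω hω {v | v ∈ U ∧ q v = 0} ⟨U.zero_mem, h.q0⟩ ω.map_zero (fun v m => ⟨uω v m.1, (qω v).trans m.2⟩)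
    fun v m => fω v m.1
  have d5 := cnt 5 Y hY {v | v ∈ U ∧ q v = 0} ⟨U.zero_mem, h.q0⟩ Y.map_zero (fun v m => ⟨uY v m.1, (qY v).trans m.2⟩)
    fun v m => fY v m.1
  have m1 : u + Y u ∈ U := (mU _).2 ⟨by
    have := congrArg Y hu
    simp only [map_add, map_zero, c] at this ⊢
    exact lc congr($hu + $this), by simp only [map_add, hY]; exact lc0⟩
  have n1 : u + Y u ≠ 0 := fun e => n (lc e)
  generalize u + Y u = x at m1 n1
  have dv : Nat.card U ∣ 2 ^ 8 := by have := U.card_addSubgroup_dvd_card; rwa [h.card] at this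
  have g2 := grow (U := ⊥) bot_le m1 n1
  obtain ⟨k, hk, e⟩ := (Nat.dvd_prime_pow Nat.prime_two).1 dv
  simp only [SetLike.coe_sort_coe, Nat.ModEq, AddSubgroup.card_bot] at c3 c5 d3 d5 g2
  have : Nat.card U = 16 ∨ Nat.card U = 256 := by
    interval_cases k <;> omega
  rcases this with e | e
  swap
  · have : U = ⊤ := AddSubgroup.eq_top_of_card_eq _ (e.trans h.card.symm)
    exact ((mU v).1 (this ▸ trivial)).1
  exfalso
  have s : {v | v ∈ U ∧ q v = 0} ⊆ (U : Set V) := fun _ m => m.1
  have le : Nat.card {v | v ∈ U ∧ q v = 0} ≤ Nat.card U := Nat.card_mono (Set.toFinite _) s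
  have : Nat.card {v | v ∈ U ∧ q v = 0} = 1 ∨ Nat.card U ≤ Nat.card {v | v ∈ U ∧ q v = 0} := by omega
  rcases this with f | f
  · obtain ⟨y, hy⟩ := Nat.card_eq_one_iff_exists.1 f
    have q1 : ∀ v ∈ U, v ≠ 0 → q v = 1 := fun v m n => z2' _ fun z =>
      n (congrArg Subtype.val ((hy ⟨v, m, z⟩).trans (hy ⟨0, U.zero_mem, h.q0⟩).symm))
    have b1 : ∀ v ∈ U, v ∉ ex ⊥ x → β x v = 1 := fun v m n => by
      have := h.pol x v
      rw [q1 x m1 n1, q1 v m fun e => n (.inl e), q1 _ (add_mem m1 m) fun e => n (.inr ((add_comm _ _).trans e))] at this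
      exact lc this
    have nx : ω x ∉ ex ⊥ x := by
      rintro (e | e)
      · exact n1 (by rw [← hω x, show ω x = 0 from e]; simp)
      · exact n1 (fω x m1 (lc (show ω x + x = 0 from e)))
    have : U ≤ ex (ex ⊥ x) (ω x) := fun v m => by
      by_contra k
      have a := b1 _ (add_mem m (uω x m1)) fun e => k (.inr e)
      rw [map_add, b1 v m fun e => k (.inl e), b1 _ (uω x m1) nx] at a
      exact absurd a (by decide)
    have a := AddSubgroup.card_le_of_le this
    have b := card_ex_le (U := ex ⊥ x) (v := ω x)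
    have c := card_ex_le (U := ⊥) (v := x)
    rw [AddSubgroup.card_bot] at c
    omega
  · have f := Set.eq_of_subset_of_ncard_le s f
    have q1 : ∀ v ∈ U, q v = 0 := fun v m => (show v ∈ {v | v ∈ U ∧ q v = 0} from f ▸ m).2
    refine n1 (h.nd x fun v => ?_)
    have aω : ∀ u v, β u (ω v) = β (ω (ω u)) v := fun u v => by rw [← h.inv qω (ω (ω u)), hω]
    have aY : ∀ u v, β u (Y v) = β (Y (Y (Y (Y u)))) v := fun u v => by rw [← h.inv qY (Y (Y (Y (Y u)))), hY]
    obtain ⟨w, hw⟩ : ∃ w, w = ω v + ω (ω v) := ⟨_, rfl⟩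
    have w0 : w + ω w + ω (ω w) = 0 := by simp only [hw, map_add, hω]; exact lc0
    have m : Y w + Y (Y w) + Y (Y (Y w)) + Y (Y (Y (Y w))) ∈ U := by
      refine (mU _).2 ⟨?_, by simp only [map_add, hY]; exact lc0⟩
      have a1 := congrArg Y w0
      have a2 := congrArg Y a1
      have a3 := congrArg Y a2
      have a4 := congrArg Y a3
      simp only [map_add, map_zero, c] at a1 a2 a3 a4 ⊢
      exact lc congr($a1 + $a2 + $a3 + $a4)
    have a := h.pol x (Y w + Y (Y w) + Y (Y (Y w)) + Y (Y (Y (Y w))))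
    rw [q1 _ m, q1 _ m1, q1 _ (add_mem m1 m)] at a
    have b := congrArg (β · w) ((mU x).1 m1).2
    have c := congrArg (β · v) ((mU x).1 m1).1
    have d : β x w = β x (ω v) + β x (ω (ω v)) := by rw [hw, map_add]
    simp only [map_add, aY, aω, hY, hω, AddMonoidHom.add_apply, map_zero, AddMonoidHom.zero_apply] at a b c d
    exact lc congr($a + $b + $c + $d)

end QS
end H01.XT
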