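import Mathlib
import Cfsg.Agent.H01.XT1
import Cfsg.Agent.H01.XT2

/-!
# The module `Q/Z(Q)` for `2^{1+8}.(S₃ × A₆)`, part 1 (namespace `H01.XT`)

`Hy`: hypotheses coming from a conjugate `a` of the central involution; `Hy.fp` (the element of order 3 of the first
factor acts without fixed points), `Hy.main` (structure of `R` and of `X ∩ S₆`).
-/

set_option autoImplicit false
set_option linter.unusedSectionVars false
open Equiv

namespace H01.XT
universe u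
variable {V : Type u} [AddCommGroup V] [Module (ZMod 2) V] [Finite V]

abbrev P := P3 × P6
def d : P := (finRotate 3, 1)

structure Hy (T : P → V →+ V) (Γ X : Subgroup P) (β : V →+ V →+ ZMod 2) (q : V → ZMod 2) (a : V) (R : AddSubgroup V) :
    Prop extends QS β q where
  ev : ∀ σ τ, Perm.sign σ = 1 → Perm.sign τ = 1 → (σ, τ) ∈ Γ
  one : ∀ v, T 1 v = v
  mul : ∀ x ∈ Γ, ∀ y ∈ Γ, ∀ v, T (x * y) v = T x (T y v)
  fai : ∀ x ∈ Γ, (∀ v, T x v = v) → x = 1
  qT : ∀ x ∈ Γ, ∀ v, q (T x v) = q v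
  a0 : a ≠ 0
  qa : q a = 0
  aR : a ∈ R
  iso : ∀ u ∈ R, ∀ v ∈ R, β u v = 0
  XΓ : X ≤ Γ
  X2 : ∀ x ∈ X, x * x = 1
  Xa : ∀ x ∈ X, T x a = a
  Xp : ∀ x ∈ X, ∀ v, β a v = 0 → v + T x v ∈ R
  XR : ∀ x ∈ X, ∀ r ∈ R, T x r = r ∨ T x r = r + a
  Xe : ∀ x ∈ X, ∀ e, β a e = 1 → e + T x e ∈ R → x = 1
  cX : Nat.card X * Nat.card R = 128
  st : ∀ g ∈ Γ, T g a = a → (∀ x ∈ X, g * x * g⁻¹ ∈ X) ∧ ∀ r ∈ R, T g r ∈ R

theorem p3a : ∀ s : P3, s * s = 1 → finRotate 3 * s * (finRotate 3)⁻¹ * s * (finRotate 3 * s * (finRotate 3)⁻¹ * s) = 1 →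
    s = 1 := by decide

namespace Hy
variable {T : P → V →+ V} {Γ X : Subgroup P} {β : V →+ V →+ ZMod 2} {q : V → ZMod 2} {a u v w : V} {R : AddSubgroup V}
  {x y g x1 x2 : P} {k : P6} (h : Hy T Γ X β q a R)
include h

theorem mem (s : Perm.sign k = 1) : ((1 : P3), k) ∈ Γ := h.ev _ _ (by simp) s
theorem dΓ : d ∈ Γ := h.ev _ _ (by decide) (by simp)
theorem li (hx : x ∈ Γ) (v : V) : T x⁻¹ (T x v) = v := by rw [← h.mul _ (inv_mem hx) _ hx, inv_mul_cancel, h.one]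
theorem ri (hx : x ∈ Γ) (v : V) : T x (T x⁻¹ v) = v := by rw [← h.mul _ hx _ (inv_mem hx), mul_inv_cancel, h.one]
theorem inj (hx : x ∈ Γ) (e : T x u = T x v) : u = v := by rw [← h.li hx u, e, h.li hx]
theorem nz (hx : x ∈ Γ) (n : v ≠ 0) : T x v ≠ 0 := fun e => n (h.inj hx (e.trans (map_zero _).symm))
theorem βT (hx : x ∈ Γ) (u v : V) : β (T x u) (T x v) = β u v := h.inv (h.qT x hx) u v
theorem ω3 (v : V) : T d (T d (T d v)) = v := by
  rw [← h.mul _ h.dΓ _ h.dΓ, ← h.mul _ (mul_mem h.dΓ h.dΓ) _ h.dΓ, show d * d * d = 1 by decide, h.one]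
theorem cω (hx : x ∈ Γ) (e : x.1 = 1) (v : V) : T x (T d v) = T d (T x v) := by
  rw [← h.mul _ hx _ h.dΓ, ← h.mul _ h.dΓ _ hx, show x * d = d * x from Prod.ext (by simp [e]) (by simp [d])]
theorem aω (u v : V) : β u (T d v) = β (T d (T d u)) v := by rw [← h.βT h.dΓ (T d (T d u)), h.ω3]
theorem xx (hx : x ∈ X) (v : V) : T x (T x v) = v := by rw [← h.mul _ (h.XΓ hx) _ (h.XΓ hx), h.X2 x hx, h.one]
theorem fx (hx : x ∈ Γ) (e : T x u = u) (v : V) : β u (v + T x v) = 0 := by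
  rw [map_add, ← h.βT hx u v, e]; exact lc0

theorem hω : T d a ≠ a := fun e => by
  have x1 : ∀ x ∈ X, x.1 = 1 := fun x hx => p3a _ (congrArg Prod.fst (h.X2 x hx))
    (congrArg Prod.fst (h.X2 _ (mul_mem ((h.st d h.dΓ e).1 x hx) hx)))
  have ba : ∀ v, β a (T d v) = β a v := fun v => by rw [← h.βT h.dΓ a v, e]
  obtain ⟨e0, he⟩ := not_forall.1 (mt (h.nd a) h.a0)
  obtain ⟨c, hc⟩ : ∃ c, c = e0 + T d e0 + T d (T d e0) := ⟨_, rfl⟩
  have c1 : β a c = 1 := by simp only [hc, map_add, ba, z2' _ he]; rfl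
  have c2 : T d c = c := by simp only [hc, map_add, h.ω3]; exact lc0
  let f : X × R → (β a).ker := fun p => ⟨c + T p.1 c + p.2, by
    rw [AddMonoidHom.mem_ker, map_add, h.fx (h.XΓ p.1.2) (h.Xa _ p.1.2), h.iso a h.aR _ p.2.2, add_zero]⟩
  have fi : Function.Injective f := by
    rintro ⟨⟨x, hx⟩, r, hr⟩ ⟨⟨y, hy⟩, s, hs⟩ k
    have k : c + T x c + r = c + T y c + s := congrArg Subtype.val k
    have m := (h.st x (h.XΓ hx) (h.Xa x hx)).2 _ (add_mem hr hs)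
    rw [show r + s = T x c + T y c from lc k, map_add, h.xx hx, ← h.mul _ (h.XΓ hx) _ (h.XΓ hy)] at m
    obtain rfl : x = y := mul_left_cancel ((h.X2 x hx).trans (h.Xe _ (mul_mem hx hy) c c1 m).symm)
    obtain rfl : r = s := lc k
    rfl
  have g := grow (U := (β a).ker) (W := ⊤) le_top trivial (v := c) (by simp [AddMonoidHom.mem_ker, c1])
  rw [AddSubgroup.card_top, h.card] at g
  have fs := (fi.bijective_of_nat_card_le (by rw [Nat.card_prod, h.cX]; omega)).2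
  have m : ∀ v, T d v + T d (T d v) ∈ R := fun v => by
    obtain ⟨⟨⟨x, hx⟩, r, hr⟩, k⟩ := fs ⟨T d v + T d (T d v), by simp only [AddMonoidHom.mem_ker, map_add, ba]; exact lc0⟩
    have k : c + T x c + r = T d v + T d (T d v) := congrArg Subtype.val k
    have k1 := congrArg (T d) k
    have k2 := congrArg (T d) k1
    simp only [map_add, ← h.cω (h.XΓ hx) (x1 x hx), c2, h.ω3] at k1 k2
    rw [show T d v + T d (T d v) = T d r + T d (T d r) from lc congr($k1 + $k2)]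
    have := (h.st d h.dΓ e).2
    exact add_mem (this _ hr) (this _ (this _ hr))
  refine absurd (h.fai d h.dΓ fun v => h.inj h.dΓ (lc (h.nd (T d v + T d (T d v)) fun w => ?_))) (by decide)
  have := h.iso _ (m v) _ (m w)
  simp only [map_add, h.aω, h.ω3, AddMonoidHom.add_apply] at this ⊢
  exact lc this

theorem v0 : ∃ v, β a v = 0 ∧ β a (T d v) = 1 := by
  have : a + T d (T d a) ≠ 0 := fun e => h.hω (by
    have := congrArg (T d) e
    simp only [map_add, h.ω3, map_zero] at this; exact lc this)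
  obtain ⟨v, n⟩ := not_forall.1 (mt (h.nd _) this)
  rw [map_add, AddMonoidHom.add_apply, ← h.aω] at n
  rcases z2 (β a v) with e | e <;> rcases z2 (β a (T d v)) with f | f
  · simp [e, f] at n
  · exact ⟨v, e, f⟩
  · rcases z2 (β a (T d (T d v))) with g | g
    · exact ⟨_, g, by rw [h.ω3, e]⟩
    · exact ⟨_, f, g⟩
  · rw [e, f] at n; exact absurd rfl n

theorem wn (hv : β a (T d v) = 1) (hx : x ∈ X) (e : x.1 = 1) (m : T d (v + T x v) ∈ R) : x = 1 :=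
  h.Xe x hx _ hv (by rwa [map_add, ← h.cω (h.XΓ hx) e] at m)

theorem y5 (s : Perm.sign k = 1) (e : k * (k * (k * (k * k))) = 1) (hu : u + T d u + T d (T d u) = 0)
    (n : T (1, k) u ≠ u) (v : V) : v + T d v + T d (T d v) = 0 := by
  have m := h.mem s
  refine h.fpf h.ω3 (fun v => ?_) (fun v => (h.cω m rfl v).symm) (h.qT _ h.dΓ) (h.qT _ m) hu n v
  rw [← h.mul _ m _ m (T _ (T _ v)), ← h.mul _ m _ m v, ← h.mul _ (mul_mem m m) _ (mul_mem m m),
    ← h.mul _ m _ (mul_mem (mul_mem m m) (mul_mem m m)),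
    show ((1 : P3), k) * ((1, k) * (1, k) * ((1, k) * (1, k))) = 1 from Prod.ext (by simp) (by simpa [mul_assoc] using e), h.one]

theorem fp (hx : ((1 : P3), t1) ∈ X) (v : V) : v + T d v + T d (T d v) = 0 := by
  obtain ⟨w, w0, w1⟩ := h.v0
  have hu : T d w + T d (T d w) + T d (T d w + T d (T d w)) + T d (T d (T d w + T d (T d w))) = 0 := by
    simp only [map_add, h.ω3]; exact lc0
  by_contra n
  have e1 := not_not.1 (mt (h.y5 (k := sw 1 5 1 3 * sw 1 4 1 2) (by decide) (by decide) hu · v) n)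
  have e2 := not_not.1 (mt (h.y5 (k := sw 1 3 1 4 * sw 1 2 1 5) (by decide) (by decide) hu · v) n)
  have e : T (1, t1) (T d w + T d (T d w)) = T d w + T d (T d w) := by
    rw [show ((1 : P3), t1) = (1, sw 1 5 1 3 * sw 1 4 1 2) * (1, sw 1 3 1 4 * sw 1 2 1 5) by decide,
      h.mul _ (h.mem (by decide)) _ (h.mem (by decide)), e2, e1]
  refine absurd (h.wn w1 hx rfl ?_) (by decide)
  have := congrArg (T d) (congrArg (T d) e)
  simp only [map_add, h.cω (h.XΓ hx) rfl, h.ω3] at this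
  rw [show T d (w + T (1, t1) w) = w + T (1, t1) w by rw [map_add]; exact lc this]
  exact h.Xp _ hx _ w0

end Hy

abbrev NN (T : P → V →+ V) (a : V) : AddSubgroup V := ex (ex ⊥ a) (T d a)

theorem mem_NN {T : P → V →+ V} {a v : V} : v ∈ NN T a ↔ v = 0 ∨ v = a ∨ v = T d a ∨ v = T d a + a := by
  simp only [mem_ex, AddSubgroup.mem_bot, or_assoc]
  exact or_congr_right (or_congr ⟨fun e => lc e, fun e => lc e⟩ (or_congr ⟨fun e => lc e, fun e => lc e⟩
    ⟨fun e => lc e, fun e => lc e⟩))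

namespace Hy
variable {T : P → V →+ V} {Γ X : Subgroup P} {β : V →+ V →+ ZMod 2} {q : V → ZMod 2} {a u v w : V} {R : AddSubgroup V}
  {x y g x1 x2 : P} {k : P6} (h : Hy T Γ X β q a R) (hf : ∀ v, v + T d v + T d (T d v) = 0)
include h hf

omit h in
theorem ω2 (v : V) : T d (T d v) = T d v + v := lc (hf v)

omit h in
theorem c4 {U : AddSubgroup V} (n : v ≠ 0) (nω : T d v ≠ 0) (m : v ∈ U) (m' : T d v ∈ U) : 4 ≤ Nat.card U := by
  have a1 := card_ex (U := ⊥) n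
  have a2 := grow (ex_le bot_le m) m' (by
    rintro (e | e)
    · exact nω e
    · have e : T d v = v := lc (show T d v + v = 0 from e)
      have := hf v
      rw [e, e] at this; exact n (lc this))
  rw [AddSubgroup.card_bot] at a1
  omega

theorem NP (k : ∀ u, β a u = 0 → β (T d a) u = 0 → β w u = 0) : w ∈ NN T a := by
  obtain ⟨v0, a0, a1⟩ := h.v0
  have b0 : β (T d a) v0 = 1 := by
    rw [h.aω, ω2 hf, map_add, AddMonoidHom.add_apply, a0, add_zero] at a1; exact a1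
  have b1 : β (T d a) (T d v0) = 0 := by rw [h.βT h.dΓ, a0]
  have sm : ∀ (u : V) (c : ZMod 2) v, β u (c • v) = c * β u v := fun u c v => ZMod.map_smul (β u) c v
  have sm' : ∀ (u : V) (c : ZMod 2) v, β (c • u) v = c * β u v := fun u c v => ZMod.map_smul (β.flip v) c u
  have := h.nd (w + β w (T d v0) • a + β w v0 • T d a) fun v => by
    have := k (v + β a v • T d v0 + β (T d a) v • v0) (by simp only [map_add, sm, a0, a1, mul_one, mul_zero]; exact lc0)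
      (by simp only [map_add, sm, b0, b1, mul_one, mul_zero]; exact lc0)
    simp only [map_add, sm, sm', AddMonoidHom.add_apply] at this ⊢
    rw [mul_comm, mul_comm (β w v0)]; exact this
  rw [mem_NN]
  rcases z2 (β w (T d v0)) with e | e <;> rcases z2 (β w v0) with f | f <;> rw [e, f] at this
  exacts [.inl (lc this), .inr (.inr (.inl (lc this))), .inr (.inl (lc this)), .inr (.inr (.inr (lc this)))]

theorem Np (hx : x ∈ X) (e : x.1 = 1) (a0 : β a u = 0) (a1 : β (T d a) u = 0) : u + T x u ∈ R ⊓ R.comap (T d) :=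
  ⟨h.Xp x hx u a0, by
    show T d _ ∈ R
    rw [map_add, ← h.cω (h.XΓ hx) e]
    exact h.Xp x hx _ (by rw [h.aω, ω2 hf, map_add, AddMonoidHom.add_apply, a0, a1, add_zero])⟩

theorem NQ (hx : x ∈ X) (k : ∀ u, β a u = 0 → β (T d a) u = 0 → T x u = u) (v : V) : v + T x v ∈ NN T a :=
  h.NP hf fun u a0 a1 => (h.sym _ _).trans (h.fx (h.XΓ hx) (k u a0 a1) v)

theorem main (m1 : x1 ∈ X) (m2 : x2 ∈ X) (e1 : x1.1 = 1) (e2 : x2.1 = 1) (n1 : x1 ≠ 1) (n2 : x2 ≠ 1) (n3 : x1 * x2 ≠ 1) :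
    T d a ∈ R ∧ Nat.card R = 16 ∧ (∀ x ∈ X, x.1 = 1 → x = 1 ∨ x = x1 ∨ x = x2 ∨ x = x1 * x2) ∧
      ∀ v, T x1 v = v → T x2 v = v → v ∈ NN T a := by
  obtain ⟨v0, a0, a1⟩ := h.v0
  obtain ⟨R0, hR⟩ : ∃ R0, R0 = R ⊓ R.comap (T d) := ⟨_, rfl⟩
  have mR : ∀ v, v ∈ R0 ↔ v ∈ R ∧ T d v ∈ R := fun v => hR ▸ Iff.rfl
  have Rω : ∀ v ∈ R0, T d v ∈ R0 := fun v m => (mR _).2 ⟨((mR _).1 m).2, by
    rw [ω2 hf]; exact add_mem ((mR _).1 m).2 ((mR _).1 m).1⟩
  have wR : ∀ x ∈ X, v0 + T x v0 ∈ R := fun x hx => h.Xp x hx _ a0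
  have wn : ∀ x ∈ X, x.1 = 1 → v0 + T x v0 ∈ R0 → x = 1 := fun x hx e m => h.wn a1 hx e ((mR _).1 m).2
  have wm : ∀ x ∈ X, ∀ y ∈ X, v0 + T (x * y) v0 = v0 + T x v0 + T x (v0 + T y v0) := fun x hx y hy => by
    rw [h.mul _ (h.XΓ hx) _ (h.XΓ hy), map_add]; exact lc0
  have e3 : (x1 * x2).1 = 1 := by simp [e1, e2]
  have w12 : v0 + T x2 v0 + (v0 + T x1 v0) ∉ R0 := fun m => by
    refine n3 (wn _ (mul_mem m1 m2) e3 ?_)
    rw [wm _ m1 _ m2]
    rcases h.XR _ m1 _ (wR _ m2) with e | e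
    · rw [e, add_comm]; exact m
    · have : T x1 (v0 + T x2 v0 + (v0 + T x1 v0)) ∈ R0 := (mR _).2 ⟨(h.st _ (h.XΓ m1) (h.Xa _ m1)).2 _ ((mR _).1 m).1, by
        rw [← h.cω (h.XΓ m1) e1]; exact (h.st _ (h.XΓ m1) (h.Xa _ m1)).2 _ ((mR _).1 m).2⟩
      rwa [map_add, map_add (T x1) v0 (T x1 v0), h.xx m1, add_comm, add_comm _ v0] at this
  obtain ⟨U, hU⟩ : ∃ U, U = ex (ex R0 (v0 + T x1 v0)) (v0 + T x2 v0) := ⟨_, rfl⟩
  have l0 : R0 ≤ R := hR ▸ inf_le_left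
  have UR : U ≤ R := hU ▸ ex_le (ex_le l0 (wR _ m1)) (wR _ m2)
  have cU : 4 * Nat.card R0 ≤ Nat.card U := by
    have a := card_ex (mt (wn _ m1 e1) n1)
    have b := card_ex (U := ex R0 (v0 + T x1 v0)) (v := v0 + T x2 v0) (not_or.2 ⟨mt (wn _ m2 e2) n2, w12⟩)
    rw [hU]; omega
  have c16 := h.iso16 h.iso
  have cUR := AddSubgroup.card_le_of_le UR
  have pU : ∀ v, T x1 v = v → T x2 v = v → (∀ r ∈ R0, β v r = 0) → 4 ≤ Nat.card R0 → v ∈ R := fun v f1 f2 k c => by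
    have : U = R := AddSubgroup.eq_of_le_of_card_ge UR (by omega)
    refine h.perp h.iso (by omega) fun u hu => ?_
    have : U ≤ (β v).ker := hU ▸ ex_le (ex_le k (h.fx (h.XΓ m1) f1 _)) (h.fx (h.XΓ m2) f2 _)
    exact this (by rwa [‹U = R›])
  have fω : ∀ x ∈ X, x.1 = 1 → T x (T d a) = T d a := fun x hx e => by rw [h.cω (h.XΓ hx) e, h.Xa x hx]
  have r1 : T d a ∈ R := by
    by_cases k : ∀ r ∈ R0, r = 0
    · by_contra n
      have : ∀ x ∈ X, x.1 = 1 → x ≠ 1 → v0 + T x v0 = a := fun x hx e n' => by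
        rcases mem_NN.1 (h.NQ hf hx (fun u a0 a1 => lc (k _ (hR ▸ h.Np hf hx e a0 a1))) v0) with f | f | f | f
        · exact absurd (wn x hx e (f ▸ zero_mem _)) n'
        · exact f
        · exact absurd (f ▸ wR x hx) n
        · exact absurd ((add_mem_cancel_right h.aR).1 (f ▸ wR x hx)) n
      refine w12 ?_
      rw [this _ m1 e1 n1, this _ m2 e2 n2, show a + a = 0 from lc0]; exact zero_mem _
    · push Not at k
      obtain ⟨r, m, n⟩ := k
      refine pU _ (fω _ m1 e1) (fω _ m2 e2) (fun r m => ?_) (c4 hf n (h.nz h.dΓ n) m (Rω r m))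
      rw [← h.ω3 r, h.βT h.dΓ]
      exact h.iso a h.aR _ (l0 (Rω _ (Rω _ m)))
  have aR : a ∈ R0 := (mR _).2 ⟨h.aR, r1⟩
  have c0 := c4 hf h.a0 (h.nz h.dΓ h.a0) aR (Rω _ aR)
  have RN : R0 = NN T a := (AddSubgroup.eq_of_le_of_card_ge (ex_le (ex_le bot_le aR) (Rω _ aR)) (by
    have := c4 hf h.a0 (h.nz h.dΓ h.a0) (U := ex (ex ⊥ a) (T d a)) (le_ex self_ex) self_ex
    omega)).symm
  have eU : U = R := AddSubgroup.eq_of_le_of_card_ge UR (by omega)
  have hw : ∀ x ∈ X, ∀ y ∈ X, v0 + T (x * y) v0 + (v0 + T y v0 + (v0 + T x v0)) ∈ R0 := fun x hx y hy => by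
    rw [wm _ hx _ hy]
    rcases h.XR _ hx _ (wR _ hy) with e | e <;> rw [e]
    · convert zero_mem R0 using 1; exact lc0
    · convert aR using 1; exact lc0
  have eq : ∀ x ∈ X, ∀ y ∈ X, x.1 = 1 → y.1 = 1 → v0 + T y v0 + (v0 + T x v0) ∈ R0 → y = x := fun x hx y hy e f m =>
    mul_left_cancel ((wn _ (mul_mem hx hy) (by simp [e, f]) ((add_mem_cancel_right m).1 (hw x hx y hy))).trans
      (h.X2 x hx).symm)
  refine ⟨r1, by omega, fun x hx e => ?_, fun v f1 f2 => ?_⟩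
  · have := wR x hx
    rw [← eU, hU] at this
    rcases this with (m | m) | (m | m)
    · exact .inl (wn x hx e m)
    · exact .inr (.inl (eq _ m1 _ hx e1 e m))
    · exact .inr (.inr (.inl (eq _ m2 _ hx e2 e m)))
    · refine .inr (.inr (.inr (eq _ (mul_mem m1 m2) _ hx e3 e ?_)))
      convert add_mem m (hw _ m1 _ m2) using 1; exact lc0
  · obtain ⟨u, k⟩ := not_forall.1 (mt (fun k => wn _ m1 e1 (RN ▸ h.NQ hf m1 k v0)) n1)
    push Not at k
    have m := h.Np hf m1 e1 k.1 k.2.1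
    rw [← hR, RN] at m
    have p : ∀ v, T x1 v = v → T x2 v = v → v ∈ R := fun v f1 f2 => pU v f1 f2 (fun r hr => by
      have b1 := h.fx (h.XΓ m1) f1 u
      have b2 := h.fx (h.XΓ m1) f1 (T d u)
      rw [h.cω (h.XΓ m1) e1, ← map_add] at b2
      have : β v a = 0 ∧ β v (T d a) = 0 := by
        rcases mem_NN.1 m with f | f | f | f
        · exact absurd (lc f) k.2.2
        · rw [f] at b1 b2; exact ⟨b1, b2⟩
        · rw [f] at b1 b2; rw [ω2 hf, map_add, b1, zero_add] at b2; exact ⟨b2, b1⟩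
        · rw [f] at b1 b2
          simp only [map_add, ω2 hf] at b1 b2
          exact ⟨lc b2, lc congr($b1 + $b2)⟩
      exact (ex_le (ex_le bot_le this.1) this.2 : NN T a ≤ (β v).ker) (by rwa [RN] at hr)) c0
    exact RN ▸ (mR _).2 ⟨p v f1 f2, p _ (by rw [h.cω (h.XΓ m1) e1, f1]) (by rw [h.cω (h.XΓ m2) e2, f2])⟩

theorem St0 (hg : g ∈ Γ) (m : T g a ∈ NN T a) (hx : x ∈ X) (e : x.1 = 1) : g * x * g⁻¹ ∈ X := by
  have c : ∀ y : P, y.1 = 1 → d * y * d⁻¹ = y := fun y e => Prod.ext (by simp [e]) (by simp [d])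
  have e' : (g * x * g⁻¹).1 = 1 := by simp [e]
  rcases mem_NN.1 m with f | f | f | f
  · exact absurd f (h.nz hg h.a0)
  · exact (h.st g hg f).1 x hx
  · have := (h.st (d * (d * g)) (mul_mem h.dΓ (mul_mem h.dΓ hg)) (by
      rw [h.mul _ h.dΓ _ (mul_mem h.dΓ hg), h.mul _ h.dΓ _ hg, f, h.ω3])).1 x hx
    rwa [show d * (d * g) * x * (d * (d * g))⁻¹ = d * (d * (g * x * g⁻¹) * d⁻¹) * d⁻¹ by group, c _ e', c _ e'] at this
  · have := (h.st (d * g) (mul_mem h.dΓ hg) (by rw [h.mul _ h.dΓ _ hg, f, ← ω2 hf, h.ω3])).1 x hx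
    rwa [show d * g * x * (d * g)⁻¹ = d * (g * x * g⁻¹) * d⁻¹ by group, c _ e'] at this

theorem fix (hg : g ∈ Γ) (e : g.1 = 1) (gg : g * g = 1) (m : T g a ∈ NN T a) : T g a = a := by
  have k : T g (T g a) = a := by rw [← h.mul _ hg _ hg, gg, h.one]
  rcases mem_NN.1 m with f | f | f | f
  · exact absurd f (h.nz hg h.a0)
  · exact f
  · rw [f, h.cω hg e, f, ω2 hf] at k
    exact absurd (lc k) (h.nz h.dΓ h.a0)
  · rw [f, map_add, h.cω hg e, f, map_add, ω2 hf] at k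
    exact absurd (lc k) h.hω

end Hy
end H01.XT
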