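import Mathlib
import Cfsg.Agent.H01.XT3

/-!
# The module `Q/Z(Q)` for `2^{1+8}.(S₃ × A₆)`, part 2 (namespace `H01.XT`)

`Co`: the `A₆`-orbit of `a` together with `0` is a subgroup of order 16 (duad model); `Hy.co`.
-/

set_option autoImplicit false
set_option linter.unusedSectionVars false
open Equiv

namespace H01.XT
universe u
variable {V : Type u} [AddCommGroup V] [Module (ZMod 2) V] [Finite V]

structure Co (T : P → V →+ V) (Γ : Subgroup P) (a : V) (R B : AddSubgroup V) : Prop where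
  mem : ∀ v, v ∈ B ↔ v = 0 ∨ ∃ k, Perm.sign k = 1 ∧ v = T (1, k) a
  cB : Nat.card B = 16
  cBR : Nat.card ↥(B ⊓ R) = 8
  s1 : ∀ g ∈ Γ, T g a = a → ∀ r ∈ R, r + T g r ∈ B
  s2 : ∀ t ∈ B, t ∈ R → t = 0 ∨ t = a ∨ ∃ g ∈ Γ, T g a = a ∧ ∃ r ∈ R, t = r + T g r
  fa : ∀ k, Perm.sign k = 1 → (∀ v ∈ B, T (1, k) v = v) → k = 1
  tr : ∃ e0, ∀ e, e ∉ B → ∃ k, Perm.sign k = 1 ∧ e + T (1, k) e0 ∈ B

def Sc (ω l : V →+ V) : Prop := l = 0 ∨ l = AddMonoidHom.id V ∨ l = ω ∨ l = ω.comp ω

theorem p3b : ∀ s : P3, s * finRotate 3 * s⁻¹ = finRotate 3 ∨ s * finRotate 3 * s⁻¹ = finRotate 3 * finRotate 3 := by decide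
theorem fixV4 : ∀ y ∈ [t1, t2, t1 * t2], ∀ i, y i = i → i = 0 ∨ i = 1 := by decide +kernel
theorem sg3 : ∀ j ∈ [1, sw 0 2 1 3, sw 1 2 3 4], Perm.sign j = 1 := by decide +kernel
theorem f6 : ∀ i m : Fin 6, (∀ j, i ≠ j → m = i ∨ m = j) → m = i := by decide

namespace Hy
variable {T : P → V →+ V} {Γ X : Subgroup P} {β : V →+ V →+ ZMod 2} {q : V → ZMod 2} {a u v w : V} {R : AddSubgroup V}
  {x y : P} {g k c ρ : P6} {l : V →+ V} (h : Hy T Γ X β q a R)
include h

theorem mm (g k : P6) (v : V) (s : Perm.sign g = 1) (s' : Perm.sign k = 1) :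
    T (1, g) (T (1, k) v) = T (1, g * k) v := by rw [← h.mul _ (h.mem s) _ (h.mem s')]; rfl

theorem odd (m1 : ((1 : P3), t1) ∈ X) (m2 : ((1 : P3), k) ∈ X) (n2 : k ≠ 1) (n3 : t1 * k ≠ 1) (sc : Perm.sign c = 1)
    (cc : c * c = 1) (c1 : t1 * c = c * t1) (c2 : k * c = c * k) (sρ : Perm.sign ρ = 1)
    (e : ∀ x ∈ [t1, k], ρ⁻¹ * x * ρ ∈ [t1, k, t1 * k, c, t1 * c, k * c, t1 * k * c])
    (n : ρ * t1 * ρ⁻¹ ∉ [1, t1, k, t1 * k]) : False := by
  have hf := h.fp m1
  obtain ⟨-, -, X0, C⟩ := h.main hf m1 m2 rfl rfl (by decide) (by simpa using n2) (by simpa using n3)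
  have g1 := h.XΓ m1
  have g2 := h.XΓ m2
  have g3 := h.mem sc
  have f1 := h.Xa _ m1
  have f2 := h.Xa _ m2
  have f3 : T (1, c) a = a := h.fix hf g3 rfl (by simpa using cc) (C _
    (by rw [← h.mul _ g1 _ g3, show ((1 : P3), t1) * (1, c) = (1, c) * (1, t1) by simpa using c1, h.mul _ g3 _ g1, f1])
    (by rw [← h.mul _ g2 _ g3, show ((1 : P3), k) * (1, c) = (1, c) * (1, k) by simpa using c2, h.mul _ g3 _ g2, f2]))
  have ml : ∀ {x y : P6}, (((1 : P3), x) ∈ Γ ∧ T (1, x) a = a) → (((1 : P3), y) ∈ Γ ∧ T (1, y) a = a) →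
      ((1 : P3), x * y) ∈ Γ ∧ T (1, x * y) a = a := fun {x y} i j =>
    ⟨mul_mem i.1 j.1, (h.mul _ i.1 _ j.1 a).trans (by rw [j.2, i.2])⟩
  have f : ∀ x ∈ [t1, k, t1 * k, c, t1 * c, k * c, t1 * k * c], ((1 : P3), x) ∈ Γ ∧ T (1, x) a = a := by
    simp only [List.mem_cons, List.not_mem_nil, or_false, forall_eq_or_imp, forall_eq]
    exact ⟨⟨g1, f1⟩, ⟨g2, f2⟩, ml ⟨g1, f1⟩ ⟨g2, f2⟩, ⟨g3, f3⟩, ml ⟨g1, f1⟩ ⟨g3, f3⟩, ml ⟨g2, f2⟩ ⟨g3, f3⟩,
      ml (ml ⟨g1, f1⟩ ⟨g2, f2⟩) ⟨g3, f3⟩⟩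
  have g4 := h.mem sρ
  have r : ∀ x ∈ [t1, k], ((1 : P3), x) ∈ Γ → T (1, x) (T (1, ρ) a) = T (1, ρ) a := fun x hx gx => by
    obtain ⟨i, j⟩ := f _ (e x hx)
    rw [← h.mul _ gx _ g4, show ((1 : P3), x) * (1, ρ) = (1, ρ) * (1, ρ⁻¹ * x * ρ) by simp [mul_assoc], h.mul _ g4 _ i, j]
  have := X0 _ (h.St0 hf g4 (C _ (r _ (by simp) g1) (r _ (by simp) g2)) m1 rfl) (by simp)
  refine n ?_
  simpa [Prod.ext_iff] using this

theorem Sc.cm (s : Sc (T d) l) (e : Perm.sign k = 1) (v : V) : T (1, k) (l v) = l (T (1, k) v) := by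
  rcases s with rfl | rfl | rfl | rfl <;> simp [h.cω (h.mem e) rfl]

theorem Sc.z (s : Sc (T d) l) (e : l v = 0) : l = 0 ∨ v = 0 := by
  rcases s with rfl | rfl | rfl | rfl
  exacts [.inl rfl, .inr e, .inr (by_contra fun n => h.nz h.dΓ n e), .inr (by_contra fun n => h.nz h.dΓ (h.nz h.dΓ n) e)]

theorem span (hf : ∀ v, v + T d v + T d (T d v) = 0) (m : u ∈ NN T a) (n : u ≠ 0) (m' : v ∈ NN T a) :
    ∃ l, Sc (T d) l ∧ v = l u := by
  have : v = 0 ∨ v = u ∨ v = T d u ∨ v = T d (T d u) := by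
    rcases mem_NN.1 m with f | f | f | f
    · exact absurd f n
    all_goals rcases mem_NN.1 m' with e | e | e | e <;> simp only [e, f, map_add, ω2 hf, true_or, or_true]
    all_goals first | exact .inr (.inr (.inr lc0)) | exact .inr (.inr (.inl lc0))
  rcases this with e | e | e | e
  exacts [⟨0, .inl rfl, e⟩, ⟨_, .inr (.inl rfl), e⟩, ⟨_, .inr (.inr (.inl rfl)), e⟩, ⟨_, .inr (.inr (.inr rfl)), e⟩]

theorem core (m1 : ((1 : P3), t1) ∈ X) (m2 : ((1 : P3), t2) ∈ X) : ∃ B, Co T Γ a R B := by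
  have hf := h.fp m1
  obtain ⟨r1, cR, X0, C⟩ := h.main hf m1 m2 rfl rfl (by decide) (by decide) (by decide)
  have aN : a ∈ NN T a := le_ex self_ex
  have fV : ∀ y ∈ [t1, t2, t1 * t2], T (1, y) a = a := by
    simp only [List.mem_cons, List.not_mem_nil, or_false, forall_eq_or_imp, forall_eq]
    exact ⟨h.Xa _ m1, h.Xa _ m2, h.Xa _ (mul_mem m1 m2)⟩
  have SI : ∀ i ∈ I, T (1, i) a = a := fun i hi => by
    obtain ⟨s, ii, e⟩ := I_spec i hi
    have : ∀ x ∈ [t1, t2], Perm.sign x = 1 → T (1, x) (T (1, i) a) = T (1, i) a := fun x hx sx => by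
      rw [h.mm x i a sx s, show x * i = i * (i * x * i) by simp [← mul_assoc, ii], ← h.mm i _ a s (by simp [s, sx]),
        fV _ (e x hx)]
    exact h.fix hf (h.mem s) rfl (by simpa using ii) (C _ (this _ (by simp) (by decide)) (this _ (by simp) (by decide)))
  have SA : ∀ g : P6, Perm.sign g = 1 → (g 0 = 0 ∧ g 1 = 1 ∨ g 0 = 1 ∧ g 1 = 0) → T (1, g) a = a := fun g s e => by
    obtain ⟨i, hi, j, hj, rfl⟩ := S_prod g e s
    rw [← h.mm i j a (I_spec i hi).1 (I_spec j hj).1, SI j hj, SI i hi]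
  have iv : ∀ g k : P6, Perm.sign g = 1 → Perm.sign k = 1 → (T (1, g) a = T (1, k) a ↔ T (1, k⁻¹ * g) a = a) :=
    fun g k s s' => by
    rw [← h.mm _ g a (by simpa using s') s]
    exact ⟨fun e => e ▸ h.li (h.mem s') a, fun e => by rw [← h.ri (h.mem s') (T (1, g) a)]; exact congrArg _ e⟩
  have SP : ∀ g k : P6, Perm.sign g = 1 → Perm.sign k = 1 → (g 0 = k 0 ∧ g 1 = k 1 ∨ g 0 = k 1 ∧ g 1 = k 0) →
      T (1, g) a = T (1, k) a := fun g k s s' e => (iv g k s s').2 (SA _ (by simp [s, s']) (by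
    simpa only [Perm.mul_apply, Perm.inv_eq_iff_eq] using e))
  have ST : ∀ g : P6, Perm.sign g = 1 → T (1, g) a ∈ NN T a → (g 0 = 0 ∨ g 0 = 1) ∧ (g 1 = 0 ∨ g 1 = 1) := fun g s m => by
    have := X0 _ (h.St0 hf (h.mem s) m m1 rfl) (by simp)
    have e : g * t1 * g⁻¹ ∈ [t1, t2, t1 * t2] := by
      rcases this with e | e
      · exact absurd (conj_eq_one_iff.1 e) (by decide)
      · simpa [Prod.ext_iff] using e
    exact ⟨fixV4 _ e _ (by simp only [Perm.mul_apply, Perm.coe_inv, symm_apply_apply]; rfl),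
      fixV4 _ e _ (by simp only [Perm.mul_apply, Perm.coe_inv, symm_apply_apply]; rfl)⟩
  have NE : ∀ g k : P6, Perm.sign g = 1 → Perm.sign k = 1 → T (1, g) a = T (1, k) a →
      (g 0 = k 0 ∨ g 0 = k 1) ∧ (g 1 = k 0 ∨ g 1 = k 1) := fun g k s s' e => by
    simpa only [Perm.mul_apply, Perm.inv_eq_iff_eq] using ST (k⁻¹ * g) (by simp [s, s'])
      (by rw [(iv g k s s').1 e]; exact aN)
  have s1 : Perm.sign t1 = 1 := by decide
  have s2 : Perm.sign t2 = 1 := by decide
  obtain ⟨b, hb⟩ : ∃ b, b = T (1, sw 0 2 1 3) a := ⟨_, rfl⟩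
  obtain ⟨c, hc⟩ : ∃ c, c = T (1, sw 1 2 3 4) a := ⟨_, rfl⟩
  have tt : ∀ v, T (1, t1) v = v → v + T (1, t2) v ∈ NN T a := fun v e => C _
    (by rw [map_add, e, h.mm _ _ _ s1 s2, show t1 * t2 = t2 * t1 by decide, ← h.mm _ _ _ s2 s1, e]) (by rw [map_add, h.xx m2, add_comm])
  have tb : T (1, t1) b = b := by simp (disch := decide) only [hb, h.mm]; exact SP _ _ (by decide) (by decide) (by decide)
  have nb : b + T (1, t2) b ≠ 0 := fun e => by
    have e : T (1, t2) b = b := lc e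
    simp (disch := decide) only [hb, h.mm] at e; exact absurd (NE _ _ (by decide) (by decide) e) (by decide)
  have CT : ∀ v, T (1, t1) v = v → ∃ l μ, Sc (T d) l ∧ Sc (T d) μ ∧ v = l a + μ b := fun v e => by
    obtain ⟨μ, s, k⟩ := h.span hf (tt b tb) nb (tt v e)
    obtain ⟨l, s', k'⟩ := h.span hf aN h.a0 (C (v + μ b) (by rw [map_add, e, Sc.cm h s s1, tb]) (by
      rw [map_add] at k; rw [map_add, Sc.cm h s s2]; exact lc k))
    exact ⟨l, μ, s', s, lc k'⟩
  have R1 : a + b = T (1, t2) b := by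
    obtain ⟨l, s, k⟩ := h.span hf aN h.a0 (tt b tb)
    have i1 : T (1, sw 0 4 0 2 * sw 1 5 1 3) a = b := hb ▸ SP _ _ (by decide) (by decide) (by decide)
    have i2 : T (1, sw 0 4 0 2 * sw 1 5 1 3) b = T (1, t2) b := by
      simp (disch := decide) only [hb, h.mm]; exact SP _ _ (by decide) (by decide) (by decide)
    have i3 : T (1, sw 0 4 0 2 * sw 1 5 1 3) (T (1, t2) b) = a := by
      simp (disch := decide) only [hb, h.mm]; exact SA _ (by decide) (by decide)
    have s3 : Perm.sign (sw 0 4 0 2 * sw 1 5 1 3) = 1 := by decide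
    have k1 := congrArg (T (1, sw 0 4 0 2 * sw 1 5 1 3)) k
    rw [map_add, Sc.cm h s s3, i1, i2, i3] at k1
    have k2 := congrArg (T (1, sw 0 4 0 2 * sw 1 5 1 3)) k1
    rw [map_add, Sc.cm h s s3, i1, i2, i3] at k2
    rcases Sc.z h s (v := a + b + T (1, t2) b) (by simp only [map_add]; exact lc congr($k + $k1 + $k2)) with e | e
    · exact absurd (k.trans (by rw [e]; rfl)) nb
    · exact lc e
  have R2 : c + T (1, t1) c = b := by
    obtain ⟨l, μ, s, s', k⟩ := CT (b + c + T (1, t1) c) (by rw [map_add, map_add, tb, h.xx m1]; exact lc0)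
    have k1 := congrArg (T (1, sw 1 5 1 4)) k
    have k2 := congrArg (T (1, sw 0 3 0 2)) k
    simp only [map_add] at k1 k2
    have i1 : T (1, sw 1 5 1 4) b = b := by simp (disch := decide) only [hb, h.mm]; exact SP _ _ (by decide) (by decide) (by decide)
    have i2 : T (1, sw 1 5 1 4) c = c := by simp (disch := decide) only [hc, h.mm]; exact SP _ _ (by decide) (by decide) (by decide)
    have i3 : T (1, sw 1 5 1 4) (T (1, t1) c) = T (1, t1) c := by
      simp (disch := decide) only [hc, h.mm]; exact SP _ _ (by decide) (by decide) (by decide)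
    have j1 : T (1, sw 0 3 0 2) b = T (1, t1) c := by
      simp (disch := decide) only [hb, hc, h.mm]; exact SP _ _ (by decide) (by decide) (by decide)
    have j2 : T (1, sw 0 3 0 2) c = b := by simp (disch := decide) only [hb, hc, h.mm]; exact SP _ _ (by decide) (by decide) (by decide)
    have j3 : T (1, sw 0 3 0 2) (T (1, t1) c) = c := by
      simp (disch := decide) only [hc, h.mm]; exact SP _ _ (by decide) (by decide) (by decide)
    have s3 : Perm.sign (sw 1 5 1 4) = 1 := by decide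
    have s4 : Perm.sign (sw 0 3 0 2) = 1 := by decide
    rw [Sc.cm h s s3, Sc.cm h s' s3, i1, i2, i3] at k1
    rw [Sc.cm h s s4, Sc.cm h s' s4, j1, j2, j3] at k2
    rcases Sc.z h s (v := T (1, sw 1 5 1 4) a + a) (by rw [map_add]; exact lc congr($k + $k1)) with e | e
    swap
    · exact absurd (ST _ s3 (by rw [show T (1, sw 1 5 1 4) a = a from lc e]; exact aN)) (by decide)
    subst e
    rcases Sc.z h s' (v := T (1, t1) c + b) (by
      rw [map_add]; simp only [AddMonoidHom.zero_apply] at k k2; exact lc congr($k + $k2)) with e | e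
    · subst e; exact lc (k.trans (show _ = 0 by simp))
    · have e : T (1, t1) c = b := lc e
      simp (disch := decide) only [hc, hb, h.mm] at e; exact absurd (NE _ _ (by decide) (by decide) e) (by decide)
  have D : ∀ k, Perm.sign k = 1 → ∃ s ∈ I, T (1, k) a = a ∨ T (1, k) a = T (1, s) b ∨ T (1, k) a = T (1, s) c := fun k e => by
    obtain ⟨s, hs, j, hj, f⟩ := dc (k 0) (k 1) (k.injective.ne (by decide))
    have ss := (I_spec s hs).1
    have sj := sg3 j hj
    have := SP k _ e (by simp [ss, sj]) f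
    rw [← h.mm s j a ss sj] at this
    simp only [List.mem_cons, List.not_mem_nil, or_false] at hj
    refine ⟨s, hs, ?_⟩
    rcases hj with rfl | rfl | rfl
    · exact .inl (this.trans ((congrArg _ (h.one a)).trans (SI s hs)))
    · exact .inr (.inl (hb ▸ this))
    · exact .inr (.inr (hc ▸ this))
  have R3 : a + c = T (1, sw 1 3 4 5) b := by
    have k := congrArg (T (1, sw 1 3 4 5)) R2
    have i1 : T (1, sw 1 3 4 5) c = c := by simp (disch := decide) only [hc, h.mm]; exact SP _ _ (by decide) (by decide) (by decide)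
    have i2 : T (1, sw 1 3 4 5) (T (1, t1) c) = a := by simp (disch := decide) only [hc, h.mm]; exact SA _ (by decide) (by decide)
    rw [map_add, i1, i2] at k; exact lc k
  let B : AddSubgroup V :=
    { carrier := {v | v = 0 ∨ ∃ k, Perm.sign k = 1 ∧ v = T (1, k) a}
      zero_mem' := .inl rfl
      neg_mem' := by intro x; rw [show -x = x from lc0]; exact id
      add_mem' := by
        rintro _ _ (rfl | ⟨g, s, rfl⟩) (rfl | ⟨k, s', rfl⟩)
        · simp
        · exact .inr ⟨k, s', by simp⟩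
        · exact .inr ⟨g, s, by simp⟩
        have s1 : Perm.sign (g⁻¹ * k) = 1 := by simp [s, s']
        rw [show T (1, k) a = T (1, g) (T (1, g⁻¹ * k) a) by rw [h.mm _ _ _ s s1]; simp, ← map_add]
        obtain ⟨i, hi, e | e | e⟩ := D _ s1 <;> rw [e]
        · exact .inl (by rw [show a + a = 0 from lc0, map_zero])
        all_goals have si := (I_spec i hi).1
        · refine .inr ⟨g * (i * (t2 * sw 0 2 1 3)), by rw [map_mul, map_mul, s, si]; decide, ?_⟩
          rw [← h.mm _ _ _ s (by rw [map_mul, si]; decide), ← h.mm i _ _ si (by decide), ← h.mm t2 (sw 0 2 1 3) _ s2 (by decide),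
            ← hb, ← R1, map_add (T (1, i)), SI i hi]
        · refine .inr ⟨g * (i * (sw 1 3 4 5 * sw 0 2 1 3)), by rw [map_mul, map_mul, s, si]; decide, ?_⟩
          rw [← h.mm _ _ _ s (by rw [map_mul, si]; decide), ← h.mm i _ _ si (by decide),
            ← h.mm (sw 1 3 4 5) (sw 0 2 1 3) _ (by decide) (by decide), ← hb, ← R3, map_add (T (1, i)), SI i hi] }
  have mB : ∀ v, v ∈ B ↔ v = 0 ∨ ∃ k, Perm.sign k = 1 ∧ v = T (1, k) a := fun _ => Iff.rfl
  have aB : a ∈ B := .inr ⟨1, rfl, (h.one a).symm⟩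
  have gB : ∀ g ∈ Γ, T g a = a → ∀ v ∈ B, T g v ∈ B := by
    rintro g hg e _ (rfl | ⟨k, s, rfl⟩)
    · exact .inl (map_zero _)
    · refine .inr ⟨g.2 * k * g.2⁻¹, by simp [s], ?_⟩
      rw [← h.mul _ hg _ (h.mem s), show g * (1, k) = (1, g.2 * k * g.2⁻¹) * g from Prod.ext (by simp) (by simp),
        h.mul _ (h.mem (by simp [s])) _ hg, e]
  have kB : ∀ k, Perm.sign k = 1 → ∀ v ∈ B, T (1, k) v ∈ B := by
    rintro g s _ (rfl | ⟨k, s', rfl⟩)
    · exact .inl (map_zero _)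
    · exact .inr ⟨g * k, by simp [s, s'], h.mm _ _ _ s s'⟩
  have qB : ∀ v ∈ B, q v = 0 := by
    rintro _ (rfl | ⟨k, s, rfl⟩)
    · exact h.q0
    · rw [h.qT _ (h.mem s), h.qa]
  have iB : ∀ u ∈ B, ∀ v ∈ B, β u v = 0 := fun u hu v hv => by
    have := h.pol u v
    rw [qB u hu, qB v hv, qB _ (add_mem hu hv)] at this; exact lc this
  have c16 := h.iso16 iB
  have bB : b ∈ B := .inr ⟨_, by decide, hb⟩
  have cB : c ∈ B := .inr ⟨_, by decide, hc⟩
  have bR : b ∈ R := R2 ▸ h.Xp _ m1 c (iB a aB c cB)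
  obtain ⟨e, he⟩ : ∃ e, e = T (1, sw 3 4 1 5) b := ⟨_, rfl⟩
  have eR : e ∈ R := by
    have k := congrArg (T (1, sw 3 4 1 5)) R2
    have i1 : T (1, sw 3 4 1 5) c = c := by simp (disch := decide) only [hc, h.mm]; exact SP _ _ (by decide) (by decide) (by decide)
    have i2 : T (1, sw 3 4 1 5) (T (1, t1) c) = T (1, t2) c := by
      simp (disch := decide) only [hc, h.mm]; exact SP _ _ (by decide) (by decide) (by decide)
    rw [map_add, i1, i2, ← he] at k
    exact k ▸ h.Xp _ m2 c (iB a aB c cB)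
  have b0 : b ∉ ex ⊥ a := by
    rintro (e | e)
    · exact h.nz (h.mem (by decide)) h.a0 (hb ▸ e)
    · exact absurd (ST (sw 0 2 1 3) (by decide) (by rw [← hb, show b = a from lc (show b + a = 0 from e)]; exact aN))
        (by decide)
  have e0 : e ∉ ex (ex ⊥ a) b := fun m => by
    have : ex (ex ⊥ a) b ≤ (T (1, t1)).eqLocus (AddMonoidHom.id V) := ex_le (ex_le bot_le (h.Xa _ m1)) tb
    have k : T (1, t1) e = e := this m
    simp (disch := decide) only [he, hb, h.mm] at k; exact absurd (NE _ _ (by decide) (by decide) k) (by decide)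
  have cR' : c ∉ R := fun m => b0 (by
    rcases h.XR _ m1 c m with k | k <;> rw [k] at R2
    · exact .inl (show b = 0 from lc R2)
    · exact .inr (show b + a = 0 from lc R2))
  have a1 := card_ex (U := ⊥) h.a0
  have a2 := card_ex b0
  have a3 := grow (W := B ⊓ R) (ex_le (ex_le bot_le ⟨aB, h.aR⟩) ⟨bB, bR⟩) ⟨he ▸ kB _ (by decide) b bB, eR⟩ e0
  have a4 := grow (U := B ⊓ R) inf_le_left cB fun m => cR' m.2
  rw [AddSubgroup.card_bot] at a1
  have ωB : T d a ∉ B := by
    rintro (e | ⟨k, s, e⟩)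
    · exact h.nz h.dΓ h.a0 e
    · obtain ⟨i | i, j | j⟩ := ST k s (e ▸ self_ex)
      · exact absurd (k.injective (i.trans j.symm)) (by decide)
      · exact h.hω (e.trans (SA k s (.inl ⟨i, j⟩)))
      · exact h.hω (e.trans (SA k s (.inr ⟨i, j⟩)))
      · exact absurd (k.injective (i.trans j.symm)) (by decide)
  have eR' : ex (B ⊓ R) (T d a) = R := AddSubgroup.eq_of_le_of_card_ge (ex_le inf_le_right r1) (by
    have := card_ex (U := B ⊓ R) fun m => ωB m.1
    omega)
  refine ⟨B, mB, by omega, by omega, fun g hg e r hr => ?_, fun t m m' => ?_, fun k s f => ?_, T d a, fun e n => ?_⟩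
  · rcases eR'.ge hr with m | m
    · exact add_mem m.1 (gB g hg e r m.1)
    · have k := add_mem m.1 (gB g hg e _ m.1)
      have : T g (T d a) = T (g * d * g⁻¹) a := by
        rw [← h.mul _ hg _ h.dΓ, h.mul _ (mul_mem hg h.dΓ) _ (inv_mem hg), ← e, h.li hg, e]
      rw [map_add, this] at k
      rcases p3b g.1 with i | i
      · rw [show g * d * g⁻¹ = d from Prod.ext i (by simp [d])] at k
        rw [show r + T g r = r + T d a + (T g r + T d a) from lc0]; exact k
      · rw [show g * d * g⁻¹ = d * d from Prod.ext i (by simp [d]), h.mul _ h.dΓ _ h.dΓ, ω2 hf] at k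
        rw [show r + T g r = r + T d a + (T g r + (T d a + a)) + a from lc0]; exact add_mem k aB
  · rcases m with rfl | ⟨k, s, rfl⟩
    · exact .inl rfl
    obtain ⟨i, hi, f | f | f⟩ := D k s
    · exact .inr (.inl f)
    all_goals obtain ⟨si, ii, -⟩ := I_spec i hi
    all_goals have iR := (h.st _ (h.mem si) (SI i hi)).2
    · have k := congrArg (T (1, sw 0 4 1 5)) R2
      have i1 : T (1, sw 0 4 1 5) c = e := by simp (disch := decide) only [hc, he, hb, h.mm]; exact SP _ _ (by decide) (by decide) (by decide)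
      have i2 : T (1, sw 0 4 1 5) (T (1, t1) c) = T (1, t3) e := by
        simp (disch := decide) only [hc, he, hb, h.mm]; exact SP _ _ (by decide) (by decide) (by decide)
      have i3 : T (1, sw 0 4 1 5) b = b := by simp (disch := decide) only [hb, h.mm]; exact SP _ _ (by decide) (by decide) (by decide)
      rw [map_add, i1, i2, i3] at k
      have s3 : Perm.sign (t3 * i) = 1 := by rw [map_mul, si]; decide
      refine .inr (.inr ⟨(1, i * (t3 * i)), h.mem (by rw [map_mul, si, s3]; rfl), ?_, _, iR e eR, ?_⟩)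
      · rw [← h.mm _ _ _ si s3, ← h.mm t3 i _ (by decide) si, SI i hi, SI t3 (by decide), SI i hi]
      · rw [f, ← k, map_add, h.mm _ i e (by rw [map_mul, si, s3]; rfl) si, mul_assoc, mul_assoc, ii, mul_one,
          h.mm i t3 e si (by decide)]
    · have := iR _ (f ▸ m')
      rw [h.mm i i c si si, ii] at this
      exact absurd ((show T (1, 1) c = c from h.one c) ▸ this) cR'
  · refine Equiv.ext fun i => f6 i _ fun j n => ?_
    obtain ⟨s', hs, j', hj, e⟩ := dc i j n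
    have sj : Perm.sign (s' * j') = 1 := by rw [map_mul, (I_spec s' hs).1, sg3 j' hj]; rfl
    have := f _ (.inr ⟨_, sj, rfl⟩)
    rw [h.mm _ _ _ s sj] at this
    have := NE _ _ (by rw [map_mul, s, sj]; rfl) sj this
    rw [Perm.mul_apply k, Perm.mul_apply k] at this
    rcases e with ⟨rfl, rfl⟩ | ⟨rfl, rfl⟩
    exacts [this.1, this.2.symm]
  · let f : B × B → V := fun p => p.1 + T d p.2
    have z : ∀ u ∈ B, T d u ∈ B → u = 0 := by
      rintro _ (rfl | ⟨k, s, rfl⟩) m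
      · rfl
      · have := kB k⁻¹ (by simp [s]) _ m
        rw [← h.cω (h.mem s) rfl] at this
        exact absurd ((h.li (h.mem s) (T d a)) ▸ this) ωB
    have fi : Function.Injective f := by
      rintro ⟨⟨u, hu⟩, v, hv⟩ ⟨⟨u', hu'⟩, v', hv'⟩ k
      have k : u + T d v = u' + T d v' := k
      obtain rfl : v = v' := lc (z _ (add_mem hv hv') (by
        rw [map_add, show T d v + T d v' = u + u' from lc k]; exact add_mem hu hu'))
      obtain rfl : u = u' := lc k
      rfl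
    obtain ⟨⟨⟨u, hu⟩, _, rfl | ⟨k, s, rfl⟩⟩, k'⟩ := (fi.bijective_of_nat_card_le (by
      rw [Nat.card_prod, h.card, show Nat.card B = 16 by omega])).2 e
    · exact absurd (by rw [← k']; simpa [f] using hu) n
    · refine ⟨k, s, ?_⟩
      rw [← k', h.cω (h.mem s) rfl]
      convert hu using 1; exact lc0

theorem tw (ψ : P6 ≃* P6) (s : ∀ g, Perm.sign (ψ g) = Perm.sign g) :
    Hy (fun p => T (p.1, ψ p.2)) (Γ.comap ((MonoidHom.id P3).prodMap ψ)) (X.comap ((MonoidHom.id P3).prodMap ψ)) β q a R := by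
  let f : P ≃* P := (MulEquiv.refl P3).prodCongr ψ
  have z : ∀ x : P, f x = 1 → x = 1 := fun x => (map_eq_one_iff f f.injective).1
  refine { h.toQS with
    ev := fun σ τ i j => h.ev _ _ i ((s τ).trans j), one := fun v => by simp only [Prod.snd_one, map_one]; exact h.one v
    mul := fun x hx y hy v => by simp only [Prod.snd_mul, map_mul]; exact h.mul _ hx _ hy v
    fai := fun x hx k => z x (h.fai _ hx k), qT := fun x hx => h.qT _ hx, a0 := h.a0, qa := h.qa, aR := h.aR, iso := h.iso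
    XΓ := fun x hx => h.XΓ hx, X2 := fun x hx => z _ ((map_mul f x x).trans (h.X2 _ hx)), Xa := fun x hx => h.Xa _ hx
    Xp := fun x hx => h.Xp _ hx, XR := fun x hx => h.XR _ hx, Xe := fun x hx e i j => z x (h.Xe _ hx e i j), cX := ?_
    st := fun g hg e => ⟨fun x hx => ?_, (h.st _ hg e).2⟩ }
  · rw [← h.cX]; congr 1
    exact Nat.card_congr (f.toEquiv.subtypeEquiv fun _ => Iff.rfl)
  · have := (h.st _ hg e).1 _ hx
    rwa [← map_inv, ← map_mul, ← map_mul] at this

omit h in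
theorem tw' (ψ : P6 ≃* P6) (s : ∀ g, Perm.sign (ψ g) = Perm.sign g) {B : AddSubgroup V}
    (c : Co (fun p => T (p.1, ψ p.2)) (Γ.comap ((MonoidHom.id P3).prodMap ψ)) a R B) : Co T Γ a R B := by
  have s' : ∀ g, Perm.sign (ψ.symm g) = Perm.sign g := fun g => by rw [← s, ψ.apply_symm_apply]
  refine ⟨fun v => (c.mem v).trans (or_congr_right ⟨fun ⟨k, i, j⟩ => ⟨ψ k, (s k).trans i, j⟩, fun ⟨k, i, j⟩ =>
    ⟨ψ.symm k, (s' k).trans i, by simpa using j⟩⟩), c.cB, c.cBR, fun g hg e r hr => ?_, fun t i j => ?_, fun k i j => ?_, ?_⟩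
  · simpa using c.s1 (g.1, ψ.symm g.2) (by simpa using hg) (by simpa using e) r hr
  · exact (c.s2 t i j).imp_right (Or.imp_right fun ⟨g, hg, e⟩ => ⟨_, hg, e⟩)
  · simpa using congrArg ψ (c.fa (ψ.symm k) ((s' k).trans i) (by simpa using j))
  · exact c.tr.imp fun e0 k e n => (k e n).elim fun k i => ⟨ψ k, (s k).trans i.1, i.2⟩

theorem X8 : 8 ≤ Nat.card X := by
  have := h.iso16 h.iso
  have := h.cX
  by_contra n
  nlinarith

theorem ex2 (S : Finset P) (c : S.card ≤ 3) : ∃ x ∈ X, x.1 = 1 ∧ x ∉ S := by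
  by_contra! k
  let f : X →* ℤˣ := Perm.sign.comp ((MonoidHom.fst _ _).comp X.subtype)
  have a1 := f.ker.card_mul_index
  have a2 : f.ker.index ≤ 2 := by
    rw [Subgroup.index_ker]; exact (Subgroup.card_le_card_group _).trans (by simp)
  have a3 : Nat.card f.ker ≤ S.card := by
    rw [← Nat.card_eq_finsetCard]
    refine Nat.card_le_card_of_injective (fun x => ⟨x.1.1, k _ x.1.2 ?_⟩) fun x y e =>
      Subtype.ext (Subtype.ext (Subtype.mk.inj e))
    exact (by decide : ∀ s : P3, s * s = 1 → Perm.sign s = 1 → s = 1) _ (congrArg Prod.fst (h.X2 _ x.1.2)) x.2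
  have := h.X8
  nlinarith

theorem co1 (m1 : ((1 : P3), t1) ∈ X) : ∃ B, Co T Γ a R B := by
  obtain ⟨⟨_, k⟩, m2, rfl, n⟩ := h.ex2 {1, (1, t1)} (Finset.card_le_two.trans (by omega))
  have c : ((1 : P3), k) * (1, t1) = (1, t1) * (1, k) := by
    rw [← mul_inv_eq_one, mul_inv_rev, inv_eq_of_mul_eq_one_right (h.X2 _ m1), inv_eq_of_mul_eq_one_right (h.X2 _ m2)]
    exact h.X2 _ (mul_mem m2 m1)
  have m3 : ∀ k, ((1 : P3), t1 * k) ∈ X → (1, k) ∈ X := fun k m => (mul_mem_cancel_left m1).1 m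
  have A : ((1 : P3), t3) ∈ X → ∃ B, Co T Γ a R B := fun m => by
    obtain ⟨ψ, s, e1, e2⟩ := outer
    exact ((h.tw ψ s).core (by simpa [e1] using m1) (by simpa [e2] using m)).imp fun B => tw' ψ s
  have B1 := fun m => h.odd (k := swap 0 1) (c := t3) (ρ := sw 0 4 0 2 * sw 1 5 1 3) m1 m (by decide) (by decide) (by decide)
    (by decide) (by decide) (by decide) (by decide) (by decide +kernel) (by decide +kernel)
  have B2 := fun m => h.odd (k := swap 2 3) (c := t3) (ρ := sw 0 4 0 2 * sw 1 5 1 3) m1 m (by decide) (by decide) (by decide)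
    (by decide) (by decide) (by decide) (by decide) (by decide +kernel) (by decide +kernel)
  have B3 := fun m => h.odd (k := swap 0 1 * t2) (c := t2) (ρ := sw 3 5 3 4) m1 m (by decide) (by decide) (by decide)
    (by decide) (by decide) (by decide) (by decide) (by decide +kernel) (by decide +kernel)
  rcases cent_t1 k (congrArg Prod.snd c) (congrArg Prod.snd (h.X2 _ m2)) with
    rfl | rfl | rfl | rfl | rfl | rfl | rfl | rfl | rfl | rfl | rfl | rfl
  exacts [absurd (by decide) n, absurd (by decide) n, h.core m1 m2, h.core m1 (m3 _ m2), A m2, A (m3 _ m2), (B1 m2).elim,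
    (B1 (m3 _ m2)).elim, (B2 m2).elim, (B2 (m3 _ m2)).elim, (B3 m2).elim, (B3 (m3 _ m2)).elim]

theorem co : ∃ B, Co T Γ a R B := by
  obtain ⟨x, m1, e1, n1⟩ := h.ex2 {1} (by simp)
  obtain ⟨y, m2, e2, n2⟩ := h.ex2 {1, x} (Finset.card_le_two.trans (by omega))
  simp only [Finset.mem_insert, Finset.mem_singleton, not_or] at n1 n2
  have : ∃ w ∈ X, w.1 = 1 ∧ w ≠ 1 ∧ Perm.sign w.2 = 1 := by
    rcases Int.units_eq_one_or (Perm.sign x.2) with i | i
    · exact ⟨x, m1, e1, n1, i⟩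
    rcases Int.units_eq_one_or (Perm.sign y.2) with j | j
    · exact ⟨y, m2, e2, n2.1, j⟩
    exact ⟨x * y, mul_mem m1 m2, by simp [e1, e2], fun e => n2.2 (mul_left_cancel (e.trans (h.X2 x m1).symm)), by simp [i, j]⟩
  obtain ⟨⟨_, k⟩, m, rfl, n, s⟩ := this
  obtain ⟨c, e⟩ := isConj_iff.1 (conj_t1 (congrArg Prod.snd (h.X2 _ m)) (fun e => n (Prod.ext rfl e)) s)
  have s : ∀ g, Perm.sign (MulAut.conj c g) = Perm.sign g := fun g => by simp [mul_right_comm]
  exact ((h.tw _ s).co1 (by simpa [e] using m)).imp fun B => tw' _ s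

end Hy
end H01.XT
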