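import Mathlib
import Cfsg.Agent.H01.XS5
import Cfsg.Agent.H01.XT4
import Cfsg.Agent.H03.LX2

/-!
# The quadratic space `Q/Z(Q)` of an extraspecial 2-subgroup (namespace `H01.XT`)

`Md`, `mkV` (the additive model of `Q/⟨z⟩` with its forms and the action of `C(z)`), `Md.pull`, `Md.push`.
-/

set_option autoImplicit false
set_option linter.unusedSectionVars false
open Cfsg BG Subgroup H01.XS
open scoped commutatorElement

namespace H01.XT
universe u
variable {G : Type u} [Group G] [Finite G] {a e g r x y w z : G} {Q U : Subgroup G}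

structure Md0 (z : G) (Q : Subgroup G) {V : Type u} [AddCommGroup V] (ν : G → V) : Prop where
  lx : LX z Q
  mul : ∀ x ∈ Q, ∀ y ∈ Q, ν (x * y) = ν x + ν y
  sur : ∀ v, ∃ x ∈ Q, ν x = v
  ker : ∀ x ∈ Q, ν x = 0 ↔ x = 1 ∨ x = z

structure Md (z : G) (Q : Subgroup G) {V : Type u} [AddCommGroup V] (ν : G → V) (β : V →+ V →+ ZMod 2) (q : V → ZMod 2)
    (A : G → V →+ V) : Prop extends Md0 z Q ν where
  pol : ∀ u v, q (u + v) = q u + q v + β u v
  b : ∀ x ∈ Q, ∀ y ∈ Q, β (ν x) (ν y) = 0 ↔ Commute x y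
  sq : ∀ x ∈ Q, q (ν x) = 0 ↔ x * x = 1
  act : ∀ g ∈ C_[z], ∀ x ∈ Q, A g (ν x) = ν (g * x * g⁻¹)

theorem mkV0 (h : LX z Q) : ∃ (V : Type u) (_ : AddCommGroup V) (_ : Finite V) (ν : G → V), Md0 z Q ν := by
  classical
  let Z := (zpowers z).subgroupOf Q
  have : Z.Normal := ⟨fun n m g => by
    have := (h.aes.commute (mem_subgroupOf.1 m) g.2).eq
    rw [mem_subgroupOf]; push_cast; rw [this, mul_inv_cancel_right]; exact m⟩
  let _ : CommGroup (Q ⧸ Z) := { (inferInstance : Group (Q ⧸ Z)) with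
    mul_comm := fun x y => by
      induction x using QuotientGroup.induction_on with | H x =>
      induction y using QuotientGroup.induction_on with | H y =>
      rw [← QuotientGroup.mk_mul, ← QuotientGroup.mk_mul, QuotientGroup.eq, mem_subgroupOf]
      simpa [commutatorElement_def, mul_assoc] using h.aes.comm _ (inv_mem y.2) _ (inv_mem x.2) }
  refine ⟨Additive (Q ⧸ Z), inferInstance, inferInstance, fun x => if m : x ∈ Q then .ofMul (QuotientGroup.mk ⟨x, m⟩) else 0,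
    h, fun x i y j => ?_, fun v => ?_, fun x i => ?_⟩
  · rw [dif_pos i, dif_pos j, dif_pos (mul_mem i j)]; rfl
  · obtain ⟨x, k⟩ := QuotientGroup.mk_surjective v.toMul
    exact ⟨x, x.2, by rw [dif_pos x.2]; exact congrArg Additive.ofMul k⟩
  · rw [dif_pos i, ofMul_eq_zero, QuotientGroup.eq_one_iff, mem_subgroupOf]
    exact ⟨h.aes.eq_or, by rintro (rfl | rfl); exacts [one_mem _, mem_zpowers _]⟩

namespace Md0
variable {V : Type u} [AddCommGroup V] {ν : G → V} (m : Md0 z Q ν) {B : AddSubgroup V}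
include m

theorem one : ν 1 = 0 := (m.ker _ (one_mem _)).2 (.inl rfl)
theorem zz : ν z = 0 := (m.ker _ m.lx.aes.mem).2 (.inr rfl)
theorem two (v : V) : v + v = 0 := by
  obtain ⟨x, i, rfl⟩ := m.sur v
  rw [← m.mul x i x i, m.ker _ (mul_mem i i), ← pow_two]; exact m.lx.sq i
theorem inv (i : x ∈ Q) : ν x⁻¹ = ν x := by
  have := m.mul _ (inv_mem i) _ i
  rw [inv_mul_cancel, m.one] at this
  exact add_right_cancel (this.symm.trans (m.two _).symm)
theorem zm (i : x ∈ Q) : ν (z * x) = ν x := by rw [m.mul _ m.lx.aes.mem _ i, m.zz, zero_add]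
theorem eq (i : x ∈ Q) (j : y ∈ Q) (e : ν x = ν y) : x = y ∨ x = z * y := by
  have := (m.ker _ (mul_mem i (inv_mem j))).1 (by rw [m.mul _ i _ (inv_mem j), m.inv j, e, m.two])
  exact this.imp mul_inv_eq_one.1 mul_inv_eq_iff_eq_mul.1
theorem cq (i : x ∈ Q) (j : y ∈ Q) : ν (x * y * x⁻¹) = ν y := by
  rw [m.mul _ (mul_mem i j) _ (inv_mem i), m.mul _ i _ j, m.inv i, add_right_comm, m.two, zero_add]

def pull (B : AddSubgroup V) : Subgroup G where
  carrier := {x | x ∈ Q ∧ ν x ∈ B}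
  one_mem' := ⟨one_mem _, m.one ▸ zero_mem _⟩
  mul_mem' := fun i j => ⟨mul_mem i.1 j.1, m.mul _ i.1 _ j.1 ▸ add_mem i.2 j.2⟩
  inv_mem' := fun i => ⟨inv_mem i.1, (m.inv i.1).symm ▸ i.2⟩

def push (U : Subgroup G) : AddSubgroup V where
  carrier := {v | ∃ x ∈ Q, x ∈ U ∧ ν x = v}
  zero_mem' := ⟨1, one_mem _, one_mem _, m.one⟩
  add_mem' := by
    rintro _ _ ⟨x, i, i', rfl⟩ ⟨y, j, j', rfl⟩
    exact ⟨_, mul_mem i j, mul_mem i' j', m.mul _ i _ j⟩
  neg_mem' := by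
    rintro _ ⟨x, i, i', rfl⟩
    exact ⟨x, i, i', eq_neg_of_add_eq_zero_left (m.two _)⟩

theorem mem_push (zU : z ∈ U) (i : x ∈ Q) : ν x ∈ m.push U ↔ x ∈ U :=
  ⟨fun ⟨y, j, j', e⟩ => by rcases m.eq i j e.symm with rfl | rfl; exacts [j', mul_mem zU j'], fun j => ⟨x, i, j, rfl⟩⟩

theorem card_pull (B : AddSubgroup V) : Nat.card (m.pull B) = 2 * Nat.card B := by
  choose s hs es using m.sur
  have zQ := m.lx.aes.mem
  let f : Bool × B → m.pull B := fun p => ⟨if p.1 then s p.2 else z * s p.2, by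
    split_ifs
    · exact ⟨hs _, (es _).symm ▸ p.2.2⟩
    · exact ⟨mul_mem zQ (hs _), by rw [m.zm (hs _), es]; exact p.2.2⟩⟩
  have k : ∀ p, ν (f p) = p.2 := by
    rintro ⟨_ | _, v⟩
    exacts [(m.zm (hs _)).trans (es _), es _]
  rw [← Nat.card_eq_of_bijective f ⟨?_, ?_⟩]
  · simp
  · rintro ⟨b, u⟩ ⟨c, v⟩ e
    obtain rfl : u = v := Subtype.ext ((k (b, u)).symm.trans (e ▸ k (c, v)))
    have e := congrArg Subtype.val e
    cases b <;> cases c <;> simp [f, m.lx.z1] at e ⊢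
  · rintro ⟨x, i, j⟩
    rcases m.eq i (hs _) (es _).symm with e | e
    exacts [⟨(true, ⟨_, j⟩), Subtype.ext e.symm⟩, ⟨(false, ⟨_, j⟩), Subtype.ext e.symm⟩]

theorem card_push (zU : z ∈ U) : Nat.card ↥(Q ⊓ U) = 2 * Nat.card (m.push U) := by
  rw [show Q ⊓ U = m.pull (m.push U) from Subgroup.ext fun x => and_congr_right fun i => (m.mem_push zU i).symm, m.card_pull]

theorem md : ∃ β q A, Md z Q ν β q A := by
  classical
  choose s hs es using m.sur
  have h := m.lx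
  have zQ := h.aes.mem
  let χ : G → ZMod 2 := fun w => if w = 1 then 0 else 1
  have χm : ∀ x ∈ zpowers z, ∀ y ∈ zpowers z, χ (x * y) = χ x + χ y := fun x i y j => by
    rcases h.aes.eq_or i with rfl | rfl <;> rcases h.aes.eq_or j with rfl | rfl <;> simp [χ, h.zz, h.z1]
    rfl
  have cz : ∀ x ∈ Q, Commute z x := fun x i => (mem_cent1.1 (h.le i)).symm
  have c1 : ∀ x ∈ Q, ∀ y ∈ Q, ⁅s (ν x), y⁆ = ⁅x, y⁆ := fun x i y j => by
    rcases m.eq (hs _) i (es _) with e | e <;> rw [e]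
    rw [h.aes.comm_mul_left zQ i j, (cz y j).commutator_eq, mul_one]
  have c2 : ∀ x ∈ Q, ∀ y ∈ Q, ⁅y, s (ν x)⁆ = ⁅y, x⁆ := fun x i y j => by
    rw [← commutatorElement_inv, c1 x i y j, commutatorElement_inv]
  have c3 : ∀ x ∈ Q, s (ν x) ^ 2 = x ^ 2 := fun x i => by
    rcases m.eq (hs _) i (es _) with e | e <;> rw [e]
    rw [(cz x i).mul_pow, pow_two z, h.zz, one_mul]
  have sa : ∀ u v, u + v = ν (s u * s v) := fun u v => by rw [m.mul _ (hs u) _ (hs v), es, es]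
  have c4 : ∀ g ∈ C_[z], ∀ x ∈ Q, ν (g * s (ν x) * g⁻¹) = ν (g * x * g⁻¹) := fun g hg x i => by
    rcases m.eq (hs _) i (es _) with e | e <;> rw [e]
    rw [← mul_assoc, mem_cent1.1 hg, mul_assoc z, mul_assoc z, m.zm (h.cE hg i)]
  refine ⟨AddMonoidHom.mk' (fun u => AddMonoidHom.mk' (fun v => χ ⁅s u, s v⁆) fun v w => ?_) fun u v => ?_,
    fun v => χ (s v ^ 2), fun g => if hg : g ∈ C_[z] then AddMonoidHom.mk' (fun v => ν (g * s v * g⁻¹)) fun v w => ?_ else 0,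
    m, fun u v => ?_, fun x i y j => ?_, fun x i => ?_, fun g hg x i => ?_⟩
  · rw [sa, c2 _ (mul_mem (hs _) (hs _)) _ (hs _), h.aes.comm_mul_right (hs _) (hs _) (hs _),
      χm _ (h.aes.comm _ (hs _) _ (hs _)) _ (h.aes.comm _ (hs _) _ (hs _))]
  · ext w
    simp only [AddMonoidHom.mk'_apply, AddMonoidHom.add_apply]
    rw [sa, c1 _ (mul_mem (hs _) (hs _)) _ (hs _), h.aes.comm_mul_left (hs _) (hs _) (hs _),
      χm _ (h.aes.comm _ (hs _) _ (hs _)) _ (h.aes.comm _ (hs _) _ (hs _)), add_comm]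
  · rw [sa, c4 g hg _ (mul_mem (hs _) (hs _)), ← m.mul _ (h.cE hg (hs _)) _ (h.cE hg (hs _)), conj_mul]
  · simp only [AddMonoidHom.mk'_apply]
    rw [add_comm u, sa, c3 _ (mul_mem (hs _) (hs _)), h.aes.mul_pow (hs _) (hs _), Nat.choose_self, pow_one,
      χm _ (mul_mem (h.aes.pow _ (hs _)) (h.aes.pow _ (hs _))) _ (h.aes.comm _ (hs _) _ (hs _)),
      χm _ (h.aes.pow _ (hs _)) _ (h.aes.pow _ (hs _)), add_comm (χ (s v ^ 2))]
  · simp only [AddMonoidHom.mk'_apply]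
    rw [c1 x i _ (hs _), c2 y j x i, ← commutatorElement_eq_one_iff_commute]
    simp [χ]
  · rw [c3 x i, pow_two]; simp [χ]
  · rw [dif_pos hg]; exact c4 g hg x i

end Md0

theorem mkV (h : LX z Q) (c : Nat.card Q = 512) : ∃ (V : Type u) (_ : AddCommGroup V) (_ : Module (ZMod 2) V) (_ : Finite V)
    (ν : G → V) (β : V →+ V →+ ZMod 2) (q : V → ZMod 2) (A : G → V →+ V), Md z Q ν β q A ∧ QS β q := by
  obtain ⟨V, _, _, ν, m⟩ := mkV0 h
  obtain ⟨β, q, A, m'⟩ := m.md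
  refine ⟨V, _, AddCommGroup.zmodModule fun v => (two_nsmul v).trans (m.two v), ‹_›, ν, β, q, A, m', ?_, m'.pol, fun u k => ?_⟩
  · have := m.card_pull ⊤
    rw [show m.pull ⊤ = Q from Subgroup.ext fun x => and_iff_left trivial, AddSubgroup.card_top] at this
    omega
  · obtain ⟨x, i, rfl⟩ := m.sur u
    exact (m.ker x i).2 (h.cz fun e j => ((m'.b x i e j).1 (k _)).symm.eq)

end H01.XT
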