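import Mathlib
import Cfsg.Agent.H01.XT5

/-!
# Involution centralizers `2^{1+8}.(S₃ × A₆)` and relatives (namespace `H01.XT`)

`St z Q π` (the setting), `Pk` (the elementary abelian subgroup `B` of order 32 spanned by the `A₆`-conjugates of a
conjugate `a ∈ Q` of `z`), `St.pk`.
-/

set_option autoImplicit false
set_option linter.unusedSectionVars false
open Cfsg BG Subgroup H01.XS Equiv
open scoped commutatorElement

namespace H01.XT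
universe u
variable {G : Type u} [Group G] [Finite G] {a e g r x y w z : G} {Q Q' U : Subgroup G} {π : G → P}

structure St (z : G) (Q : Subgroup G) (π : G → P) : Prop where
  lx : LX z Q
  card : Nat.card Q = 512
  mul : ∀ x ∈ C_[z], ∀ y ∈ C_[z], π (x * y) = π x * π y
  ker : ∀ x ∈ C_[z], π x = 1 ↔ x ∈ Q
  ev : ∀ σ τ, Perm.sign σ = 1 → Perm.sign τ = 1 → ∃ x ∈ C_[z], π x = (σ, τ)

structure Pk (z a : G) (Q Q' L B : Subgroup G) : Prop where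
  QL : Q ≤ L
  LH : L ≤ C_[z]
  nL : C_[z] ≤ N_(L)
  BQ : B ≤ Q
  zB : z ∈ B
  aB : a ∈ B
  cB : Nat.card B = 32
  orb : ∀ b ∈ B, b = 1 ∨ b = z ∨ ∃ l ∈ L, l * a * l⁻¹ = b
  nB : L ≤ N_(B)
  cR : Nat.card ↥(B ⊓ Q') = 16
  s1 : ∀ g ∈ C_[z], g ∈ C_[a] → ∀ r ∈ Q, r ∈ Q' → r⁻¹ * (g * r * g⁻¹) ∈ B
  s2 : ∀ t ∈ B, t ∈ Q' → ∃ w, (w = 1 ∨ w = z ∨ w = a ∨ w = z * a) ∧ ∃ g ∈ C_[z], g ∈ C_[a] ∧ ∃ r ∈ Q, r ∈ Q' ∧
    t = w * (r⁻¹ * (g * r * g⁻¹))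
  fa : ∀ l ∈ L, l ∈ C_(B) → l ∈ Q
  cc : ∀ x ∈ Q, x ∈ C_(B) → x ∈ B
  tr : ∃ e0 ∈ Q, ∀ e ∈ Q, e ∉ B → ∃ l ∈ L, ∃ b ∈ B, e = l * e0 * l⁻¹ * b
  xe : ∀ x ∈ Q', ∀ e ∈ Q, ¬ Commute e a → e⁻¹ * x * e ∈ Q' → x ∈ Q

theorem St.cj (s : St z Q π) (g : G) : St (g * z * g⁻¹) (cj g Q) fun x => π (g⁻¹ * x * g) := by
  have k : ∀ x, x ∈ C_[g * z * g⁻¹] ↔ g⁻¹ * x * g ∈ C_[z] := fun x => by rw [← cj_cent1, mem_cj]
  refine ⟨s.lx.cj g, (card_cj _ _).trans s.card, fun x i y j => ?_, fun x i => (s.ker _ ((k x).1 i)).trans mem_cj.symm,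
    fun σ τ i j => ?_⟩
  · rw [← s.mul _ ((k x).1 i) _ ((k y).1 j)]; congr 1; group
  · obtain ⟨x, m, e⟩ := s.ev σ τ i j
    exact ⟨g * x * g⁻¹, (k _).2 (by simpa [mul_assoc] using m), by simpa [mul_assoc] using e⟩

theorem lx_of (h : H03.ES Q z) : LX z Q := ⟨h.aes, h.cent, h.norm⟩

theorem xe (p : H03.PP Q z Q' a) (i : x ∈ Q') (j : e ∈ Q) (n : ¬ Commute e a) (m : e⁻¹ * x * e ∈ Q') : x ∈ Q := by
  have h := lx_of p.h
  have h' := lx_of p.h'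
  obtain ⟨f, fQ, ef⟩ := p.h'.lx.exists_conj p.hz h.zz p.symm.notMem
  have e1 : e⁻¹ * a * e⁻¹⁻¹ = z * a := (h.cj2 (inv_mem j) p.hs).resolve_left fun k =>
    n (Commute.inv_left_iff.1 (mul_inv_eq_iff_eq_mul.1 k))
  have e2 : e⁻¹ * f * z * (e⁻¹ * f)⁻¹ = a := by
    rw [show e⁻¹ * f * z * (e⁻¹ * f)⁻¹ = e⁻¹ * (f * z * f⁻¹) * e⁻¹⁻¹ by group, ef, ← conj_mul, e1,
      mem_cent1.1 (h.le (inv_mem j)), mul_inv_cancel_right, ← mul_assoc, h.zz, one_mul]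
  rw [← p.link _ e2, mem_cj, show (e⁻¹ * f)⁻¹ * (e⁻¹ * x * e) * (e⁻¹ * f) = f⁻¹ * x * f⁻¹⁻¹ by group] at m
  rcases h'.cj2 (inv_mem fQ) i with k | k <;> rw [k] at m
  exacts [m, (mul_mem_cancel_left p.hs).1 m]

theorem St.pk (s : St z Q π) (p : H03.PP Q z Q' a) (c' : Nat.card Q' = 512) : ∃ L B, Pk z a Q Q' L B := by
  obtain ⟨V, _, _, _, ν, β, q, A, m, qs⟩ := mkV s.lx s.card
  have h := s.lx
  have h' := lx_of p.h'
  have aQ := p.hs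
  have zQ := h.aes.mem
  let f : C_[z] →* P := MonoidHom.mk' (fun x => π x) fun x y => s.mul _ x.2 _ y.2
  have π1 : π 1 = 1 := f.map_one
  have πi : ∀ x ∈ C_[z], π x⁻¹ = (π x)⁻¹ := fun x i => f.map_inv ⟨x, i⟩
  have ex : ∀ k : P, ∃ x ∈ C_[z], k ∈ f.range → π x = k := fun k => by
    by_cases i : k ∈ f.range
    · obtain ⟨x, e⟩ := i; exact ⟨x, x.2, fun _ => e⟩
    · exact ⟨1, one_mem _, fun j => absurd j i⟩
  choose ℓ hℓ eℓ using ex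
  have rg : ∀ g ∈ C_[z], π g ∈ f.range := fun g i => ⟨⟨g, i⟩, rfl⟩
  have act : ∀ g ∈ C_[z], ∀ x ∈ Q, A (ℓ (π g)) (ν x) = ν (g * x * g⁻¹) := fun g i x j => by
    have : g⁻¹ * ℓ (π g) ∈ Q := (s.ker _ (mul_mem (inv_mem i) (hℓ _))).1 (by
      rw [s.mul _ (inv_mem i) _ (hℓ _), eℓ _ (rg g i), πi g i, inv_mul_cancel])
    have e := congrArg (A g) (m.cq this j)
    rw [m.act g i _ (h.cE (h.le this) j), m.act g i _ j] at e
    rw [m.act _ (hℓ _) _ j, ← e]; congr 1; group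
  let X := ((Q' ⊓ C_[z]).subgroupOf C_[z]).map f
  have mX : ∀ k, k ∈ X ↔ ∃ x ∈ Q', x ∈ C_[z] ∧ π x = k := fun k =>
    ⟨fun ⟨x, i, e⟩ => ⟨x, i.1, x.2, e⟩, fun ⟨x, i, j, e⟩ => ⟨⟨x, j⟩, ⟨i, j⟩, e⟩⟩
  have mR : ∀ x ∈ Q, ν x ∈ m.push Q' ↔ x ∈ Q' := fun x i => m.mem_push p.hz i
  have add : ∀ x ∈ Q, ∀ y ∈ Q, ν x + ν y = ν (x⁻¹ * y) := fun x i y j => by rw [m.mul _ (inv_mem i) _ j, m.inv i]
  have adj : ∀ g ∈ C_[z], A (ℓ (π g)) (ν a) = ν a → ∃ k ∈ C_[z], k ∈ C_[a] ∧ π k = π g := fun g i e => by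
    rw [act g i a aQ] at e
    rcases m.eq (h.cE i aQ) aQ e with e | e
    · exact ⟨g, i, H03.mem_cent1c.2 e, rfl⟩
    · obtain ⟨k, kQ, ek⟩ := p.h.lx.exists_conj aQ h'.zz p.notMem
      refine ⟨k⁻¹ * g, mul_mem (inv_mem (h.le kQ)) i, H03.mem_cent1c.2 ?_, by
        rw [s.mul _ (inv_mem (h.le kQ)) _ i, (s.ker _ (inv_mem (h.le kQ))).2 (inv_mem kQ), one_mul]⟩
      rw [show k⁻¹ * g * a * (k⁻¹ * g)⁻¹ = k⁻¹ * (g * a * g⁻¹) * k by group, e, ← p.comm, ← ek]; group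
  have H : Hy (fun k => A (ℓ k)) f.range X β q (ν a) (m.push Q') := by
    refine { qs with
      ev := fun σ τ i j => (s.ev σ τ i j).elim fun x e => e.2 ▸ rg x e.1
      one := fun v => ?_, mul := ?_, fai := ?_, qT := ?_, a0 := fun e => ((m.ker a aQ).1 e).elim h'.z1 p.ne
      qa := (m.sq a aQ).2 h'.zz, aR := (mR a aQ).2 h'.aes.mem, iso := ?_, XΓ := map_le_range _ _, X2 := fun k i => ?_
      Xa := fun k i => ?_, Xp := fun k i v n => ?_, XR := fun k i r j => ?_, Xe := fun k i v n j => ?_, cX := ?_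
      st := ?_ }
    · obtain ⟨x, i, rfl⟩ := m.sur v
      rw [← π1, act 1 (one_mem _) x i]; simp
    · rintro _ ⟨⟨x, i⟩, rfl⟩ _ ⟨⟨y, j⟩, rfl⟩ v
      obtain ⟨w, k, rfl⟩ := m.sur v
      show A (ℓ (π x * π y)) _ = A (ℓ (π x)) (A (ℓ (π y)) _)
      rw [← s.mul x i y j, act _ (mul_mem i j) w k, act y j w k, act x i _ (h.cE j k)]; congr 1; group
    · rintro _ ⟨⟨x, i⟩, rfl⟩ k
      refine (s.ker x i).2 (p.h.inner i fun w j => ?_)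
      rcases m.eq (h.cE i j) j ((act x i w j).symm.trans (k _)) with e | e <;> rw [e]
      · simp
      · simp
    · rintro _ ⟨⟨x, i⟩, rfl⟩ v
      obtain ⟨w, k, rfl⟩ := m.sur v
      show q (A (ℓ (π x)) _) = _
      rw [act x i w k]
      have := m.sq _ (h.cE i k)
      rw [conj_mul, conj_eq_one_iff, ← m.sq w k] at this
      revert this; generalize q (ν _) = s, q (ν w) = t; revert s t; decide
    · rintro _ ⟨x, i, i', rfl⟩ _ ⟨y, j, j', rfl⟩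
      refine (m.b x i y j).2 ((h.cm i j).elim id fun e => (h'.cm i' j').elim id fun e' => absurd ?_ p.ne)
      exact mul_right_cancel (mul_right_cancel (e'.symm.trans e))
    all_goals try (replace i := (mX k).1 i; obtain ⟨x, i, j', rfl⟩ := i)
    · rw [← s.mul x j' x j', s.ker _ (mul_mem j' j'), ← pow_two]
      rcases h'.sq i with e | e <;> rw [e]
      exacts [one_mem _, aQ]
    · rw [act x j' a aQ, H03.mem_cent1c.1 (h'.le i)]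
    · obtain ⟨w, k, rfl⟩ := m.sur v
      rw [act x j' w k, add _ k _ (h.cE j' k), mR _ (mul_mem (inv_mem k) (h.cE j' k)), ← mul_assoc, ← mul_assoc]
      exact mul_mem (h'.cE' (cc.2 ((m.b a aQ w k).1 n).symm) i) (inv_mem i)
    · obtain ⟨r, k, k', rfl⟩ := j
      rw [act x j' r k]
      rcases h'.cj2 i k' with e | e <;> rw [e]
      exacts [.inl rfl, .inr (by rw [m.mul _ aQ _ k, add_comm])]
    · obtain ⟨w, k, rfl⟩ := m.sur v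
      rw [act x j' w k, add _ k _ (h.cE j' k), mR _ (mul_mem (inv_mem k) (h.cE j' k)), ← mul_assoc, ← mul_assoc,
        mul_mem_cancel_right (inv_mem i)] at j
      exact (s.ker x j').2 (xe p i k (fun c => by rw [(m.b a aQ w k).2 c.symm] at n; exact absurd n (by decide)) j)
    · have a1 := card_inf_mul_relIndex f.ker ((Q' ⊓ C_[z]).subgroupOf C_[z])
      rw [relIndex_ker, show f.ker ⊓ (Q' ⊓ C_[z]).subgroupOf C_[z] = (Q ⊓ Q').subgroupOf C_[z] from Subgroup.ext fun x =>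
        ⟨fun i => ⟨(s.ker _ x.2).1 i.1, i.2.1⟩, fun i => ⟨(s.ker _ x.2).2 i.1, i.2, x.2⟩⟩,
        Nat.card_congr (subgroupOfEquivOfLe (inf_le_left.trans h.le)).toEquiv,
        Nat.card_congr (subgroupOfEquivOfLe inf_le_right).toEquiv, m.card_push p.hz] at a1
      have a2 := h'.perp p.V_le' (subset_closure (by simp))
      rw [p.card_V, c', H03.cent_pair, ← inf_assoc, inf_eq_left.2 (inf_le_left.trans h'.le), ← a1] at a2
      show Nat.card X * _ = _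
      linarith
    · rintro _ ⟨⟨g, i⟩, rfl⟩ e
      obtain ⟨k, i, i', ek⟩ := adj g i e
      rw [show f ⟨g, _⟩ = π k from ek.symm]
      refine ⟨fun y j => ?_, ?_⟩
      · replace j := (mX y).1 j
        obtain ⟨x, j, j', rfl⟩ := j
        exact (mX _).2 ⟨_, h'.cE i' j, mul_mem (mul_mem i j') (inv_mem i), by
          rw [s.mul _ (mul_mem i j') _ (inv_mem i), s.mul _ i _ j', πi k i]⟩
      · rintro _ ⟨r, j, j', rfl⟩
        rw [act k i r j]; exact ⟨_, h.cE i j, h'.cE i' j', rfl⟩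
  obtain ⟨B, c⟩ := H.co
  let L : Subgroup G :=
    { carrier := {x | x ∈ C_[z] ∧ (π x).1 = 1 ∧ Perm.sign (π x).2 = 1}
      one_mem' := ⟨one_mem _, by simp [π1]⟩
      mul_mem' := fun i j => ⟨mul_mem i.1 j.1, by simp [s.mul _ i.1 _ j.1, i.2, j.2]⟩
      inv_mem' := fun i => ⟨inv_mem i.1, by simp [πi _ i.1, i.2]⟩ }
  have QL : Q ≤ L := fun x i => ⟨h.le i, by simp [(s.ker _ (h.le i)).2 i]⟩
  have l1 : ∀ k, Perm.sign k = 1 → ∃ l ∈ L, ∀ x ∈ Q, A (ℓ (1, k)) (ν x) = ν (l * x * l⁻¹) := fun k i => by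
    obtain ⟨l, j, e⟩ := s.ev 1 k (by simp) i
    exact ⟨l, ⟨j, by simp [e, i]⟩, fun x o => e ▸ act l j x o⟩
  have l2 : ∀ l ∈ L, ∀ x ∈ Q, A (ℓ (1, (π l).2)) (ν x) = ν (l * x * l⁻¹) := fun l i x j => by
    rw [← act l i.1 x j, ← i.2.1]
  have kB : ∀ k, Perm.sign k = 1 → ∀ v ∈ B, A (ℓ (1, k)) v ∈ B := fun k i v j => by
    rcases (c.mem v).1 j with rfl | ⟨k', i', rfl⟩
    · simp
    · exact (c.mem _).2 (.inr ⟨k * k', by simp [i, i'], H.mm _ _ _ i i'⟩)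
  have aB : ν a ∈ B := (c.mem _).2 (.inr ⟨1, rfl, (H.one _).symm⟩)
  have qB : ∀ v ∈ B, q v = 0 := fun v i => by
    rcases (c.mem v).1 i with rfl | ⟨k, i', rfl⟩
    exacts [qs.q0, (H.qT _ (H.mem i') _).trans H.qa]
  have iB : ∀ u ∈ B, ∀ v ∈ B, β u v = 0 := fun u hu v hv => by
    have := qs.pol u v
    rw [qB u hu, qB v hv, qB _ (add_mem hu hv)] at this; exact lc this
  refine ⟨L, m.pull B, QL, fun _ i => i.1, le_norm_iff.2 fun g i l j => ⟨mul_mem (mul_mem i j.1) (inv_mem i), ?_⟩,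
    fun _ i => i.1, ⟨zQ, m.zz ▸ zero_mem _⟩, ⟨aQ, aB⟩, by rw [m.card_pull, c.cB], fun b i => ?_,
    le_norm_iff.2 fun l i b j => ⟨h.cE i.1 j.1, l2 l i b j.1 ▸ kB _ i.2.2 _ j.2⟩, ?_, fun g i i' r j j' => ?_,
    fun t i j => ?_, fun l i j => ?_, fun x i j => ⟨i, ?_⟩, ?_, fun x i e j => xe p i j⟩
  · simp [s.mul _ (mul_mem i j.1) _ (inv_mem i), s.mul _ i _ j.1, πi g i, j.2]
  · rcases (c.mem _).1 i.2 with e | ⟨k, sk, e⟩
    · exact ((m.ker b i.1).1 e).imp_right .inl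
    obtain ⟨l, j, el⟩ := l1 k sk
    rcases m.eq i.1 (h.cE j.1 aQ) (e.trans (el a aQ)) with e | e
    · exact .inr (.inr ⟨l, j, e.symm⟩)
    · obtain ⟨k, kQ, ek⟩ := p.h.lx.exists_conj aQ h'.zz p.notMem
      refine .inr (.inr ⟨l * k, mul_mem j (QL kQ), ?_⟩)
      rw [e, ← mul_assoc, ← mul_assoc, ← mem_cent1.1 j.1, mul_assoc l z, ← p.comm, ← ek]; group
  · rw [show m.pull B ⊓ Q' = m.pull (B ⊓ m.push Q') from Subgroup.ext fun x =>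
      ⟨fun i => ⟨i.1.1, i.1.2, (mR x i.1.1).2 i.2⟩, fun i => ⟨⟨i.1, i.2.1⟩, (mR x i.1).1 i.2.2⟩⟩, m.card_pull, c.cBR]
  · refine ⟨mul_mem (inv_mem j) (h.cE i j), ?_⟩
    rw [← add _ j _ (h.cE i j), ← act g i r j]
    exact c.s1 _ (rg g i) (by rw [act g i a aQ, H03.mem_cent1c.1 i']) _ ((mR r j).2 j')
  · rcases c.s2 _ i.2 ((mR t i.1).2 j) with e | e | ⟨_, ⟨⟨g, o⟩, rfl⟩, e, _, ⟨r, k, k', rfl⟩, e'⟩
    · exact ⟨t, ((m.ker t i.1).1 e).imp_right .inl, 1, one_mem _, one_mem _, 1, one_mem _, one_mem _, by simp⟩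
    · exact ⟨t, .inr (.inr (m.eq i.1 aQ e)), 1, one_mem _, one_mem _, 1, one_mem _, one_mem _, by simp⟩
    obtain ⟨g', o, o', eg⟩ := adj g o e
    rw [show f ⟨g, _⟩ = π g' from eg.symm, act g' o r k, add _ k _ (h.cE o k)] at e'
    rcases m.eq i.1 (mul_mem (inv_mem k) (h.cE o k)) e' with e | e
    exacts [⟨1, .inl rfl, g', o, o', r, k, k', by rw [one_mul, e]⟩, ⟨z, .inr (.inl rfl), g', o, o', r, k, k', e⟩]
  · refine (s.ker l i.1).1 (Prod.ext i.2.1 (c.fa _ i.2.2 fun v o => ?_))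
    obtain ⟨x, k, rfl⟩ := m.sur v
    rw [l2 l i x k, ← mem_cent.1 j x ⟨k, o⟩, mul_inv_cancel_right]
  · refine qs.perp iB (by rw [c.cB]; omega) fun v o => ?_
    obtain ⟨y, k, rfl⟩ := m.sur v
    exact (m.b x i y k).2 (mem_cent.1 j y ⟨k, o⟩).symm
  · obtain ⟨v, k⟩ := c.tr
    obtain ⟨e0, i, rfl⟩ := m.sur v
    refine ⟨e0, i, fun e j n => ?_⟩
    obtain ⟨k, sk, o⟩ := k (ν e) fun o => n ⟨j, o⟩
    obtain ⟨l, o', el⟩ := l1 k sk
    rw [el e0 i, add_comm, add _ (h.cE o'.1 i) _ j] at o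
    exact ⟨l, o', _, ⟨mul_mem (inv_mem (h.cE o'.1 i)) j, o⟩, by group⟩

end H01.XT
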