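import Mathlib
import Cfsg.Agent.H01.XT6

/-!
# No group with `O²(G) = G` has an involution centralizer `2^{1+8}.(S₃ × A₆)` or a relative (namespace `H01.XT`)

`Sy.no` (the invariant quadratic form on `Q/B`), `St.no`.
-/

set_option autoImplicit false
set_option linter.unusedSectionVars false
open Cfsg BG Subgroup H01.XS Equiv
open scoped commutatorElement

namespace H01.XT
universe u
variable {G : Type u} [Group G] [Finite G] {a b e g l u v w x y z : G} {Q Q' L L' B B' U W : Subgroup G} {π : G → P}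
  {F : G → Subgroup G} {Ω : Set G}

def Hp (U W : Subgroup G) : Prop := ∀ x ∈ W, ∀ y ∈ W, x ∉ U → y ∉ U → x * y ∈ U

theorem Hp.mono (h : Hp U W) {W' : Subgroup G} (l : W' ≤ W) : Hp U W' := fun x i y j => h x (l i) y (l j)

theorem Hp.card (h : Hp U W) : Nat.card W ≤ 2 * Nat.card ↥(U ⊓ W) := by
  by_cases l : W ≤ U
  · rw [inf_eq_right.2 l]; omega
  · obtain ⟨x, i, n⟩ := SetLike.not_le_iff_exists.1 l
    have := card_inf_mul_relIndex U W
    rw [two_idx i n h] at this; omega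

theorem Hp.iff (h : Hp U W) (i : x ∈ W) (j : y ∈ W) : x * y ∈ U ↔ (x ∈ U ↔ y ∈ U) := by
  by_cases k : x ∈ U
  · simp [k, mul_mem_cancel_left k]
  by_cases k' : y ∈ U
  · simp [k', mul_mem_cancel_right k']
  · simp [k, k', h x i y j k k']

theorem Hp.cj (h : Hp U W) (n : g ∈ N_(W)) : Hp (cj g U) W := fun x i y j k k' => by
  rw [mem_cj] at *
  rw [show g⁻¹ * (x * y) * g = g⁻¹ * x * g * (g⁻¹ * y * g) by group]
  exact h _ (conj_mem_of_norm' n i) _ (conj_mem_of_norm' n j) k k'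

theorem hp_of (c : Nat.card W = 2 * Nat.card ↥(W ⊓ U)) : Hp U W := fun x i y j k k' => by
  have := card_inf_mul_relIndex U W
  rw [c, inf_comm, mul_comm] at this
  exact (km (Nat.eq_of_mul_eq_mul_right (card_pos _) this) i j).2 (iff_of_false k k')

theorem exS (S : Finset G) (c : S.card < Nat.card U) : ∃ x ∈ U, x ∉ S := by
  by_contra! k
  have := Set.ncard_le_ncard (show (U : Set G) ⊆ S from k)
  rw [H04.ncard_coe_subgroup, Set.ncard_coe_finset] at this; omega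

theorem ex4 (c : 4 * Nat.card B < Nat.card Q) (f1 f2 f3 f4 : G → G) (i1 : f1.Injective) (i2 : f2.Injective)
    (i3 : f3.Injective) (i4 : f4.Injective) : ∃ x ∈ Q, f1 x ∉ B ∧ f2 x ∉ B ∧ f3 x ∉ B ∧ f4 x ∉ B := by
  by_contra k
  have s : (Q : Set G) ⊆ (f1 ⁻¹' B ∪ f2 ⁻¹' B) ∪ (f3 ⁻¹' B ∪ f4 ⁻¹' B) := fun x i => by
    by_contra n
    simp only [Set.mem_union, not_or] at n
    exact k ⟨x, i, n.1.1, n.1.2, n.2.1, n.2.2⟩
  have t : ∀ f : G → G, f.Injective → (f ⁻¹' B).ncard ≤ Nat.card B := fun f i => by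
    rw [← H04.ncard_coe_subgroup]; exact Set.ncard_le_ncard_of_injOn f (fun _ => id) i.injOn
  have := Set.ncard_le_ncard s
  have := Set.ncard_union_le (f1 ⁻¹' B ∪ f2 ⁻¹' B) (f3 ⁻¹' B ∪ f4 ⁻¹' B)
  have := Set.ncard_union_le (f1 ⁻¹' B) (f2 ⁻¹' B)
  have := Set.ncard_union_le (f3 ⁻¹' B) (f4 ⁻¹' B)
  have := t _ i1; have := t _ i2; have := t _ i3; have := t _ i4
  rw [H04.ncard_coe_subgroup] at *; omega

structure Sy (Ω : Set G) (F : G → Subgroup G) (z a : G) (L L' B B' : Subgroup G) : Prop where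
  cj : ∀ u ∈ Ω, ∀ g, g * u * g⁻¹ ∈ Ω
  lx : ∀ u ∈ Ω, LX u (F u)
  ce : ∀ u ∈ Ω, ∀ g, F (g * u * g⁻¹) = BG.cj g (F u)
  sym : ∀ u ∈ Ω, ∀ v ∈ Ω, v ∈ F u → u ∈ F v
  hz : z ∈ Ω
  ha : a ∈ Ω
  p : H03.PP (F z) z (F a) a
  k : Pk z a (F z) (F a) L B
  k' : Pk a z (F a) (F z) L' B'

namespace Sy
variable (s : Sy Ω F z a L L' B B')
include s

theorem symm : Sy Ω F a z L' L B' B := ⟨s.cj, s.lx, s.ce, s.sym, s.ha, s.hz, s.p.symm, s.k', s.k⟩

theorem r1 (i : x ∈ B) (j : x ∈ F a) : x ∈ B' := by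
  obtain ⟨w, hw, g, g1, g2, r, r1, r2, rfl⟩ := s.k.s2 x i j
  refine mul_mem ?_ (s.k'.s1 g g2 g1 r r2 r1)
  rcases hw with rfl | rfl | rfl | rfl
  exacts [one_mem _, s.k'.aB, s.k'.zB, mul_mem s.k'.aB s.k'.zB]

theorem sq (i : x ∈ B) : x * x = 1 := by
  rcases s.k.orb x i with rfl | rfl | ⟨l, -, rfl⟩
  exacts [one_mul _, (s.lx _ s.hz).zz, (s.lx _ (s.cj _ s.ha l)).zz]

theorem ab (i : x ∈ B) (j : y ∈ B) : x * y = y * x := by
  rw [← mul_inv_eq_one, mul_inv_rev, inv_eq_of_mul_eq_one_right (s.sq i), inv_eq_of_mul_eq_one_right (s.sq j)]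
  exact s.sq (mul_mem i j)

theorem hpa : Hp (F a) B := hp_of (by rw [s.k.cB, s.k.cR])

theorem pt (i : b ∈ B) (n : b ≠ 1) : b ∈ Ω ∧ Hp (F b) B := by
  rcases s.k.orb b i with rfl | rfl | ⟨l, j, rfl⟩
  · exact absurd rfl n
  · exact ⟨s.hz, fun x i _ _ k => absurd (s.k.BQ i) k⟩
  · exact ⟨s.cj _ s.ha l, s.ce _ s.ha l ▸ s.hpa.cj (s.k.nB j)⟩

theorem cm (i : b ∈ B) (j : y ∈ B') : b * y = y * b := by
  by_contra n
  obtain ⟨b1, b2⟩ := s.pt i (by rintro rfl; simp at n)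
  obtain ⟨y1, y2⟩ := s.symm.pt j (by rintro rfl; simp at n)
  have c1 := (b2.mono (inf_le_left : B ⊓ F a ≤ B)).card
  have c2 := (y2.mono (W' := F b ⊓ (B ⊓ F a)) fun x k => s.r1 k.2.1 k.2.2).card
  rw [s.k.cR] at c1
  have f : ∀ e ∈ F y ⊓ (F b ⊓ (B ⊓ F a)), e ≠ 1 → b * y = e * y * b := fun e k n' => by
    have o := (s.pt k.2.2.1 n').1
    exact ((s.lx e o).cm (s.sym _ b1 _ o k.2.1) (s.sym _ y1 _ o k.1)).resolve_left n
  classical
  obtain ⟨e1, m1, n1⟩ := exS (U := F y ⊓ (F b ⊓ (B ⊓ F a))) {1} (by rw [Finset.card_singleton]; omega)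
  obtain ⟨e2, m2, n2⟩ := exS (U := F y ⊓ (F b ⊓ (B ⊓ F a))) {1, e1} (Finset.card_le_two.trans_lt (by omega))
  simp only [Finset.mem_insert, Finset.mem_singleton, not_or] at n1 n2
  exact n2.2 (mul_right_cancel (mul_right_cancel ((f _ m2 n2.1).symm.trans (f _ m1 n1))))

theorem cB : B' ≤ C_(B) := fun _ j => mem_cent.2 fun _ i => s.cm i j

theorem memA (i : x ∈ B ⊔ B') (j : y ∈ B') (n : y ∉ F z) : x ∈ B ∨ x * y ∈ B := by
  obtain ⟨b, k, c, k', rfl⟩ := (mem_sup_norm (le_norm_of_cent s.cB)).1 i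
  by_cases o : c ∈ F z
  · exact .inl (mul_mem k (s.symm.r1 k' o))
  · exact .inr (by rw [mul_assoc]; exact mul_mem k (s.symm.r1 (mul_mem k' j) (s.symm.hpa c k' y j o n)))

theorem exy : ∃ y ∈ B', y ∉ F z := by
  by_contra! k
  have := s.k'.cR
  rw [inf_eq_left.2 k, s.k'.cB] at this; omega

theorem AQ (i : x ∈ B ⊔ B') (j : x ∈ F z) : x ∈ B := by
  obtain ⟨y, k, n⟩ := s.exy
  exact (s.memA i k n).resolve_right fun o => n ((mul_mem_cancel_left j).1 (s.k.BQ o))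

theorem hpB : Hp B (B ⊔ B') := fun x i w j k k' => by
  obtain ⟨y, o, n⟩ := s.exy
  have a1 := (s.memA i o n).resolve_left k
  have a2 := (s.memA j o n).resolve_left k'
  have := mul_mem a1 a2
  rwa [mul_assoc, ← s.cm a2 o, mul_assoc w, s.symm.sq o, mul_one] at this

theorem nA : L ≤ N_(B ⊔ B') := le_norm_of_cj_le fun l i => by
  rw [cj_sup, cj_of_mem_norm (s.k.nB i)]
  refine sup_le le_sup_left fun x j => ?_
  replace j := mem_cj'.1 j
  obtain ⟨y, j, rfl⟩ := j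
  have c : l * y * l⁻¹ * y⁻¹ ∈ C_(B) :=
    mul_mem (conj_mem_of_norm (norm_cent s.k.nB i) (s.cB j)) (inv_mem (s.cB j))
  have m : l * y * l⁻¹ * y⁻¹ ∈ L := by
    rw [mul_assoc l, mul_assoc l]
    exact mul_mem i (conj_mem_of_norm (s.k.nL (cent_le_cent1 s.k.zB (s.cB j))) (inv_mem i))
  simpa using mul_mem (mem_sup_left (s.k.cc _ (s.k.fa _ m c) c)) (mem_sup_right j)

theorem good1 (i : b ∈ B) (n : b ≠ 1) : b ∈ Ω ∧ Hp (F b) (B ⊔ B') := by
  have t : Hp (F a) (B ⊔ B') := fun x i y j k k' => s.k'.BQ (s.symm.hpB x (sup_comm B B' ▸ i) y (sup_comm B B' ▸ j)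
    (fun o => k (s.k'.BQ o)) fun o => k' (s.k'.BQ o))
  rcases s.k.orb b i with rfl | rfl | ⟨l, j, rfl⟩
  · exact absurd rfl n
  · exact ⟨s.hz, fun x i y j k k' => s.k.BQ (s.hpB x i y j (fun o => k (s.k.BQ o)) fun o => k' (s.k.BQ o))⟩
  · exact ⟨s.cj _ s.ha l, s.ce _ s.ha l ▸ t.cj (s.nA j)⟩

theorem exe : ∃ e ∈ F z, ¬ Commute e a := by
  obtain ⟨e, i, k⟩ := s.p.h.lx.exists_conj s.p.hs (s.lx _ s.ha).zz s.p.notMem
  exact ⟨e, i, fun c => (s.lx _ s.hz).z1 (by rwa [c.eq, mul_inv_cancel_right, left_eq_mul] at k)⟩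

theorem good (i : u ∈ B ⊔ B') (n : u ≠ 1) : u ∈ Ω ∧ Hp (F u) (B ⊔ B') := by
  by_cases k : u ∈ B
  · exact s.good1 k n
  have t : ∀ v ∈ B', v ≠ 1 → v ∈ Ω ∧ Hp (F v) (B ⊔ B') := fun v i n => sup_comm B B' ▸ s.symm.good1 i n
  by_cases k' : u ∈ B'
  · exact t u k' n
  obtain ⟨e, eQ, ea⟩ := s.exe
  obtain ⟨y, j, o⟩ := s.exy
  have eN := s.nA (s.k.QL eQ)
  have yA := conj_mem_of_norm eN (mem_sup_right j)
  have a1 := s.hpB _ i _ yA k fun m => o (by simpa [mul_assoc] using (s.lx _ s.hz).cE' ((s.lx _ s.hz).le eQ) (s.k.BQ m))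
  have a2 := s.symm.hpB _ (sup_comm B B' ▸ i) _ (sup_comm B B' ▸ yA) k' fun m =>
    o (s.k.xe y (s.k'.BQ j) _ (inv_mem eQ) (mt Commute.inv_left_iff.1 ea) (by simpa using s.k'.BQ m))
  have a3 : e⁻¹ * (u * (e * y * e⁻¹)) * e⁻¹⁻¹ ∈ B' := by
    rcases (s.lx _ s.hz).cj2 (inv_mem eQ) (s.k.BQ a1) with m | m <;> rw [m]
    exacts [a2, mul_mem s.k'.aB a2]
  rw [show e⁻¹ * (u * (e * y * e⁻¹)) * e⁻¹⁻¹ = e⁻¹ * u * e * y by group, mul_mem_cancel_right j] at a3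
  obtain ⟨b1, b2⟩ := t _ a3 fun m => n (by simpa using conj_eq_one_iff.1 (by simpa using m : e⁻¹ * u * e⁻¹⁻¹ = 1))
  have := b2.cj eN
  rw [← s.ce _ b1, show e * (e⁻¹ * u * e) * e⁻¹ = u by group] at this
  exact ⟨by simpa [mul_assoc] using s.cj _ b1 e, this⟩

theorem no (c512 : Nat.card (F z) = 512) : False := by
  have h := s.lx _ s.hz
  obtain ⟨A, hA⟩ : ∃ A, A = B ⊔ B' := ⟨_, rfl⟩
  have BA : B ≤ A := hA ▸ le_sup_left
  have nA : L ≤ N_(A) := hA ▸ s.nA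
  have QA : ∀ e ∈ F z, ∀ x ∈ A, e * x * e⁻¹ ∈ A := fun e i x j => conj_mem_of_norm (nA (s.k.QL i)) j
  have gd : ∀ u ∈ A, u ≠ 1 → u ∈ Ω ∧ Hp (F u) A := fun u i n => hA ▸ s.good (hA ▸ i) n
  obtain ⟨c, hc⟩ : ∃ c : G → G → Prop, ∀ u v, c u v ↔ u = 1 ∨ v ∈ F u := ⟨_, fun _ _ => Iff.rfl⟩
  have c1 : ∀ u ∈ A, ∀ v ∈ A, c u v → c v u := fun u i v j k => by
    rw [hc] at *
    by_cases n : v = 1
    · exact .inl n
    by_cases n' : u = 1
    · exact .inr (n' ▸ one_mem _)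
    exact .inr (s.sym _ (gd u i n').1 _ (gd v j n).1 (k.resolve_left n'))
  have cs : ∀ u ∈ A, ∀ v ∈ A, c u v ↔ c v u := fun u i v j => ⟨c1 u i v j, c1 v j u i⟩
  have cr : ∀ u ∈ A, ∀ v ∈ A, ∀ w ∈ A, c u (v * w) ↔ (c u v ↔ c u w) := fun u i v j w k => by
    by_cases n : u = 1
    · simp [hc, n]
    · simp only [hc, n, false_or]; exact (gd u i n).2.iff j k
  have cl : ∀ u ∈ A, ∀ v ∈ A, ∀ w ∈ A, c (u * v) w ↔ (c u w ↔ c v w) := fun u i v j w k => by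
    rw [cs _ (mul_mem i j) _ k, cr _ k _ i _ j, cs _ k _ i, cs _ k _ j]
  have c0 : ∀ u ∈ A, c u u := fun u i => (hc _ _).2 ((em _).imp_right fun n => (s.lx _ (gd u i n).1).aes.mem)
  have cg : ∀ u ∈ A, ∀ g v, c (g * u * g⁻¹) (g * v * g⁻¹) ↔ c u v := fun u i g v => by
    by_cases n : u = 1
    · simp [hc, n]
    · simp only [hc, conj_eq_one_iff, s.ce _ (gd u i n).1, conj_mem_cj_iff]
  have zA := BA s.k.zB
  have cz : ∀ v ∈ A, c v z ↔ v ∈ B := fun v i => by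
    rw [cs _ i _ zA, hc, or_iff_right h.z1]; exact ⟨s.AQ (hA ▸ i), fun j => s.k.BQ j⟩
  have T1 : ∀ y ∈ A, ∀ b ∈ B, ∀ e ∈ F z, c (y * b) (e * (y * b) * e⁻¹) ↔ c y (e * y * e⁻¹) := fun y i b j e k => by
    have j' := BA j
    have a1 : c b (e * b * e⁻¹) := by
      rcases h.cj2 k (s.k.BQ j) with o | o <;> rw [o]
      exacts [c0 b j', (cr _ j' _ zA _ j').2 (iff_of_true ((cz b j').2 j) (c0 b j'))]
    have a2 : e⁻¹ * b * e = e * b * e⁻¹ := by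
      rcases h.cj2 k (s.k.BQ j) with o | o
      · rw [o, mul_assoc, inv_mul_eq_iff_eq_mul]; exact (mul_inv_eq_iff_eq_mul.1 o).symm
      · rw [o, h.ei k o]
    have a3 : c b (e * y * e⁻¹) ↔ c y (e * b * e⁻¹) := by
      rw [cs _ i _ (QA e k b j'), ← a2, ← cg _ (a2 ▸ QA e k b j') e y, show e * (e⁻¹ * b * e) * e⁻¹ = b by group]
    rw [← conj_mul, cl _ i _ j' _ (mul_mem (QA e k y i) (QA e k b j')), cr _ i _ (QA e k y i) _ (QA e k b j'),
      cr _ j' _ (QA e k y i) _ (QA e k b j'), a3]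
    tauto
  obtain ⟨y, yB, yQ⟩ := s.exy
  have yA : y ∈ A := hA ▸ mem_sup_right yB
  have yn : y ∉ B := fun o => yQ (s.k.BQ o)
  obtain ⟨e0, e0Q, tr⟩ := s.k.tr
  have T2 : ∀ e ∈ F z, e ∉ B → (c y (e * y * e⁻¹) ↔ c y (e0 * y * e0⁻¹)) := fun e i n => by
    obtain ⟨l, j, b, k, rfl⟩ := tr e i n
    have a1 := conj_mem_of_norm' (nA j) yA
    have a2 : y⁻¹ * (l⁻¹ * y * l) ∈ B := s.hpB _ (hA ▸ inv_mem yA) _ (hA ▸ a1) (by simpa using yn) fun o =>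
      yn (by simpa [mul_assoc] using conj_mem_of_norm (s.k.nB j) o)
    rw [← T1 y yA _ a2 e0 e0Q, mul_inv_cancel_left, ← cg _ a1 l, mul_assoc _ b, s.cm k yB]
    exact iff_of_eq (by congr 1 <;> group)
  obtain ⟨e, eQ, ea⟩ := s.exe
  have eB : e ∉ B := fun o => ea (s.ab o s.k.aB)
  have yz : y ∈ C_[z] := cent_le_cent1 s.k.zB (s.cB yB)
  obtain ⟨f, hf⟩ : ∃ f, f = y⁻¹ * (e * y * e⁻¹) := ⟨_, rfl⟩
  have fQ : f ∈ F z := by rw [hf, ← mul_assoc, ← mul_assoc]; exact mul_mem (h.cE' yz eQ) (inv_mem eQ)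
  have fA : f ∈ A := hf ▸ mul_mem (inv_mem yA) (QA e eQ y yA)
  have ef : e * y * e⁻¹ = y * f := by rw [hf, mul_inv_cancel_left]
  have T3 : ∀ x ∈ F z, x ∉ B → x * e ∉ B → (Commute x f ↔ c y (e0 * y * e0⁻¹)) := fun x i n n' => by
    have a1 := T2 _ (mul_mem i eQ) n'
    have a2 := T2 _ eQ eB
    have a3 := T2 _ i n
    rw [show x * e * y * (x * e)⁻¹ = x * (e * y * e⁻¹) * x⁻¹ by group, ef, ← conj_mul,
      cr _ yA _ (QA x i y yA) _ (QA x i f fA), a3] at a1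
    rw [ef, cr _ yA _ yA _ fA, iff_true_left (c0 y yA)] at a2
    rcases h.cj2 i fQ with o | o <;> rw [o] at a1
    · have : Commute x f := mul_inv_eq_iff_eq_mul.1 o
      tauto
    · have : ¬ Commute x f := fun k => h.z1 (by rwa [k.eq, mul_inv_cancel_right, right_eq_mul] at o)
      rw [cr _ yA _ zA _ fA, cz y yA] at a1
      tauto
  have big : 4 * Nat.card B < Nat.card (F z) := by rw [s.k.cB, c512]; omega
  obtain ⟨e1, i1, n1, n2, -⟩ := ex4 big id (· * e) id id Function.injective_id (mul_left_injective e)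
    Function.injective_id Function.injective_id
  obtain ⟨e3, i3, n3, n4, n5, n6⟩ := ex4 big id (· * e) (e1 * ·) (e1 * · * e) Function.injective_id (mul_left_injective e)
    (mul_right_injective e1) ((mul_left_injective e).comp (mul_right_injective e1))
  have t : c y (e0 * y * e0⁻¹) := by
    have := h.cmul i1 i3 fQ
    rw [T3 _ (mul_mem i1 i3) n5 n6, T3 _ i1 n1 n2, T3 _ i3 n3 n4] at this
    simpa using this
  have fB := s.AQ (hA ▸ fA) fQ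
  have e2 : e * e ∈ B := by
    rcases h.sq eQ with o | o <;> rw [← pow_two, o]
    exacts [one_mem _, s.k.zB]
  have ce : Commute e f := (XS.cl ((T3 _ i1 n1 n2).2 t)).1
    ((T3 _ (mul_mem i1 eQ) n2 (by rwa [mul_assoc, mul_mem_cancel_right e2])).2 t)
  have : f = 1 ∨ f = z := h.cz fun x i => by
    by_cases o : x ∈ B
    · exact s.ab o fB
    by_cases o' : x * e ∈ B
    · exact (XS.cr ce).1 (s.ab o' fB)
    · exact (T3 x i o o').2 t
  refine yQ (s.k.xe y (s.k'.BQ yB) _ (inv_mem eQ) (mt Commute.inv_left_iff.1 ea) ?_)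
  rw [inv_inv, ef]
  refine mul_mem (s.k'.BQ yB) ?_
  rcases this with rfl | rfl
  exacts [one_mem _, s.p.hz]

end Sy

theorem St.no (hG : pResidual 2 G = ⊤) (s : St z Q π) (i : x ∈ C_[z]) (o : Perm.sign (π x).1 ≠ 1) : False := by
  have h := s.lx
  have π1 : π 1 = 1 := (s.ker _ (one_mem _)).2 (one_mem _)
  let K : Subgroup G :=
    { carrier := {x | x ∈ C_[z] ∧ Perm.sign (π x).1 = 1}
      one_mem' := ⟨one_mem _, by simp [π1]⟩
      mul_mem' := fun i j => ⟨mul_mem i.1 j.1, by simp [s.mul _ i.1 _ j.1, i.2, j.2]⟩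
      inv_mem' := fun {x} i => ⟨inv_mem i.1, by
        have := congrArg (fun p => Perm.sign p.1) (s.mul _ (inv_mem i.1) _ i.1)
        simpa [π1, i.2] using this.symm⟩ }
  have hK : K.relIndex C_[z] = 2 := two_idx i (fun m => o m.2) fun x i y j n n' => ⟨mul_mem i j, by
    simp [s.mul _ i _ j, (Int.units_eq_one_or _).resolve_left fun e => n ⟨i, e⟩,
      (Int.units_eq_one_or _).resolve_left fun e => n' ⟨j, e⟩]⟩
  obtain ⟨g, m, n⟩ := h.fused (K := K) hG (by rw [s.card]; omega) (fun _ i => i.1) hK fun x i =>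
    ⟨h.le i, by simp [(s.ker _ (h.le i)).2 i]⟩
  have es : H03.ES Q z := ⟨h.aes, h.cent, h.norm⟩
  have big : 8 < Nat.card Q := by rw [s.card]; omega
  have p := es.pp m n big
  obtain ⟨L, B, k⟩ := s.pk p ((card_cj _ _).trans s.card)
  obtain ⟨L', B', k'⟩ := (s.cj g).pk p.symm s.card
  have e := tr_eq h.norm
  have e1 : tr z Q z = Q := by simpa [cj_one] using e 1
  refine Sy.no (Ω := {u | ∃ g, g * z * g⁻¹ = u}) (F := tr z Q) (z := z) (a := g * z * g⁻¹) (L := L) (L' := L') (B := B)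
    (B' := B') ⟨?_, ?_, ?_, ?_, ⟨1, by simp⟩, ⟨g, rfl⟩, ?_, ?_, ?_⟩ (e1.symm ▸ s.card)
  · rintro _ ⟨x, rfl⟩ y; exact ⟨y * x, by group⟩
  · rintro _ ⟨x, rfl⟩; rw [e]; exact h.cj x
  · rintro _ ⟨x, rfl⟩ y
    rw [e, cj_cj, ← e]; congr 1; group
  · rintro _ ⟨x, rfl⟩ _ ⟨y, rfl⟩ m
    rw [e] at *
    have := (es.cj x).lx.sym' (g := y * x⁻¹) (by convert m using 1; group) (by rwa [card_cj])
    rwa [cj_cj, inv_mul_cancel_right] at this
  all_goals rw [e, e1]; assumption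

end H01.XT
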