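import Mathlib
import Cfsg.Agent.H01.XT7

/-!
# `H01.XT.fin`: no simple group has an involution centralizer `2^{1+8}.K` with `A₃ × A₆ ≤ K ≤ S₃ × S₆`, `K ≰ A₃ × S₆`
-/

set_option autoImplicit false
open Cfsg BG Subgroup H01.XS Equiv

namespace H01.XT
universe u
variable {G : Type u} [Group G] [Finite G] {z : G}

theorem fin [IsSimpleGroup G] (hz : orderOf z = 2) (N : Subgroup C_[z]) [n : N.Normal] (hx : IsExtraspecial 2 N)
    (c : Nat.card N = 2 ^ 9) (hc : centralizer (N : Set C_[z]) ≤ N) {K : Type*} [Group K] (e : C_[z] ⧸ N ≃* K) (j : K →* P)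
    (inj : Function.Injective j) (ev : ∀ σ τ, Perm.sign σ = 1 → Perm.sign τ = 1 → ∃ k, j k = (σ, τ))
    (od : ∃ k, Perm.sign (j k).1 ≠ 1) : False := by
  classical
  obtain ⟨w, h1, h2, -⟩ := H04.exists_aes_of_isExtraspecial' hx
  have zc : (⟨z, mem_cent1_self z⟩ : C_[z]) ∈ centralizer (N : Set C_[z]) := fun x _ => Subtype.ext (mem_cent1.1 x.2)
  obtain rfl : ⟨z, mem_cent1_self z⟩ = w := (h1.eq_or (h2.le ⟨hc zc, zc⟩)).resolve_left fun e => by
    rw [show z = 1 from congrArg Subtype.val e] at hz; simp at hz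
  have a := h1.map C_[z].subtype (subtype_injective _)
  have h : LX z (N.map C_[z].subtype) := ⟨a, fun x i => by
    have m : (⟨x, cent_le_cent1 a.mem i⟩ : C_[z]) ∈ centralizer (N : Set C_[z]) :=
      fun y k => Subtype.ext (i _ ⟨y, k, rfl⟩)
    obtain ⟨k, e⟩ := h2.le ⟨hc m, m⟩
    exact ⟨k, congrArg Subtype.val e⟩, le_norm_iff.2 (by
      rintro g i _ ⟨k, hk, rfl⟩
      exact ⟨_, n.conj_mem k hk ⟨g, i⟩, rfl⟩)⟩
  have sj : ∀ k, ∃ x : C_[z], e (QuotientGroup.mk x) = k := fun k => by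
    obtain ⟨x, i⟩ := QuotientGroup.mk_surjective (e.symm k)
    exact ⟨x, by rw [i, e.apply_symm_apply]⟩
  have s : St z (N.map C_[z].subtype) fun x => if i : x ∈ C_[z] then j (e (QuotientGroup.mk ⟨x, i⟩)) else 1 := by
    refine ⟨h, (card_map_of_injective (subtype_injective _)).trans c, fun x i y k => ?_, fun x i => ?_, fun σ τ i k => ?_⟩
    · rw [dif_pos i, dif_pos k, dif_pos (mul_mem i k), ← map_mul, ← map_mul]; rfl
    · rw [dif_pos i, map_eq_one_iff j inj, map_eq_one_iff e e.injective, QuotientGroup.eq_one_iff]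
      exact ⟨fun k => ⟨_, k, rfl⟩, fun ⟨y, k, e⟩ => by obtain rfl : y = ⟨x, i⟩ := Subtype.ext e; exact k⟩
    · obtain ⟨k, o⟩ := ev σ τ i k
      obtain ⟨x, rfl⟩ := sj k
      exact ⟨x, x.2, by rw [dif_pos x.2]; exact o⟩
  obtain ⟨k, o⟩ := od
  obtain ⟨x, rfl⟩ := sj k
  refine s.no ((H03.pResidual_normal.eq_bot_or_eq_top).resolve_left fun b => ?_) x.2 (by rw [dif_pos x.2]; exact o)
  obtain ⟨k, o⟩ := ev (finRotate 3) 1 (by decide) (by simp)
  have := (((H03.pResidual_eq_bot_iff.1 b).to_subgroup C_[z]).to_quotient N).of_equiv e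
  obtain ⟨m, p⟩ := this.exists_orderOf_eq_pow k
  rw [← orderOf_injective j inj, o, show orderOf ((finRotate 3, 1) : P) = 3 from
    orderOf_eq_prime (by decide) (by decide)] at p
  rcases m with _ | m
  · simp at p
  · omega

end H01.XT
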